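import Cfsg.Agent.Lib.Classical.OmegaEvenComm.Plane

/-!
# Large lower blocks
-/

set_option autoImplicit false
set_option linter.unusedSectionVars false
set_option linter.unusedSimpArgs false

namespace CfsgLib.OmegaEvenComm

open Matrix CfsgLib.SUComm CfsgLib.Classical CfsgLib.Classical.Spin
open CfsgLib.OmegaComm (Cyc cyc_of_hess Hess)

variable {F : Type*} [Field F] [Fintype F] {α β : Type} [Fintype α] [DecidableEq α] [Fintype β] [DecidableEq β]
  {A : Matrix β β F}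

theorem exists_valid (hA : IsUnit (gB A).det) (hT : Two A) (hN : 3 ≤ Fintype.card α) :
    ∃ (T : Matrix α α F) (τ : Matrix β β F), Valid A T τ := by
  obtain ⟨T, τ, P, R, h, -⟩ :=
    (cellFree_of (A := A) hA hT hN (a := 1) (Or.inl rfl)).submatrix (Fintype.equivFin α)
  exact ⟨T, τ, h⟩

theorem sgood_of_mem (hA : IsUnit (gB A).det) (hT : Two A) (hN : 3 ≤ Fintype.card α) {g : Grp A α}
    (hg : g ∈ commutator (Grp A α)) : SGood g := by
  obtain ⟨D, θ, hΩ, hlev, hmid, -⟩ := exists_cls (α := α) hA hN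
  exact sgood_of_chars hA (exists_valid hA hT hN) D θ hlev (fun w hw => (hmid w hw).1) ((hΩ g).1 hg).1
    ((hΩ g).1 hg).2

/-- A corner in Hessenberg form over a scalar of size at most one. -/
theorem hess_append {k r : ℕ} (hr : r ≤ 1) {a : Matrix (Fin k) (Fin k) F} (ha : Hess a) {R : Matrix (Fin r) (Fin k) F}
    (hR : ∀ i j, R i j ≠ 0 ↔ (j : ℕ) + 1 = k) (b : Matrix (Fin k) (Fin r) F) (d : Matrix (Fin r) (Fin r) F) :
    Hess ((fromBlocks a b R d).submatrix finSumFinEquiv.symm finSumFinEquiv.symm) := fun i j => by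
  obtain ⟨i, rfl⟩ := finSumFinEquiv.surjective i
  obtain ⟨j, rfl⟩ := finSumFinEquiv.surjective j
  rcases i with i | i <;> rcases j with j | j <;>
    simp only [submatrix_apply, Equiv.symm_apply_apply, fromBlocks_apply₁₁, fromBlocks_apply₁₂, fromBlocks_apply₂₁,
      fromBlocks_apply₂₂, finSumFinEquiv_apply_left, finSumFinEquiv_apply_right, Fin.val_castAdd, Fin.val_natAdd,
      finSumFinEquiv_symm_apply_castAdd, finSumFinEquiv_symm_apply_natAdd]
  · exact ha i j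
  · exact ⟨fun h => by omega, fun h => by omega⟩
  · refine ⟨fun h => ?_, fun h => (hR i j).2 (by omega)⟩
    by_contra h'
    have := (hR i j).1 h'
    omega
  · exact ⟨fun h => by omega, fun h => by omega⟩

theorem cellFree_of_hess {k r : ℕ} (hA : IsUnit (gB A).det) (hT : Two A) (hN : 3 ≤ k + r)
    {C : Matrix (Fin k ⊕ Fin r) (Fin k ⊕ Fin r) F}
    (hC : C = 1 ∨ (Hess (C.submatrix finSumFinEquiv.symm finSumFinEquiv.symm) ∧ C.det = 1)) : CellFree A C := by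
  have hc : C.submatrix finSumFinEquiv.symm finSumFinEquiv.symm = 1 ∨
      (Cyc (C.submatrix finSumFinEquiv.symm finSumFinEquiv.symm) ∧
        (C.submatrix finSumFinEquiv.symm finSumFinEquiv.symm).det = 1) := by
    rcases hC with rfl | ⟨h, hd⟩
    · exact Or.inl (submatrix_one_equiv _)
    · exact Or.inr ⟨cyc_of_hess h, by rw [det_submatrix_equiv_self, hd]⟩
  have := (cellFree_of (A := A) hA hT hN hc).submatrix finSumFinEquiv
  rwa [submatrix_submatrix, Equiv.symm_comp_self, submatrix_id_id] at this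

/-- An adapted element with a kernel of dimension at most one. -/
theorem isC_adapted {k r : ℕ} (hA : IsUnit (gB A).det) (hc2 : Cls2 A) (hT : Two A) (hk : 0 < k) (hr : r ≤ 1)
    (hN : 3 ≤ k + r) (hev : (∃ w : β → F, w ⬝ᵥ A *ᵥ w ≠ 0) ∨ Even k) {l : F} (hl : r = 0 ∨ l ≠ 0)
    (hbad : (∀ w : β → F, w ⬝ᵥ A *ᵥ w = 0) → r = 0 ∨ l = 1) {g : Grp A (Fin k ⊕ Fin r)} (had : Adapted g l)
    (hg : g ∈ commutator (Grp A (Fin k ⊕ Fin r))) : IsC g := by
  obtain ⟨G, a₁, a₂, d₁, hG, h1, h2, h3⟩ := had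
  have hl' : IsEmpty (Fin r) ∨ l ≠ 0 := hl.imp (fun h => by subst h; infer_instance) id
  obtain ⟨a, ha, hR⟩ := exists_good_corner hA hc2 hk hev hG h1 h2 h3 hl'
    (sgood_of_mem hA hT (by simp; omega) hg)
  rw [Fintype.card_fin] at ha
  rcases ha with ⟨hH, hd⟩ | ⟨ha1, hw⟩
  · obtain ⟨R, hRdef⟩ : ∃ R : Matrix (Fin r) (Fin k) F,
        R = Matrix.of fun _ (j : Fin k) => if (j : ℕ) + 1 = k then 1 else 0 := ⟨_, rfl⟩
    obtain ⟨x, hx, hxs⟩ := hR R
    refine IsC.of_conj (z := x) (isC_of_cellFree hA (by simp; omega) ?_ hxs)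
    rw [hx]
    refine cellFree_of_hess hA hT hN (Or.inr ⟨hess_append hr hH (fun i j => by simp [hRdef]) 0 _, ?_⟩)
    rw [det_fromBlocks_zero₁₂, det_smul, det_one, mul_one, Fintype.card_fin, hd]
  · obtain ⟨x, hx, hxs⟩ := hR 0
    refine IsC.of_conj (z := x) (isC_of_cellFree hA (by simp; omega) ?_ hxs)
    rw [hx]
    refine cellFree_of_hess hA hT hN (Or.inl ?_)
    rw [ha1, ← fromBlocks_one]
    rcases hbad hw with rfl | rfl
    · exact congrArg _ (Subsingleton.elim _ _)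
    · rw [one_smul]

/-- Full rank. -/
theorem isC_full {k : ℕ} (hA : IsUnit (gB A).det) (hc2 : Cls2 A) (hT : Two A) (hk : 3 ≤ k)
    (hev : (∃ w : β → F, w ⬝ᵥ A *ᵥ w ≠ 0) ∨ Even k) {g : Grp A (Fin k)} (hG : IsUnit (gblk (toM g)).det)
    (hg : g ∈ commutator (Grp A (Fin k))) : IsC g := by
  obtain ⟨σ, hσ⟩ : ∃ σ : Fin k ⊕ Fin 0 ≃ Fin k, σ = Equiv.sumEmpty (Fin k) (Fin 0) := ⟨_, rfl⟩
  refine IsC.of_ren hA σ (isC_adapted (l := 1) hA hc2 hT (by omega) (by omega) (by omega) hev (Or.inl rfl)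
    (fun _ => Or.inl rfl) ⟨gblk (toM g), corner (toM g), 0, dblk (toM g), hG, ?_, ?_, ?_⟩
    (map_commutator_mem _ hg))
  all_goals rw [toM_renG]
  · rw [gblk_submatrix_ren]
    ext (i | i) (j | j)
    · simp [hσ]
    all_goals first | exact i.elim0 | exact j.elim0
  · rw [corner_submatrix_ren]
    ext (i | i) (j | j)
    · simp [hσ]
    all_goals first | exact i.elim0 | exact j.elim0
  · rw [dblk_submatrix_ren]
    ext i (j | j)
    · simp [hσ]
    · exact j.elim0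

/-! ### Parity -/

theorem exists_flips (hA : IsUnit (gB A).det) (D : Grp A α →* Multiplicative (ZMod 2))
    (hD : ∀ x : α, D (mkG hA (flipM x)) = Multiplicative.ofAdd 1) (s : Finset α) :
    ∃ J : Grp A α, D J = Multiplicative.ofAdd (s.card : ZMod 2) ∧ ∀ (v : Idx α β → F) (i : α),
      (toM J *ᵥ v) (.inl i) = (if i ∈ s then v (.inr (.inr i)) else v (.inl i)) ∧
        (toM J *ᵥ v) (.inr (.inr i)) = if i ∈ s then v (.inl i) else v (.inr (.inr i)) := by
  induction s using Finset.induction_on with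
  | empty => exact ⟨1, by simp, fun v i => by simp⟩
  | @insert x s hx ih =>
    obtain ⟨J, hJ, hJv⟩ := ih
    refine ⟨mkG hA (flipM x) * J, ?_, fun v i => ?_⟩
    · rw [map_mul, hD, hJ, Finset.card_insert_of_notMem hx, ← ofAdd_add, Nat.cast_add, Nat.cast_one, add_comm]
    · rw [toM_mul, toM_mkG hA (isom_flipM A x), ← mulVec_mulVec, flipM_mulVec]
      rcases eq_or_ne i x with rfl | hi
      · simp [(hJv v i).1, (hJv v i).2, hx]
      · simp [Equiv.swap_apply_def, hi, (hJv v i).1, (hJv v i).2]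

/-- Without a middle the rank of the lower block is even. -/
theorem even_of_shape [IsEmpty β] {k r : ℕ} (hA : IsUnit (gB A).det) (hN : 3 ≤ k + r) {g : Grp A (Fin k ⊕ Fin r)}
    (hg : g ∈ commutator (Grp A (Fin k ⊕ Fin r))) {G : Matrix (Fin k) (Fin k) F} {u : Matrix (Fin r) (Fin k) F}
    (hgb : gblk (toM g) = fromBlocks G 0 u 0) {a : Matrix (Fin k) (Fin k) F} {b : Matrix (Fin k) (Fin r) F}
    {c : Matrix (Fin r) (Fin k) F} {d : Matrix (Fin r) (Fin r) F} (hc : corner (toM g) = fromBlocks a b c d)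
    (hG : IsUnit G.det) (hd : IsUnit d.det) : Even k := by
  classical
  have hcard : 3 ≤ Fintype.card (Fin k ⊕ Fin r) := by simp; omega
  obtain ⟨D, θ, hΩ, hlev, -, hflip, -⟩ := exists_cls (α := Fin k ⊕ Fin r) hA hcard
  obtain ⟨J, hJ, hJv⟩ := exists_flips hA D hflip ((Finset.univ : Finset (Fin k)).map ⟨Sum.inl, Sum.inl_injective⟩)
  obtain ⟨g', hg'⟩ : ∃ g', g' = J * g := ⟨_, rfl⟩
  have hcor : corner (toM g') = fromBlocks G 0 c d := by
    ext i j
    show toM g' (.inl i) (.inl j) = _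
    rw [hg', toM_mul]
    have e : (toM J * toM g) (.inl i) (.inl j) = (toM J *ᵥ fun t => toM g t (.inl j)) (.inl i) := rfl
    rw [e, (hJv _ i).1]
    rcases i with i | i
    · rw [if_pos (by simp)]
      show gblk (toM g) (.inl i) j = _
      rw [hgb]; rcases j with j | j <;> rfl
    · rw [if_neg (by simp)]
      show corner (toM g) (.inr i) j = _
      rw [hc]; rcases j with j | j <;> rfl
  have hx : IsUnit (corner (toM g')).det := by rw [hcor, det_fromBlocks_zero₁₂]; exact hG.mul hd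
  obtain ⟨T, τ, hV⟩ := exists_valid (α := Fin k ⊕ Fin r) hA two_of_isEmpty hcard
  obtain ⟨hmid, v, hv, w, hw, he⟩ := exists_ldu hA g' hx
  have ker : ∀ z : Grp A (Fin k ⊕ Fin r), z ∈ Cfsg.Omega F ⇑(qG A (Fin k ⊕ Fin r)) → D z = 1 := fun z hz =>
    MonoidHom.mem_ker.1 (Abelianization.commutator_subset_ker D hz)
  have h1 : D g' = 1 := by
    rw [he, map_mul, map_mul, ker v (lowS_le_omega hA hV v hv), ker w (upS_le_omega hA hV w hw),
      Subsingleton.elim (schur (toM g')) 1, (hlev _ hx).1, one_mul, mul_one]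
  rw [hg', map_mul, hJ, ((hΩ g).1 hg).1, mul_one, ← ofAdd_zero, Multiplicative.ofAdd.apply_eq_iff_eq,
    Finset.card_map, Finset.card_univ, Fintype.card_fin, ZMod.natCast_eq_zero_iff_even] at h1
  exact h1

/-! ### A kernel of dimension one -/

/-- Two elements, no middle, the kernel off the left kernel. -/
theorem isC_skew [IsEmpty β] {k : ℕ} (hA : IsUnit (gB A).det) (hF : Fintype.card F = 2) (hk : 0 < k) (hN : 3 ≤ k + 1)
    {g : Grp A (Fin k ⊕ Fin 1)} {G a : Matrix (Fin k) (Fin k) F} {h₀ : Matrix (Fin k) (Fin 1) F}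
    {a₂ : Matrix (Fin 1) (Fin k) F} (hG : IsUnit G.det) (hgb : gblk (toM g) = fromBlocks G 0 (-(h₀ᵀ * G)) 0)
    (hc : corner (toM g) = fromBlocks a h₀ a₂ 1) (hnalt : ¬Alt G)
    (hg : g ∈ commutator (Grp A (Fin k ⊕ Fin 1))) : IsC g := by
  classical
  have hev := even_of_shape hA hN hg hgb hc hG (by simp)
  obtain ⟨B, D, hB, hD, -, hreach⟩ := exists_reach (A := A) hk hG.ne_zero (R := 1) (Or.inr ⟨hev, Or.inl rfl⟩)
  obtain ⟨S, μ, hS, hSu, -, hP⟩ := hreach 1 one_ne_zero (by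
    rw [mul_one, eq_one_of_card_two hF hD]; exact IsSquare.one)
  obtain rfl : μ = 0 := Subsingleton.elim _ _
  simp only [Matrix.mul_zero, add_zero] at hS
  obtain ⟨G', hG'⟩ : ∃ G', G' = Bᵀ * G * B := ⟨_, rfl⟩
  rw [← hG'] at hP
  rcases hP with ⟨hH, -⟩ | ⟨h1, -⟩
  swap
  · refine absurd ?_ hnalt
    have : G = (B⁻¹)ᵀ * S⁻¹ * B⁻¹ := by
      rw [inv_eq_right_inv h1, hG', ← Matrix.mul_assoc, ← Matrix.mul_assoc, ← transpose_mul,
        mul_nonsing_inv _ hB, transpose_one, Matrix.one_mul, Matrix.mul_assoc, mul_nonsing_inv _ hB, Matrix.mul_one]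
    rw [this]
    refine Alt.conj ?_ _
    have h := hS.conj S⁻¹
    rw [Matrix.mul_assoc, mul_nonsing_inv _ hSu, Matrix.mul_one] at h
    exact alt_transpose.1 h
  obtain ⟨Bb, hBb⟩ : ∃ Bb : Matrix (Fin k ⊕ Fin 1) (Fin k ⊕ Fin 1) F, Bb = fromBlocks B 0 0 1 := ⟨_, rfl⟩
  have hBu : IsUnit Bb.det := by rw [hBb, det_fromBlocks_zero₂₁, det_one, mul_one]; exact hB
  obtain ⟨hca, hcg, -⟩ := conj_lev_parts hA hBu g
  obtain ⟨g₁, hg₁⟩ : ∃ g₁, g₁ = mkG hA (lev Bb⁻¹ 1) * g * (mkG hA (lev Bb⁻¹ 1))⁻¹ := ⟨_, rfl⟩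
  rw [← hg₁] at hca hcg
  have hBi : Bb⁻¹ = fromBlocks B⁻¹ 0 0 1 := inv_eq_right_inv (by
    rw [hBb, fromBlocks_multiply, mul_nonsing_inv _ hB]; simp [fromBlocks_one])
  obtain ⟨h₁, hh₁⟩ : ∃ h₁, h₁ = B⁻¹ * h₀ := ⟨_, rfl⟩
  have hgb₁ : gblk (toM g₁) = fromBlocks G' 0 (-(h₁ᵀ * G')) 0 := by
    rw [hcg, hgb, hBb, fromBlocks_transpose, fromBlocks_multiply, fromBlocks_multiply]
    simp [hG', hh₁, transpose_nonsing_inv, Matrix.mul_assoc]
    rw [← Matrix.mul_assoc (Bᵀ)⁻¹ Bᵀ, nonsing_inv_mul _ (by rwa [det_transpose]), Matrix.one_mul]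
  have hc₁ : corner (toM g₁) = fromBlocks (B⁻¹ * a * B) h₁ (a₂ * B) 1 := by
    rw [hca, hc, hBi, hBb, fromBlocks_multiply, fromBlocks_multiply]
    simp [hh₁, Matrix.mul_assoc]
  obtain ⟨M₀, b₀, c₀, d₀, e₀, f₀, g₀, h', i₀, hM⟩ := exists_blk (toM g₁)
  rw [hM, gblk_blk] at hgb₁
  rw [hM, corner_blk] at hc₁
  obtain ⟨r1, -⟩ := (hM ▸ isom_toM g₁ : Isom A _).rel
  have hG'u : IsUnit G'.det := by
    rw [hG', det_mul, det_mul, det_transpose]; exact (hB.mul hG).mul hB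
  obtain ⟨C, hCdef⟩ : ∃ C, C = (B⁻¹ * a * B - h₁ * (a₂ * B)) * G'⁻¹ := ⟨_, rfl⟩
  have hC : Alt C := by
    have e' : (fromRows (1 : Matrix (Fin k) (Fin k) F) (0 : Matrix (Fin 1) (Fin k) F))ᵀ *
        (M₀ᵀ * g₀ + d₀ᵀ * A * d₀) * fromRows (1 : Matrix (Fin k) (Fin k) F) (0 : Matrix (Fin 1) (Fin k) F) =
          (B⁻¹ * a * B - h₁ * (a₂ * B))ᵀ * G' := by
      rw [Subsingleton.elim d₀ 0, hc₁, hgb₁, fromBlocks_transpose, fromBlocks_multiply, transpose_fromRows]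
      simp [fromCols_mul_fromBlocks, fromCols_mul_fromRows, fromBlocks_add, Matrix.add_mul, Matrix.neg_mul,
        Matrix.mul_assoc, sub_eq_add_neg]
    have h := alt_transpose.2 ((e' ▸ r1.conj _ : Alt _).conj G'⁻¹)
    rw [hCdef]
    rwa [Matrix.mul_assoc, Matrix.mul_assoc, mul_nonsing_inv _ hG'u, Matrix.mul_one, transpose_mul,
      transpose_transpose, transpose_transpose] at h
  obtain ⟨ψ, hψ⟩ : ∃ ψ : Matrix (Fin 1) (Fin k) F, ψ = Matrix.of fun _ (j : Fin k) => if (j : ℕ) + 1 = k then 1 else 0 :=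
    ⟨_, rfl⟩
  obtain ⟨L, hL⟩ : ∃ L, L = (ψ - a₂ * B) * G'⁻¹ := ⟨_, rfl⟩
  obtain ⟨K, hK⟩ : ∃ K, K = fromBlocks (S - C + (h₁ * L - (h₁ * L)ᵀ)) (-Lᵀ) L (0 : Matrix (Fin 1) (Fin 1) F) := ⟨_, rfl⟩
  have hKa : Alt (K + (0 : Matrix β (Fin k ⊕ Fin 1) F)ᵀ * A * (0 : Matrix β (Fin k ⊕ Fin 1) F)) := by
    rw [Matrix.mul_zero, add_zero, hK]
    refine alt_fromBlocks ?_ L
    rw [sub_eq_add_neg S]
    exact (hS.add hC.neg).add (alt_sub_transpose _)
  obtain ⟨x, hx⟩ : ∃ x, x = mkG hA (upp A (0 : Matrix β (Fin k ⊕ Fin 1) F) K) := ⟨_, rfl⟩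
  obtain ⟨e1, -⟩ := conj_upp_blk (A := A) (0 : Matrix β (Fin k ⊕ Fin 1) F) K M₀ b₀ c₀ d₀ e₀ f₀ g₀ h' i₀
  have hxg : toM (x * g₁ * x⁻¹) = upp A (0 : Matrix β (Fin k ⊕ Fin 1) F) K * blk M₀ b₀ c₀ d₀ e₀ f₀ g₀ h' i₀ *
      upp A (-(0 : Matrix β (Fin k ⊕ Fin 1) F)) (-K - (0 : Matrix β (Fin k ⊕ Fin 1) F)ᵀ * gB A * (0 : Matrix β (Fin k ⊕ Fin 1) F)) := by
    rw [toM_mul, toM_mul, hx, toM_mkG hA (isom_upp hKa), toM_inv_upp hA hKa, hM]
  rw [← hxg, hc₁, hgb₁, hK, fromBlocks_multiply] at e1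
  have hGG : G'⁻¹ * G' = 1 := nonsing_inv_mul _ hG'u
  have hcorner : corner (toM (x * g₁ * x⁻¹)) = fromBlocks (S * G' + h₁ * ψ) h₁ ψ 1 := by
    rw [e1]
    simp only [transpose_zero, Matrix.zero_mul, sub_zero, Matrix.mul_zero, add_zero, fromBlocks_add, fromBlocks_inj,
      true_and, and_true]
    refine ⟨?_, ?_⟩
    · have hLG : L * G' = ψ - a₂ * B := by rw [hL, Matrix.mul_assoc, hGG, Matrix.mul_one]
      rw [hCdef]
      simp only [Matrix.add_mul, Matrix.sub_mul, transpose_mul, Matrix.neg_mul, Matrix.mul_neg, Matrix.mul_assoc, hGG,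
        Matrix.mul_one, hLG, Matrix.mul_sub]
      abel
    · rw [hL, Matrix.mul_assoc, hGG, Matrix.mul_one]
      abel
  refine IsC.of_conj (z := mkG hA (lev Bb⁻¹ 1)) ?_
  rw [← hg₁]
  refine IsC.of_conj (z := x) (isC_of_cellFree hA (by simp; omega) ?_ (Subsingleton.elim _ _))
  rw [hcorner]
  refine cellFree_of_hess hA two_of_isEmpty hN (Or.inr ⟨hess_append le_rfl ?_ (fun i j => by simp [hψ]) _ _, ?_⟩)
  · intro i j
    have e : (h₁ * ψ) i j = if (j : ℕ) + 1 = k then h₁ i 0 else 0 := by simp [hψ, Matrix.mul_apply]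
    refine ⟨fun hij => ?_, fun hij => ?_⟩
    · rw [Matrix.add_apply, e, (hH i j).1 hij, if_neg (by omega), add_zero]
    · rw [Matrix.add_apply, e, if_neg (by omega), add_zero]
      exact (hH i j).2 hij
  · refine eq_one_of_card_two hF ?_
    rw [det_fromBlocks_one₂₂, add_sub_cancel_right, det_mul]
    exact (hSu.mul hG'u).ne_zero

/-- Coordinates in which the kernel is the last axis and the left kernel leaves the chosen hyperplane. -/
theorem exists_skew_basis {k : ℕ} (hA : IsUnit (gB A).det) (han : Aniso A) (hF : Fintype.card F = 2)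
    {g : Grp A (Fin k ⊕ Fin 1)} (hrk : (gblk (toM g)).rank = k) :
    ∃ (B : Matrix (Fin k ⊕ Fin 1) (Fin k ⊕ Fin 1) F) (G a : Matrix (Fin k) (Fin k) F) (h₀ : Matrix (Fin k) (Fin 1) F)
      (a₂ : Matrix (Fin 1) (Fin k) F), IsUnit B.det ∧ IsUnit G.det ∧
      gblk (toM (mkG hA (lev B⁻¹ 1) * g * (mkG hA (lev B⁻¹ 1))⁻¹)) = fromBlocks G 0 (-(h₀ᵀ * G)) 0 ∧
      corner (toM (mkG hA (lev B⁻¹ 1) * g * (mkG hA (lev B⁻¹ 1))⁻¹)) = fromBlocks a h₀ a₂ 1 ∧
      (Alt G → h₀ = 0) := by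
  classical
  obtain ⟨Y, hYu, hY⟩ := exists_basis hrk
  obtain ⟨y, hy⟩ : ∃ y, y = Y *ᵥ Pi.single (.inr 0) 1 := ⟨_, rfl⟩
  have hgy : gblk (toM g) *ᵥ y = 0 := hy ▸ hY 0
  obtain ⟨z, hz⟩ : ∃ z, z = corner (toM g) *ᵥ y := ⟨_, rfl⟩
  have hdy := dblk_mulVec_ker han g hgy
  have hzg : z ᵥ* gblk (toM g) = 0 := hz ▸ corner_mem_left_ker g hgy hdy
  have hy0 : y ≠ 0 := fun h => by
    have h1 := congrArg (fun v => Y⁻¹ *ᵥ v) (hy.symm.trans h)
    simp only [mulVec_mulVec, nonsing_inv_mul _ hYu, one_mulVec, mulVec_zero] at h1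
    have := congrFun h1 (Sum.inr 0)
    simp at this
  have hz0 : z ≠ 0 := fun h => hy0 (eq_zero_of_blocks g (hz ▸ h) hdy hgy)
  obtain ⟨v, hvy, hvz, hv⟩ : ∃ v, v ≠ y ∧ v ≠ z ∧ (Alt (gblk (toM g)) ∨ v ⬝ᵥ gblk (toM g) *ᵥ v ≠ 0) := by
    by_cases h : Alt (gblk (toM g))
    · exact ⟨0, hy0.symm, hz0.symm, Or.inl h⟩
    · simp only [Alt, not_forall] at h
      obtain ⟨v, hv⟩ := h
      refine ⟨v, fun e => hv ?_, fun e => hv ?_, Or.inr hv⟩
      · rw [e, hgy, dotProduct_zero]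
      · rw [e, dotProduct_mulVec, hzg, zero_dotProduct]
  have h01 : ∀ x : F, x = 0 ∨ x = 1 := fun x => (eq_or_ne x 0).imp id (eq_one_of_card_two hF)
  have hW : y ∉ Submodule.span F ({v, y - z} : Set (Fin k ⊕ Fin 1 → F)) := by
    intro h
    obtain ⟨s, t, e⟩ := Submodule.mem_span_pair.1 h
    rcases h01 s with rfl | rfl <;> rcases h01 t with rfl | rfl <;> simp at e
    · exact hy0 e.symm
    · exact hz0 e
    · exact hvy e
    · exact hvz (sub_eq_zero.1 (by linear_combination (norm := abel) e))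
  obtain ⟨f, hfy, hf⟩ := Submodule.exists_dual_map_eq_bot_of_notMem hW inferInstance
  have hker : ∀ u ∈ Submodule.span F ({v, y - z} : Set (Fin k ⊕ Fin 1 → F)), f u = 0 := fun u hu => by
    have : f u ∈ (⊥ : Submodule F F) := hf ▸ Submodule.mem_map_of_mem hu
    exact (Submodule.mem_bot F).1 this
  have hfv : f v = 0 := hker v (Submodule.subset_span (by simp))
  have hfz : f z = f y := by
    have := hker (y - z) (Submodule.subset_span (by simp))
    rw [map_sub, sub_eq_zero] at this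
    exact this.symm
  have hker' : Module.finrank F (LinearMap.ker f) = k := by
    have h := f.finrank_range_add_finrank_ker
    rw [LinearMap.range_eq_top.2 (LinearMap.surjective (fun e => hfy (by rw [e]; rfl))), finrank_top,
      Module.finrank_self, Module.finrank_pi, Fintype.card_sum, Fintype.card_fin, Fintype.card_fin] at h
    omega
  let b := Module.finBasisOfFinrankEq F (LinearMap.ker f) hker'
  obtain ⟨B, hB⟩ : ∃ B : Matrix (Fin k ⊕ Fin 1) (Fin k ⊕ Fin 1) F,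
      B = Matrix.of fun i j => Sum.elim (fun c => (b c : Fin k ⊕ Fin 1 → F) i) (fun _ => y i) j := ⟨_, rfl⟩
  have hBv : ∀ (c : Fin k → F) (t : Fin 1 → F), B *ᵥ Sum.elim c t =
      ((∑ i, c i • b i : LinearMap.ker f) : Fin k ⊕ Fin 1 → F) + t 0 • y := fun c t => by
    funext i
    simp [hB, mulVec, dotProduct, Fintype.sum_sum_type, Finset.sum_apply, mul_comm]
  have hBu : IsUnit B.det := by
    rw [isUnit_iff_ne_zero]
    intro h
    obtain ⟨u, hu0, hu⟩ := Matrix.exists_mulVec_eq_zero_iff.2 h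
    obtain ⟨c, t, rfl⟩ : ∃ c t, u = Sum.elim c t := ⟨_, _, (Sum.elim_comp_inl_inr u).symm⟩
    rw [hBv] at hu
    have ht : t 0 = 0 := by
      have := congrArg f hu
      rw [map_add, map_zero, LinearMap.map_coe_ker, map_smul, zero_add, smul_eq_mul] at this
      exact (mul_eq_zero.1 this).resolve_right hfy
    rw [ht, zero_smul, add_zero] at hu
    have hc : ∀ i, c i = 0 := Fintype.linearIndependent_iff.1 b.linearIndependent c (Subtype.ext hu)
    refine hu0 (funext fun i => ?_)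
    rcases i with i | i
    · exact hc i
    · rw [Subsingleton.elim i 0]; exact ht
  have hyB : B *ᵥ Pi.single (.inr 0) 1 = y := by
    funext i; simp [hB, mulVec_single]
  obtain ⟨hca, hcg, -⟩ := conj_lev_parts hA hBu g
  obtain ⟨g', hg'⟩ : ∃ g', g' = mkG hA (lev B⁻¹ 1) * g * (mkG hA (lev B⁻¹ 1))⁻¹ := ⟨_, rfl⟩
  rw [← hg'] at hca hcg
  have hgj : gblk (toM g') *ᵥ Pi.single (.inr 0) 1 = 0 := by
    rw [hcg, ← mulVec_mulVec, ← mulVec_mulVec, hyB, hgy, mulVec_zero]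
  have haj : corner (toM g') *ᵥ Pi.single (.inr 0) 1 = B⁻¹ *ᵥ z := by
    rw [hca, ← mulVec_mulVec, ← mulVec_mulVec, hyB, hz]
  obtain ⟨c, t, hct⟩ : ∃ c t, B⁻¹ *ᵥ z = Sum.elim c t := ⟨_, _, (Sum.elim_comp_inl_inr _).symm⟩
  have hzB : B *ᵥ Sum.elim c t = z := by rw [← hct, mulVec_mulVec, mul_nonsing_inv _ hBu, one_mulVec]
  have ht : t 0 = 1 := by
    have h := congrArg f hzB
    rw [hBv, map_add, LinearMap.map_coe_ker, map_smul, zero_add, smul_eq_mul, hfz] at h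
    exact mul_right_cancel₀ hfy (by rw [h, one_mul])
  have hleft : Sum.elim c t ᵥ* gblk (toM g') = 0 := by
    rw [hcg, ← vecMul_vecMul, ← vecMul_vecMul, ← mulVec_transpose Bᵀ, transpose_transpose, hzB, hzg, zero_vecMul]
  obtain ⟨G, hG⟩ : ∃ G, G = (gblk (toM g')).toBlocks₁₁ := ⟨_, rfl⟩
  obtain ⟨h₀, hh₀⟩ : ∃ h₀ : Matrix (Fin k) (Fin 1) F, h₀ = replicateCol (Fin 1) c := ⟨_, rfl⟩
  have hg : gblk (toM g') = fromBlocks G 0 (-(h₀ᵀ * G)) 0 := by
    ext (i | i) (j | j)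
    · simp [hG, toBlocks₁₁]
    · simpa [mulVec_single, Subsingleton.elim j 0] using congrFun hgj (.inl i)
    · have h := congrFun hleft (.inl j)
      simp [vecMul, dotProduct, Fintype.sum_sum_type, ht] at h
      simp [hG, hh₀, Matrix.mul_apply, toBlocks₁₁, Subsingleton.elim i 0]
      linear_combination h
    · simpa [mulVec_single, Subsingleton.elim j 0] using congrFun hgj (.inr i)
  have hGu : IsUnit G.det := by
    refine isUnit_det_of_rank (le_antisymm ((Matrix.rank_le_card_width G).trans (by simp)) ?_)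
    have e : gblk (toM g') = fromBlocks 1 0 (-h₀ᵀ) 0 * fromBlocks G 0 0 0 := by
      rw [hg, fromBlocks_multiply]; simp
    have h1 : (gblk (toM g')).rank = k := by rw [hg', rank_conj_lev hA hBu, hrk]
    rw [← rank_fromBlocks_zero (r := 1) G]
    rw [e] at h1
    exact h1.symm.le.trans (Matrix.rank_mul_le_right _ _)
  refine ⟨B, G, (corner (toM g')).toBlocks₁₁, h₀, (corner (toM g')).toBlocks₂₁, hBu, hGu, hg' ▸ hg, ?_, fun hGa => ?_⟩
  · rw [← hg']
    ext (i | i) (j | j)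
    · simp [toBlocks₁₁]
    · simpa [mulVec_single, Subsingleton.elim j 0, hct, hh₀] using congrFun haj (.inl i)
    · simp [toBlocks₂₁]
    · simpa [mulVec_single, Subsingleton.elim j 0, Subsingleton.elim i 0, hct, ht] using congrFun haj (.inr 0)
  · have halt : Alt (gblk (toM g)) := by
      refine hv.resolve_right fun hq => hq ?_
      obtain ⟨c', t', hv'⟩ : ∃ c' t', B⁻¹ *ᵥ v = Sum.elim c' t' := ⟨_, _, (Sum.elim_comp_inl_inr _).symm⟩
      have hvB : B *ᵥ Sum.elim c' t' = v := by rw [← hv', mulVec_mulVec, mul_nonsing_inv _ hBu, one_mulVec]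
      have ht' : t' 0 = 0 := by
        have h := congrArg f hvB
        rw [hBv, map_add, LinearMap.map_coe_ker, map_smul, zero_add, smul_eq_mul, hfv] at h
        exact (mul_eq_zero.1 h).resolve_right hfy
      have h2 : Sum.elim c' t' ⬝ᵥ gblk (toM g') *ᵥ Sum.elim c' t' = v ⬝ᵥ gblk (toM g) *ᵥ v := by
        rw [hcg, ← mulVec_mulVec, ← mulVec_mulVec, dotProduct_mulVec _ Bᵀ, vecMul_transpose, hvB]
      rw [← h2, hg, fromBlocks_mulVec, show t' = 0 from funext fun i => by rw [Subsingleton.elim i 0]; exact ht']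
      simpa [sumElim_dotProduct_sumElim] using hGa c'
    have h1 : Alt (gblk (toM g')) := hcg ▸ halt.conj B
    rw [hg] at h1
    have h2 := (alt_iff.1 h1).1
    rw [fromBlocks_transpose, fromBlocks_neg, fromBlocks_inj] at h2
    have h3 := h2.2.1
    simp at h3
    have h4 : Gᵀ * h₀ = 0 := by simpa [transpose_neg, transpose_mul] using h3
    calc h₀ = (Gᵀ)⁻¹ * (Gᵀ * h₀) := by
          rw [← Matrix.mul_assoc, nonsing_inv_mul _ (by rwa [det_transpose]), Matrix.one_mul]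
      _ = 0 := by rw [h4, Matrix.mul_zero]

/-- Two elements, no middle, kernel of dimension one. -/
theorem isC_one_two [IsEmpty β] {k : ℕ} (hA : IsUnit (gB A).det) (hF : Fintype.card F = 2) (hk : 0 < k)
    (hN : 3 ≤ k + 1) {g : Grp A (Fin k ⊕ Fin 1)} (hrk : (gblk (toM g)).rank = k)
    (hg : g ∈ commutator (Grp A (Fin k ⊕ Fin 1))) : IsC g := by
  obtain ⟨B, G, a, h₀, a₂, -, hG, hgb, hc, halt⟩ :=
    exists_skew_basis hA (fun w _ => Subsingleton.elim _ _) hF hrk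
  obtain ⟨z, hz⟩ : ∃ z, z = mkG hA (lev B⁻¹ 1) := ⟨_, rfl⟩
  rw [← hz] at hgb hc
  have hm : z * g * z⁻¹ ∈ commutator (Grp A (Fin k ⊕ Fin 1)) :=
    Subgroup.Normal.conj_mem inferInstance g hg z
  refine IsC.of_conj (z := z) ?_
  by_cases h : Alt G
  · obtain rfl := halt h
    refine isC_adapted (l := 1) hA cls2_of_isEmpty two_of_isEmpty hk le_rfl hN
      (Or.inr (even_of_shape hA hN hm hgb hc hG (by simp))) (Or.inr one_ne_zero) (fun _ => Or.inr rfl)
      ⟨G, a, a₂, 0, hG, ?_, ?_, Subsingleton.elim _ _⟩ hm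
    · rw [hgb]; simp
    · rw [hc, one_smul]
  · exact isC_skew hA hF hk hN hG hgb hc h hm

end CfsgLib.OmegaEvenComm
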