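import Cfsg.Agent.Lib.Classical.OmegaEvenComm.Nsr
import Cfsg.Agent.Lib.Classical.OmegaComm.Shape

/-!
# Cyclic corners of determinant one, and the trivial corner, are cells
-/

set_option autoImplicit false
set_option linter.unusedSectionVars false
set_option linter.unusedSimpArgs false

namespace CfsgLib.OmegaEvenComm

open Matrix Polynomial CfsgLib.Classical CfsgLib.FGS.SLComm
open CfsgLib.OmegaComm (rootHom rootHom_root kry Cyc isUnit_det_sub_scalar exists_comp2)

variable {F : Type*} [Field F] {α β γ : Type} [Fintype α] [DecidableEq α] [Fintype β] [DecidableEq β] [Fintype γ]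
  [DecidableEq γ] {A : Matrix β β F}

/-! ### Renaming -/

theorem Alt.submatrix {K : Matrix α α F} (h : Alt K) (e : γ → α) : Alt (K.submatrix e e) := by
  obtain ⟨h1, h2⟩ := alt_iff.1 h
  refine alt_iff.2 ⟨?_, fun i => h2 _⟩
  rw [transpose_submatrix, h1]
  rfl

theorem Valid.submatrix {T : Matrix α α F} {τ : Matrix β β F} (h : Valid A T τ) (e : γ ≃ α) :
    Valid A (T.submatrix e e) τ := by
  have hs : ∀ w : Matrix γ γ F, w = (w.submatrix e.symm e.symm).submatrix e e := fun w => by ext; simp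
  have hm : ∀ w : Matrix β γ F, w = (w.submatrix id e.symm).submatrix id e := fun w => by ext; simp
  refine ⟨by rw [det_submatrix_equiv_self]; exact h.det, h.mid, fun K hK e' => ?_, fun K hK e' => ?_,
    fun μ e' => ?_, fun μ e' => ?_⟩
  · rw [hs K, h.altUp _ (hK.submatrix e.symm) ?_]
    · rfl
    · have := congrArg (fun X : Matrix γ γ F => X.submatrix e.symm e.symm) e'
      simpa only [← submatrix_mul_equiv _ _ _ e.symm, transpose_submatrix, submatrix_submatrix,
        Equiv.self_comp_symm, submatrix_id_id] using this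
  · rw [hs K, h.altLow _ (hK.submatrix e.symm) ?_]
    · rfl
    · have := congrArg (fun X : Matrix γ γ F => X.submatrix e.symm e.symm) e'
      simpa only [← submatrix_mul_equiv _ _ _ e.symm, transpose_submatrix, submatrix_submatrix,
        Equiv.self_comp_symm, submatrix_id_id] using this
  · rw [hm μ, h.mixUp (μ.submatrix id e.symm) ?_]
    · rfl
    · have := congrArg (fun X : Matrix β γ F => X.submatrix id e.symm) e'
      rw [← submatrix_mul_equiv (τ * μ) ((T.submatrix e e)ᵀ) id e.symm e.symm,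
        submatrix_mul τ μ id id e.symm Function.bijective_id, transpose_submatrix, submatrix_submatrix,
        Equiv.self_comp_symm, submatrix_id_id, submatrix_id_id] at this
      exact this
  · rw [hm μ, h.mixLow (μ.submatrix id e.symm) ?_]
    · rfl
    · have := congrArg (fun X : Matrix β γ F => X.submatrix id e.symm) e'
      rw [← submatrix_mul_equiv μ (T.submatrix e e) id e.symm e.symm,
        submatrix_mul τ μ id id e.symm Function.bijective_id, submatrix_submatrix, Equiv.self_comp_symm,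
        submatrix_id_id, submatrix_id_id] at this
      exact this

/-! ### Valid pairs -/

/-- An irreducible block and one scalar. -/
theorem valid_sum {m : ℕ} {M : Matrix (Fin m) (Fin m) F} {c : F} {τ : Matrix β β F} (hM : IsUnit M.det)
    (hns : Nsr M) (hev : ∀ x, M.charpoly.eval x ≠ 0) (hc : c ≠ 0) (hτ : MidIso A τ) (hτu : IsUnit τ.det)
    (hτ1 : IsUnit (aeval τ M.charpoly)) (hτ2 : IsUnit (aeval τ⁻¹ M.charpoly)) (hτc : IsUnit (τ - c • 1).det)
    (hτc' : IsUnit (τ⁻¹ - c • 1).det) : Valid A (fromBlocks M 0 0 (c • (1 : Matrix (Fin 1) (Fin 1) F))) τ := by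
  have h1 : ∀ K : Matrix (Fin 1) (Fin 1) F, Alt K → K = 0 := fun K hK => by
    ext i j
    obtain rfl := Subsingleton.elim i j
    exact (alt_iff.1 hK).2 i
  have key : ∀ {N : Matrix (Fin m) (Fin m) F}, N.charpoly = M.charpoly → ∀ {v : Matrix (Fin m) (Fin 1) F},
      c • (N * v) = v → v = 0 := fun {N} hN v hv => by
    have hu := isUnit_det_sub_scalar N (c := c⁻¹) (by rw [hN]; exact hev _)
    have h0 : (N - c⁻¹ • 1) * v = 0 := by
      rw [Matrix.sub_mul, Matrix.smul_mul, Matrix.one_mul, sub_eq_zero]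
      conv_rhs => rw [← hv, smul_smul, inv_mul_cancel₀ hc, one_smul]
    calc v = (N - c⁻¹ • 1)⁻¹ * ((N - c⁻¹ • 1) * v) := by rw [← Matrix.mul_assoc, nonsing_inv_mul _ hu, Matrix.one_mul]
      _ = 0 := by rw [h0, Matrix.mul_zero]
  have key2 : ∀ {σ : Matrix β β F}, IsUnit (σ - c • 1).det → ∀ {v : Matrix β (Fin 1) F}, σ * v = c • v → v = 0 :=
    fun {σ} hu v hv => by
    have h0 : (σ - c • 1) * v = 0 := by rw [Matrix.sub_mul, Matrix.smul_mul, Matrix.one_mul, hv, sub_self]
    calc v = (σ - c • 1)⁻¹ * ((σ - c • 1) * v) := by rw [← Matrix.mul_assoc, nonsing_inv_mul _ hu, Matrix.one_mul]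
      _ = 0 := by rw [h0, Matrix.mul_zero]
  have hτi : τ⁻¹ * τ = 1 := nonsing_inv_mul _ hτu
  refine ⟨?_, hτ, fun w hw e => ?_, fun w hw e => ?_, fun μ e => ?_, fun μ e => ?_⟩
  · rw [det_fromBlocks_zero₂₁, det_smul, det_one, mul_one, Fintype.card_fin, pow_one]
    exact hM.mul (isUnit_iff_ne_zero.2 hc)
  iterate 2
    obtain ⟨hw1, hw2⟩ := alt_iff.1 hw
    rw [← fromBlocks_toBlocks w] at hw1 e ⊢
    rw [fromBlocks_transpose, fromBlocks_neg, fromBlocks_inj] at hw1
    simp only [fromBlocks_transpose, transpose_zero, transpose_smul, transpose_one, fromBlocks_multiply,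
      Matrix.zero_mul, Matrix.mul_zero, add_zero, zero_add, fromBlocks_inj, Matrix.mul_smul, Matrix.mul_one,
      Matrix.smul_mul, Matrix.one_mul] at e
    have h11 : w.toBlocks₁₁ = 0 := by first
      | exact hns.fixed' hM e.1
      | exact hns.fixed hM e.1
    have h12 : w.toBlocks₁₂ = 0 := by first
      | exact key (N := M) rfl e.2.1
      | exact key (N := Mᵀ) (charpoly_transpose M) e.2.1
    have h21 : w.toBlocks₂₁ = 0 := by rw [← transpose_transpose w.toBlocks₂₁, hw1.2.1, h12]; simp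
    rw [h11, h12, h21, h1 w.toBlocks₂₂ (alt_iff.2 ⟨hw1.2.2.2, fun i => hw2 (.inr i)⟩), fromBlocks_zero]
  · rw [← fromCols_toCols μ] at e ⊢
    rw [fromBlocks_transpose, mul_fromCols, fromCols_mul_fromBlocks, fromCols_inj.eq_iff] at e
    simp only [transpose_zero, transpose_smul, transpose_one, Matrix.mul_zero, add_zero, zero_add, Matrix.mul_smul,
      Matrix.mul_one] at e
    have e1 : τ⁻¹ * μ.toCols₁ = μ.toCols₁ * Mᵀ := by
      conv_lhs => rw [← e.1, ← Matrix.mul_assoc, ← Matrix.mul_assoc, hτi, Matrix.one_mul]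
    have e2 : τ⁻¹ * μ.toCols₂ = c • μ.toCols₂ := by
      conv_lhs => rw [← e.2, Matrix.mul_smul, ← Matrix.mul_assoc, hτi, Matrix.one_mul]
    rw [eq_zero_of_semiconj e1 (by rwa [charpoly_transpose]), key2 hτc' e2, fromCols_zero]
  · rw [← fromCols_toCols μ] at e ⊢
    rw [mul_fromCols, fromCols_mul_fromBlocks, fromCols_inj.eq_iff] at e
    simp only [Matrix.mul_zero, add_zero, zero_add, Matrix.mul_smul, Matrix.mul_one] at e
    rw [eq_zero_of_semiconj e.1 hτ1, key2 hτc e.2, fromCols_zero]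

variable [Fintype F]

/-- One irreducible block and a scalar give cells. -/
theorem cellFree_param {m : ℕ} (hm : 2 ≤ m) (D : Alpha F m) (hDi : Irreducible D.h) (hDn : D.h.natDegree = m)
    (hns : Nsr (LinearMap.toMatrix' (D.α : Module.End F (Fin m → F)))) (c : Fˣ) (τ : Matrix β β F)
    (hτ : MidIso A τ) (hτu : IsUnit τ.det)
    (hτh : ∀ p : F[X], Irreducible p → p.natDegree = m → IsUnit (aeval τ p) ∧ IsUnit (aeval τ⁻¹ p))
    (hτc : IsUnit (τ - (c : F) • 1).det) (hτc' : IsUnit (τ⁻¹ - (c : F) • 1).det)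
    (hspin : let δ := ((LinearEquiv.det D.α : Fˣ) : F) * c
      (τ = 1 ∧ IsSquare δ) ∨ ∃ w u : β → F, w ⬝ᵥ A *ᵥ w ≠ 0 ∧ u ⬝ᵥ A *ᵥ u ≠ 0 ∧
        τ = midRefl A w * midRefl A u ∧ IsSquare (δ * ((w ⬝ᵥ A *ᵥ w) * (u ⬝ᵥ A *ᵥ u))))
    {a : Matrix (Fin (m + 1)) (Fin (m + 1)) F} (ha : a = 1 ∨ (Cyc a ∧ a.det = 1)) : CellFree A a := by
  classical
  obtain ⟨M, hMdef⟩ : ∃ M : Matrix (Fin m) (Fin m) F, M = LinearMap.toMatrix' (D.α : Module.End F (Fin m → F)) :=
    ⟨_, rfl⟩
  rw [← hMdef] at hns
  have hMv : ∀ x, M *ᵥ x = D.α x := fun x => by rw [hMdef, LinearMap.toMatrix'_mulVec]; rfl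
  haveI : Nonempty (Fin m) := ⟨⟨0, by omega⟩⟩
  have hMdet : M.det = ((LinearEquiv.det D.α : Fˣ) : F) := by
    rw [hMdef, LinearMap.det_toMatrix', ← LinearEquiv.coe_det]
  have hMu : IsUnit M.det := hMdet ▸ (Units.isUnit _)
  have hMirr : Irreducible M.charpoly ∧ M.charpoly.natDegree = m := by
    refine ⟨?_, by rw [charpoly_natDegree_eq_dim, Fintype.card_fin]⟩
    have hk : aeval M D.h = 0 := by
      have e : M = LinearMap.toMatrixAlgEquiv' (D.α : Module.End F (Fin m → F)) := hMdef
      rw [e, aeval_algEquiv, AlgHom.coe_comp, Function.comp_apply, D.kills, map_zero]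
    have hint : IsIntegral F M := Matrix.isIntegral _
    have hd' := minpoly.dvd F M hk
    have has : Associated (minpoly F M) D.h := by
      obtain ⟨u, hu⟩ := hd'
      rcases hDi.isUnit_or_isUnit hu with h | h
      · exact absurd h (minpoly.not_isUnit F M)
      · exact ⟨h.unit, hu.symm⟩
    have hirr : Irreducible (minpoly F M) := has.symm.irreducible hDi
    have : M.charpoly = minpoly F M := (eq_of_monic_of_dvd_of_natDegree_le (minpoly.monic hint)
      (charpoly_monic _) (Matrix.minpoly_dvd_charpoly M) (by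
        rw [charpoly_natDegree_eq_dim, Fintype.card_fin,
          natDegree_eq_of_degree_eq (degree_eq_degree_of_associated has), hDn]))
    rwa [this]
  have hV : Valid A (fromBlocks M 0 0 ((c : F) • (1 : Matrix (Fin 1) (Fin 1) F))) τ :=
    valid_sum hMu hns (eval_ne_zero_of_irreducible hMirr.1 (by omega)) c.ne_zero hτ hτu
      (hτh _ hMirr.1 hMirr.2).1 (hτh _ hMirr.1 hMirr.2).2 hτc hτc'
  suffices h : ∃ P R : Matrix (Fin (m + 1)) (Fin (m + 1)) F, IsUnit P.det ∧ IsUnit R.det ∧
      a * (R * (fromBlocks M 0 0 ((c : F) • (1 : Matrix (Fin 1) (Fin 1) F))).submatrix finSumFinEquiv.symm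
        finSumFinEquiv.symm * R⁻¹) = P * (fromBlocks M 0 0 ((c : F) • (1 : Matrix (Fin 1) (Fin 1) F))).submatrix
          finSumFinEquiv.symm finSumFinEquiv.symm * P⁻¹ by
    obtain ⟨P, R, hP, hR, e⟩ := h
    have hV' := hV.submatrix (finSumFinEquiv (m := m) (n := 1)).symm
    obtain ⟨T, hT⟩ : ∃ T, T = (fromBlocks M 0 0 ((c : F) • (1 : Matrix (Fin 1) (Fin 1) F))).submatrix
        finSumFinEquiv.symm finSumFinEquiv.symm := ⟨_, rfl⟩
    rw [← hT] at e hV'
    refine ⟨T, τ, P, R, hV', hP, hR, ?_, ?_, fun x hx => ?_⟩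
    · rw [← e]
      have h1 : R⁻¹ * R = 1 := nonsing_inv_mul _ hR
      have h2 : R * R⁻¹ = 1 := mul_nonsing_inv _ hR
      have h3 : T * T⁻¹ = 1 := mul_nonsing_inv _ hV'.det
      symm
      calc a * (R * T * R⁻¹) * (R * T⁻¹ * R⁻¹) = a * (R * (T * ((R⁻¹ * R) * T⁻¹)) * R⁻¹) := by
            simp only [Matrix.mul_assoc]
        _ = a := by rw [h1, Matrix.one_mul, h3, Matrix.mul_one, h2, Matrix.mul_one]
    · have hdet : T.det = ((LinearEquiv.det D.α : Fˣ) : F) * c := by
        rw [hT, det_submatrix_equiv_self, det_fromBlocks_zero₂₁, hMdet]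
        simp
      rwa [hdet]
    · refine ⟨(fromBlocks 1 0 0 (x • 1 : Matrix (Fin 1) (Fin 1) F)).submatrix finSumFinEquiv.symm
        finSumFinEquiv.symm, ?_, ?_⟩
      · rw [hT, submatrix_mul_equiv, submatrix_mul_equiv, fromBlocks_multiply, fromBlocks_multiply]
        simp [smul_smul, mul_comm]
      · rw [det_submatrix_equiv_self, det_fromBlocks_zero₂₁]
        simp
  rcases ha with rfl | ⟨hc, hd⟩
  · exact ⟨1, 1, by simp, by simp, Matrix.one_mul _⟩
  obtain ⟨f, hf⟩ : ∃ f, f = a.charpoly := ⟨_, rfl⟩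
  have hfm : f.Monic := hf ▸ charpoly_monic a
  have hfd : f.natDegree = m + 1 := by rw [hf, charpoly_natDegree_eq_dim, Fintype.card_fin]
  have hdv : dv f = ((c : F)) / ((c : F)) := by
    rw [dv, hfd, hf, div_self (Units.ne_zero _)]
    have := det_eq_sign_charpoly_coeff a
    rw [hd, Fintype.card_fin] at this
    exact this.symm
  have hfac := fac_root_one D hfm hfd hdv (eval_ne_zero_of_irreducible hDi (by omega) _)
    (eval_ne_zero_of_irreducible hDi (by omega) _)
  obtain ⟨v, hv⟩ := hc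
  let φ : AdjoinRoot f →ₐ[F] Matrix (Fin (m + 1)) (Fin (m + 1)) F :=
    rootHom a f (by rw [hf, aeval_self_charpoly])
  have hφr : φ (AdjoinRoot.root f) = a := rootHom_root _ _ _
  let Φ₀ : AdjoinRoot f →ₗ[F] (Fin (m + 1) → F) :=
    { toFun := fun x => φ x *ᵥ v
      map_add' := fun x y => by rw [map_add, add_mulVec]
      map_smul' := fun c x => by rw [map_smul, smul_mulVec]; rfl }
  have hsurj : Function.Surjective Φ₀ := fun z => by
    obtain ⟨c, hc⟩ : ∃ c, kry a v *ᵥ c = z := ⟨(kry a v)⁻¹ *ᵥ z, by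
      rw [mulVec_mulVec, mul_nonsing_inv _ hv, one_mulVec]⟩
    refine ⟨∑ j : Fin (m + 1), c j • AdjoinRoot.root f ^ (j : ℕ), ?_⟩
    show φ _ *ᵥ v = z
    rw [map_sum, sum_mulVec, ← hc]
    funext i
    simp only [map_smul, map_pow, hφr, smul_mulVec, Finset.sum_apply, Pi.smul_apply, smul_eq_mul]
    simp [kry, mulVec, dotProduct, mul_comm]
  haveI : Module.Finite F (AdjoinRoot f) := (AdjoinRoot.powerBasis hfm.ne_zero).finite
  have hfr : Module.finrank F (AdjoinRoot f) = Module.finrank F (Fin (m + 1) → F) := by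
    rw [(AdjoinRoot.powerBasis hfm.ne_zero).finrank, AdjoinRoot.powerBasis_dim, hfd, Module.finrank_fin_fun]
  let Φ := LinearEquiv.ofBijective Φ₀ ⟨(LinearMap.injective_iff_surjective_of_finrank_eq_finrank hfr).2 hsurj, hsurj⟩
  have hfac' : Fac (Matrix.mulVecLin a) (D.α.prodCongr (smulE c)) (D.α.prodCongr (smulE c)) :=
    hfac.equiv Φ fun x => by
      show φ (AdjoinRoot.root f * x) *ᵥ v = a *ᵥ (φ x *ᵥ v)
      rw [map_mul, hφr, mulVec_mulVec]
  obtain ⟨P, Q, hPQ⟩ := hfac'
  let E : ((Fin m → F) × F) ≃ₗ[F] (Fin (m + 1) → F) :=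
    { toFun := fun p i => Sum.elim p.1 (fun _ => p.2) (finSumFinEquiv.symm i)
      invFun := fun z => (fun i => z (finSumFinEquiv (.inl i)), z (finSumFinEquiv (.inr 0)))
      map_add' := fun p q => funext fun i => by
        rcases h : finSumFinEquiv.symm i with x | x <;> simp [h]
      map_smul' := fun c p => funext fun i => by
        rcases h : finSumFinEquiv.symm i with x | x <;> simp [h]
      left_inv := fun p => by simp
      right_inv := fun z => funext fun i => by
        rcases h : finSumFinEquiv.symm i with x | x <;> rw [Equiv.symm_apply_eq] at h <;> subst h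
        · simp
        · simp [Subsingleton.elim x 0] }
  obtain ⟨T, hTdef⟩ : ∃ T : Matrix (Fin (m + 1)) (Fin (m + 1)) F,
      T = (fromBlocks M 0 0 ((c : F) • (1 : Matrix (Fin 1) (Fin 1) F))).submatrix finSumFinEquiv.symm finSumFinEquiv.symm :=
    ⟨_, rfl⟩
  have hTv : ∀ p, T *ᵥ E p = E (D.α p.1, (c : F) * p.2) := fun p => by
    funext i
    obtain ⟨i, rfl⟩ := finSumFinEquiv.surjective i
    rw [hTdef, ← hMv]
    simp only [E, LinearEquiv.coe_mk, LinearMap.coe_mk, AddHom.coe_mk, Equiv.symm_apply_apply]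
    rcases i with i | i
    · simp [mulVec, dotProduct, ← finSumFinEquiv.sum_comp, Fintype.sum_sum_type]
    · simp [mulVec, dotProduct, ← finSumFinEquiv.sum_comp, Fintype.sum_sum_type, Subsingleton.elim i 0]
  let mk : (((Fin m → F) × F) ≃ₗ[F] (Fin (m + 1) → F)) → Matrix (Fin (m + 1)) (Fin (m + 1)) F :=
    fun L => LinearMap.toMatrix' (E.symm.trans L).toLinearMap
  let mk' : (((Fin m → F) × F) ≃ₗ[F] (Fin (m + 1) → F)) → Matrix (Fin (m + 1)) (Fin (m + 1)) F :=
    fun L => LinearMap.toMatrix' (L.symm.trans E).toLinearMap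
  have hmk : ∀ L, mk L * mk' L = 1 := fun L => by
    refine Matrix.ext_of_mulVec_single fun k => ?_
    rw [← mulVec_mulVec, one_mulVec, LinearMap.toMatrix'_mulVec, LinearMap.toMatrix'_mulVec]
    simp
  have hconj : ∀ L z, (mk L * T * (mk L)⁻¹) *ᵥ z = conjE L (D.α.prodCongr (smulE c)) z := fun L z => by
    rw [inv_eq_right_inv (hmk L), ← mulVec_mulVec, ← mulVec_mulVec,
      show mk' L *ᵥ z = E (L.symm z) from LinearMap.toMatrix'_mulVec _ _, hTv, LinearMap.toMatrix'_mulVec]
    simp
  refine ⟨mk P, mk Q, IsUnit.of_mul_eq_one _ (by rw [← det_mul, hmk, det_one]),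
    IsUnit.of_mul_eq_one _ (by rw [← det_mul, hmk, det_one]), Matrix.ext_of_mulVec_single fun k => ?_⟩
  rw [← hTdef, ← mulVec_mulVec, hconj, hconj]
  have h := LinearMap.congr_fun hPQ (conjE Q (D.α.prodCongr (smulE c)) (Pi.single k 1))
  rw [Matrix.mulVecLin_apply] at h
  rw [h]
  show conjE P _ ((conjE Q _).symm (conjE Q _ _)) = _
  rw [LinearEquiv.symm_apply_apply]

/-- Over two elements a middle rotation of order three is available, unless there is no middle. -/
def Two (A : Matrix β β F) : Prop :=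
  Fintype.card F = 2 → IsEmpty β ∨ ∃ w u : β → F, w ⬝ᵥ A *ᵥ w ≠ 0 ∧ u ⬝ᵥ A *ᵥ u ≠ 0 ∧
    midRefl A w * midRefl A u * (midRefl A w * midRefl A u) + midRefl A w * midRefl A u + 1 = 0

theorem eq_one_of_card_two (hF : Fintype.card F = 2) {y : F} (hy : y ≠ 0) : y = 1 := by
  have := FiniteField.pow_card_sub_one_eq_one y hy
  rwa [hF, show 2 - 1 = 1 from rfl, pow_one] at this

theorem isUnit_aeval_quad {τ : Matrix β β F} (hτ : τ * τ + τ + 1 = 0) {p : F[X]} (hp : Irreducible p)
    (hd : 3 ≤ p.natDegree) : IsUnit (aeval τ p) := by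
  obtain ⟨Q, hQ⟩ : ∃ Q : F[X], Q = X ^ 2 + X + 1 := ⟨_, rfl⟩
  have hQ0 : Q.natDegree = 2 := by rw [hQ]; compute_degree!
  have hco : IsCoprime p Q := (hp.coprime_iff_not_dvd).2 fun h => by
    have hne : Q ≠ 0 := fun e => by rw [e, natDegree_zero] at hQ0; omega
    have := natDegree_le_of_dvd h hne
    omega
  obtain ⟨u, v, huv⟩ := hco
  have hz : aeval τ Q = 0 := by rw [hQ]; simpa [pow_two] using hτ
  have h := congrArg (aeval τ) huv
  rw [map_add, map_mul, map_mul, hz, mul_zero, add_zero, map_one] at h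
  exact IsUnit.of_mul_eq_one _ ((commute_iff_eq _ _).1 ((Commute.all u p).map (aeval τ)) ▸ h)

/-- Every trivial or cyclic corner of size at least four is a cell; of size three away from two elements. -/
theorem cellFree_big (hA : IsUnit (gB A).det) (hT : Two A) {m : ℕ} (hm : 2 ≤ m)
    (h23 : Fintype.card F = 2 → 3 ≤ m) {a : Matrix (Fin (m + 1)) (Fin (m + 1)) F}
    (ha : a = 1 ∨ (Cyc a ∧ a.det = 1)) : CellFree A a := by
  classical
  rcases eq_or_ne (Fintype.card F) 2 with hF | hF
  · obtain ⟨D, hDd, hDi, hDn, hns⟩ := exists_alpha_two (F := F) (by rw [Nat.card_eq_fintype_card, hF]) (h23 hF)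
    rcases hT hF with hβ | ⟨w, u, hw, hu, hτ⟩
    · refine cellFree_param hm D hDi hDn hns 1 1 (midIso_one A) (by simp) (fun p _ _ => ?_) ?_ ?_
        (Or.inl ⟨rfl, by rw [hDd]; simp⟩) ha
      · exact ⟨isUnit_of_subsingleton _, isUnit_of_subsingleton _⟩
      · rw [Matrix.det_isEmpty]; exact isUnit_one
      · rw [Matrix.det_isEmpty]; exact isUnit_one
    · obtain ⟨τ, hτdef⟩ : ∃ τ, τ = midRefl A w * midRefl A u := ⟨_, rfl⟩
      rw [← hτdef] at hτ
      have hτm : MidIso A τ := hτdef ▸ (midIso_midRefl A hw).mul (midIso_midRefl A hu)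
      have hτu : IsUnit τ.det := hτm.isUnit_det hA
      have h2 : (2 : F) = 0 := by
        have := FiniteField.cast_card_eq_zero F
        rw [hF] at this
        exact_mod_cast this
      have hinv : τ⁻¹ = -(τ + 1) := inv_eq_right_inv (by
        rw [Matrix.mul_neg, Matrix.mul_add, Matrix.mul_one, neg_eq_iff_eq_neg]
        exact eq_neg_of_add_eq_zero_left hτ)
      have hτi : τ⁻¹ * τ⁻¹ + τ⁻¹ + 1 = 0 := by
        rw [hinv]
        simp only [Matrix.mul_neg, Matrix.neg_mul, neg_neg, Matrix.add_mul, Matrix.mul_add, Matrix.one_mul,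
          Matrix.mul_one]
        rw [← hτ]; abel
      have hsub : ∀ σ : Matrix β β F, σ * σ + σ + 1 = 0 → IsUnit (σ - ((1 : Fˣ) : F) • 1).det := fun σ hσ => by
        refine IsUnit.of_mul_eq_one (σ.det) ?_
        rw [Units.val_one, one_smul, ← det_mul,
          show (σ - 1) * σ = 1 from ?_, det_one]
        rw [Matrix.sub_mul, Matrix.one_mul]
        have h2s : σ + σ = 0 := by rw [← two_smul F σ, h2, zero_smul]
        have h21 : (1 : Matrix β β F) + 1 = 0 := by rw [← two_smul F (1 : Matrix β β F), h2, zero_smul]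
        calc σ * σ - σ = (σ * σ + σ + 1) - (σ + σ) - (1 + 1) + 1 := by abel
          _ = 1 := by rw [hσ, h2s, h21]; abel
      refine cellFree_param hm D hDi hDn hns 1 τ hτm hτu
        (fun p hp hpd => ⟨isUnit_aeval_quad hτ hp (by have := h23 hF; omega),
          isUnit_aeval_quad hτi hp (by have := h23 hF; omega)⟩) (hsub τ hτ) (hsub τ⁻¹ hτi)
        (Or.inr ⟨w, u, hw, hu, hτdef, ?_⟩) ha
      rw [eq_one_of_card_two hF hw, eq_one_of_card_two hF hu, hDd]
      simp
  · have hF3 : 3 ≤ Fintype.card F := by have := Fintype.one_lt_card (α := F); omega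
    obtain ⟨t, ht1, hex, hsq⟩ : ∃ t : Fˣ, (t : F) ≠ 1 ∧ (Nat.card F = 3 → t = -1) ∧ IsSquare ((t : F) * t) := by
      by_cases h3 : Fintype.card F = 3
      · refine ⟨-1, fun e => ?_, fun _ => rfl, ⟨_, rfl⟩⟩
        have h := FiniteField.cast_card_eq_zero F
        rw [h3] at h
        simp at e h
        exact one_ne_zero (α := F) (by linear_combination h + e)
      · obtain ⟨t, ht⟩ : ∃ t : Fˣ, t ≠ 1 := by
          haveI : Nontrivial Fˣ := Fintype.one_lt_card_iff_nontrivial.1 (by rw [Fintype.card_units]; omega)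
          exact exists_ne 1
        exact ⟨t, fun e => ht (Units.ext e), fun e => absurd (by rwa [Nat.card_eq_fintype_card] at e) h3, ⟨_, rfl⟩⟩
    obtain ⟨D, hDd, hDi, hDn⟩ := exists_alpha (F := F) hm t fun _ h => hex h
    have hns : Nsr (LinearMap.toMatrix' (D.α : Module.End F (Fin m → F))) := by
      haveI : Nonempty (Fin m) := ⟨⟨0, by omega⟩⟩
      have hdet : (LinearMap.toMatrix' (D.α : Module.End F (Fin m → F))).det = (t : F) := by
        rw [LinearMap.det_toMatrix', ← LinearEquiv.coe_det, hDd]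
      refine nsr_of_det ?_ (by simpa using hm) (by rw [hdet]; exact ht1) (by rw [hdet]; exact t.isUnit)
      obtain ⟨M, hMdef⟩ : ∃ M, M = LinearMap.toMatrix' (D.α : Module.End F (Fin m → F)) := ⟨_, rfl⟩
      rw [← hMdef]
      have hk : aeval M D.h = 0 := by
        have e : M = LinearMap.toMatrixAlgEquiv' (D.α : Module.End F (Fin m → F)) := hMdef
        rw [e, aeval_algEquiv, AlgHom.coe_comp, Function.comp_apply, D.kills, map_zero]
      have has : Associated (minpoly F M) D.h := by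
        obtain ⟨u, hu⟩ := minpoly.dvd F M hk
        rcases hDi.isUnit_or_isUnit hu with h | h
        · exact absurd h (minpoly.not_isUnit F M)
        · exact ⟨h.unit, hu.symm⟩
      have : M.charpoly = minpoly F M := (eq_of_monic_of_dvd_of_natDegree_le (minpoly.monic (Matrix.isIntegral _))
        (charpoly_monic _) (Matrix.minpoly_dvd_charpoly M) (by
          rw [charpoly_natDegree_eq_dim, Fintype.card_fin,
            natDegree_eq_of_degree_eq (degree_eq_degree_of_associated has), hDn]))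
      rw [this]
      exact has.symm.irreducible hDi
    have hu : ∀ x : F, x ≠ 0 → IsUnit (x • (1 : Matrix β β F)).det := fun x hx => by
      rw [det_smul, det_one, mul_one]
      exact isUnit_iff_ne_zero.2 (pow_ne_zero _ hx)
    have haev : ∀ p : F[X], Irreducible p → p.natDegree = m → IsUnit (aeval (1 : Matrix β β F) p) := by
      intro p hp hpd
      rw [show (1 : Matrix β β F) = algebraMap F (Matrix β β F) 1 from (map_one _).symm, aeval_algebraMap_apply]
      exact (isUnit_iff_ne_zero.2 (eval_ne_zero_of_irreducible hp (by omega) 1)).map _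
    have h1t : IsUnit ((1 : Matrix β β F) - (t : F) • 1).det := by
      rw [show (1 : Matrix β β F) - (t : F) • 1 = (1 - (t : F)) • 1 by rw [sub_smul, one_smul]]
      exact hu _ (sub_ne_zero.2 ht1.symm)
    refine cellFree_param hm D hDi hDn hns t 1 (midIso_one A) (by simp) (fun p hp hpd => ?_) h1t ?_
      (Or.inl ⟨rfl, by rw [hDd]; exact hsq⟩) ha
    · rw [inv_one]
      exact ⟨haev p hp hpd, haev p hp hpd⟩
    · rwa [inv_one]

end CfsgLib.OmegaEvenComm
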