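import Cfsg.Agent.Lib.Classical.OmegaEvenComm.Space

/-!
# Parity and spinor norm in the hyperbolic frame

The commutator subgroup is cut out by two homomorphisms; their values on block diagonal elements, on middle
reflections and on the exchange of one hyperbolic pair are computed.
-/

set_option autoImplicit false
set_option linter.unusedSectionVars false
set_option linter.unusedSimpArgs false

namespace CfsgLib.OmegaEvenComm

open Matrix CfsgLib.SUComm CfsgLib.Classical CfsgLib.Classical.Spin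

variable {F : Type*} [Field F] {α β : Type} [Fintype α] [DecidableEq α] [Fintype β] [DecidableEq β]
variable (A : Matrix β β F)

/-- The reflection of the middle block. -/
def midRefl (w : β → F) : Matrix β β F := 1 - (w ⬝ᵥ A *ᵥ w)⁻¹ • vecMulVec w (gB A *ᵥ w)

theorem dot_gB (w w' : β → F) : w ⬝ᵥ gB A *ᵥ w' = w ⬝ᵥ A *ᵥ w' + w' ⬝ᵥ A *ᵥ w := by
  rw [gB, add_mulVec, dotProduct_add, dotProduct_mulVec w Aᵀ, vecMul_transpose, dotProduct_comm (A *ᵥ w) w']

theorem dot_gB_comm (w w' : β → F) : w ⬝ᵥ gB A *ᵥ w' = w' ⬝ᵥ gB A *ᵥ w := by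
  rw [dot_gB, dot_gB, add_comm]

theorem midRefl_mulVec (w x : β → F) :
    midRefl A w *ᵥ x = x - ((w ⬝ᵥ A *ᵥ w)⁻¹ * (x ⬝ᵥ gB A *ᵥ w)) • w := by
  rw [midRefl, sub_mulVec, one_mulVec, smul_mulVec, vecMulVec_mulVec, dotProduct_comm _ x]
  simp [smul_smul]

theorem midIso_midRefl {w : β → F} (hw : w ⬝ᵥ A *ᵥ w ≠ 0) : MidIso A (midRefl A w) := fun x => by
  rw [sub_mulVec, dotProduct_sub, sub_eq_zero, ← mulVec_mulVec, ← mulVec_mulVec, dotProduct_mulVec x _ᵀ,
    vecMul_transpose, midRefl_mulVec]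
  simp only [mulVec_sub, mulVec_smul, dotProduct_sub, sub_dotProduct, smul_dotProduct, dotProduct_smul, smul_eq_mul,
    dot_gB]
  field_simp
  ring

theorem midRefl_smul {w : β → F} {s : F} (hs : s ≠ 0) : midRefl A (s • w) = midRefl A w := by
  simp only [midRefl, mulVec_smul, dotProduct_smul, smul_dotProduct, smul_eq_mul, vecMulVec_smul, smul_vecMulVec,
    smul_smul]
  rw [show ((s * (s * w ⬝ᵥ A *ᵥ w))⁻¹ * (s * s)) = (w ⬝ᵥ A *ᵥ w)⁻¹ by field_simp]

theorem midRefl_mul_self {w : β → F} (hw : w ⬝ᵥ A *ᵥ w ≠ 0) : midRefl A w * midRefl A w = 1 := by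
  refine Matrix.ext_of_mulVec_single fun i => ?_
  rw [← mulVec_mulVec, one_mulVec, midRefl_mulVec, midRefl_mulVec, sub_dotProduct, smul_dotProduct, smul_eq_mul,
    dot_gB A w w]
  funext j
  simp only [Pi.sub_apply, Pi.smul_apply, smul_eq_mul]
  field_simp
  ring

/-- The exchange of the two vectors of the pair `x`. -/
def flipM (x : α) : Mat F α β :=
  (1 : Mat F α β).submatrix id (Equiv.swap (Sum.inl x) (Sum.inr (Sum.inr x)))

theorem flipM_mulVec (x : α) (v : Idx α β → F) :
    flipM x *ᵥ v = v ∘ Equiv.swap (Sum.inl x) (Sum.inr (Sum.inr x)) := by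
  funext i
  simp only [flipM, mulVec, dotProduct, submatrix_apply, id_eq, Matrix.one_apply, ite_mul, one_mul, zero_mul,
    Function.comp_apply]
  rw [Finset.sum_eq_single (Equiv.swap (Sum.inl x) (Sum.inr (Sum.inr x)) i)]
  · simp
  · intro j _ hj
    rw [if_neg]
    intro e
    exact hj (by rw [e, Equiv.swap_apply_self])
  · simp

theorem isom_flipM (x : α) : Isom A (flipM x : Mat F α β) := fun v => by
  rw [flipM_mulVec]
  conv_rhs => rw [← elim_parts v]
  rw [← elim_parts (v ∘ _), qG_elim, qG_elim]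
  have hmid : (v ∘ Equiv.swap (Sum.inl x) (Sum.inr (Sum.inr x))) ∘ Sum.inr ∘ Sum.inl = v ∘ Sum.inr ∘ Sum.inl := by
    funext i
    simp [Equiv.swap_apply_def]
  rw [hmid]
  congr 1
  refine Finset.sum_congr rfl fun i _ => ?_
  rcases eq_or_ne i x with rfl | hi
  · simp [Equiv.swap_apply_def, mul_comm]
  · simp [Equiv.swap_apply_def, hi]

variable {A}

theorem polar_qG_elim (x : α → F) (w : β → F) (y : α → F) (x' : α → F) (w' : β → F) (y' : α → F) :
    QuadraticMap.polar (qG A α) (Sum.elim x (Sum.elim w y)) (Sum.elim x' (Sum.elim w' y')) =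
      x ⬝ᵥ y' + x' ⬝ᵥ y + w ⬝ᵥ gB A *ᵥ w' := by
  rw [QuadraticMap.polar, show Sum.elim x (Sum.elim w y) + Sum.elim x' (Sum.elim w' y') =
    Sum.elim (x + x') (Sum.elim (w + w') (y + y')) by funext i; rcases i with i | i | i <;> rfl,
    qG_elim, qG_elim, qG_elim, dot_gB]
  simp [mulVec_add, dotProduct_add, add_dotProduct]
  ring

theorem lev_mulVec (T : Matrix α α F) (e : Matrix β β F) (x : α → F) (w : β → F) (y : α → F) :
    (lev T e : Mat F α β) *ᵥ Sum.elim x (Sum.elim w y) = Sum.elim (T *ᵥ x) (Sum.elim (e *ᵥ w) ((T⁻¹)ᵀ *ᵥ y)) := by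
  funext i; rcases i with i | i | i <;> simp [lev, blk, mulVec, dotProduct, Fintype.sum_sum_type]

theorem rank_lev_sub_one {T : Matrix α α F} (hT : IsUnit T.det) :
    ((lev T (1 : Matrix β β F) : Mat F α β) - 1).rank = 2 * (T - 1).rank := by
  have e : ((lev T (1 : Matrix β β F) : Mat F α β) - 1) = fromBlocks (T - 1) 0 0 (fromBlocks 0 0 0 ((T⁻¹)ᵀ - 1)) := by
    ext (i | i | i) (j | j | j) <;> simp [lev, blk, Matrix.one_apply, Matrix.sub_apply]
  have h : (T⁻¹)ᵀ - 1 = (-T⁻¹ * (T - 1))ᵀ := by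
    rw [neg_mul, mul_sub, nonsing_inv_mul _ hT, mul_one, neg_sub, transpose_sub, transpose_one]
  rw [e, rank_fromBlocks_diag, rank_fromBlocks_diag, Matrix.rank_zero, zero_add, h, rank_transpose,
    rank_mul_eq_right_of_isUnit_det, two_mul]
  rw [det_neg, det_nonsing_inv]
  exact (isUnit_one.neg.pow _).mul ((isUnit_ringInverse).2 hT)

variable [Fintype F]

/-- The two characters cutting out the commutator subgroup, with their basic values. -/
theorem exists_cls (hA : IsUnit (gB A).det) (hN : 3 ≤ Fintype.card α) :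
    ∃ (D : Grp A α →* Multiplicative (ZMod 2)) (θ : Grp A α →* ℤˣ),
      (∀ g : Grp A α, g ∈ Cfsg.Omega F ⇑(qG A α) ↔ D g = 1 ∧ θ g = 1) ∧
      (∀ T : Matrix α α F, IsUnit T.det →
        D (mkG hA (lev T 1)) = 1 ∧ θ (mkG hA (lev T 1)) = sqSign T.det) ∧
      (∀ w : β → F, w ⬝ᵥ A *ᵥ w ≠ 0 → D (mkG hA (lev (1 : Matrix α α F) (midRefl A w))) = Multiplicative.ofAdd 1 ∧
        θ (mkG hA (lev (1 : Matrix α α F) (midRefl A w))) = sqSign (w ⬝ᵥ A *ᵥ w)) ∧
      (∀ x : α, D (mkG hA (flipM x)) = Multiplicative.ofAdd 1) ∧ ((2 : F) = 0 → ∀ g : Grp A α, θ g = 1) := by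
  classical
  have hnd := polarNondeg_qG (α := α) A hA
  have hcard : 6 ≤ Fintype.card (Idx α β) := by simp [Fintype.card_sum]; omega
  have hex : Fintype.card F ≠ 2 ∨ Module.finrank F (Idx α β → F) ≠ 4 :=
    Or.inr (by rw [Module.finrank_pi]; omega)
  obtain ⟨θ₀, hθ, hiff⟩ := exists_spin (qG A α) hnd hex
  obtain ⟨D₀, hD, hD1⟩ := exists_parity_hom (qG A α) hnd (reflGroup_eq_top (qG A α) hnd hex)
  obtain ⟨D, hDdef⟩ : ∃ D, D = D₀.comp (isoEquiv (qG A α)).toMonoidHom := ⟨_, rfl⟩
  obtain ⟨θ, hθdef⟩ : ∃ θ, θ = θ₀.comp (isoEquiv (qG A α)).toMonoidHom := ⟨_, rfl⟩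
  have hrefl : ∀ (v : Idx α β → F) (hv : qG A α v ≠ 0) (g : Grp A α),
      (∀ x, toM g *ᵥ x = x - ((qG A α v)⁻¹ * QuadraticMap.polar (qG A α) x v) • v) →
      D g = Multiplicative.ofAdd 1 ∧ θ g = sqSign (qG A α v) := by
    intro v hv g hg
    have e : isoEquiv (qG A α) g = qRefl (qG A α) hv := qAut_ext fun x => by
      rw [isoEquiv_apply, qRefl_apply]
      exact hg x
    rw [hDdef, hθdef]
    simp only [MonoidHom.comp_apply, MulEquiv.coe_toMonoidHom, e, hD1 v hv, hθ v hv, and_self]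
  have hlevD : ∀ T : Matrix α α F, IsUnit T.det → D (mkG hA (lev T 1)) = 1 := fun T hT => by
    rw [hDdef]
    simp only [MonoidHom.comp_apply, MulEquiv.coe_toMonoidHom, hD]
    rw [qRank_isoEquiv]
    show Multiplicative.ofAdd (((toM (mkG hA (lev T 1)) - 1).rank : ℕ) : ZMod 2) = 1
    rw [toM_mkG hA (isom_lev hT (midIso_one A)), rank_lev_sub_one hT, Nat.cast_mul,
      show ((2 : ℕ) : ZMod 2) = 0 from rfl, zero_mul]
    rfl
  refine ⟨D, θ, fun g => ?_, fun T hT => ⟨hlevD T hT, ?_⟩, fun w hw => ?_, fun x => ?_, fun h2 g => ?_⟩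
  · rw [mem_Omega_iff, hiff, hDdef, hθdef]
    simp only [MonoidHom.comp_apply, MulEquiv.coe_toMonoidHom, hD]
    rw [← ofAdd_zero, Multiplicative.ofAdd.apply_eq_iff_eq, ZMod.natCast_eq_zero_iff_even]
  · -- the spinor norm of a block diagonal element
    by_cases h2 : (2 : F) = 0
    · rw [sqSign_of_two h2, hθdef]
      simp only [MonoidHom.comp_apply, MulEquiv.coe_toMonoidHom]
      exact theta_eq_one_of_two _ hnd hex h2 θ₀ hθ _
    let φ : GL α F → Grp A α := fun B => mkG hA (lev (B : Matrix α α F) 1)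
    have hdu : ∀ B : GL α F, IsUnit (B : Matrix α α F).det := fun B => (Matrix.isUnit_iff_isUnit_det _).1 B.isUnit
    let f : GL α F →* ℤˣ := MonoidHom.mk' (fun B => θ (φ B)) fun B C => by
      rw [← map_mul]
      refine congrArg θ ?_
      show mkG hA _ = mkG hA _ * mkG hA _
      rw [mkG_mul hA (isom_lev (hdu B) (midIso_one A)) (isom_lev (hdu C) (midIso_one A)), lev_mul, mul_one,
        Units.val_mul]
    suffices H : ∀ M : Matrix α α F, M.det ≠ 0 → ∀ B : GL α F, (B : Matrix α α F) = M → f B = sqSign M.det by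
      exact H T hT.ne_zero (GeneralLinearGroup.mkOfDetNeZero T hT.ne_zero) rfl
    intro M hM
    refine Matrix.diagonal_transvection_induction_of_det_ne_zero (fun M => ∀ B : GL α F,
      (B : Matrix α α F) = M → f B = sqSign M.det) M hM ?_ ?_ ?_
    · intro d hd B hB
      have hd' : ∀ i, d i ≠ 0 := fun i h => hd (by rw [det_diagonal]; exact Finset.prod_eq_zero (Finset.mem_univ i) h)
      let ψ : (α → Fˣ) →* GL α F :=
        (Units.map (diagonalRingHom α F).toMonoidHom).comp MulEquiv.piUnits.symm.toMonoidHom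
      let dd : (α → Fˣ) →* ℤˣ := MonoidHom.mk' (fun u => sqSignHom F (∏ i, u i)) fun u w => by
        simp only [Pi.mul_apply, Finset.prod_mul_distrib, map_mul]
      have hψv : ∀ u : α → Fˣ, ((ψ u : GL α F) : Matrix α α F) = diagonal fun i => (u i : F) := fun u => rfl
      have heq : f.comp ψ = dd := MonoidHom.functions_ext (M := fun _ : α => Fˣ) ℤˣ _ _ fun j z => by
        rw [MonoidHom.comp_apply]
        show θ (φ (ψ (Pi.mulSingle j z))) =
          sqSign ((∏ i, (Pi.mulSingle (M := fun _ : α => Fˣ) j z) i : Fˣ) : F)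
        rw [Finset.prod_pi_mulSingle', if_pos (Finset.mem_univ _)]
        obtain ⟨c, hc⟩ : ∃ c : F, c = (z : F)⁻¹ := ⟨_, rfl⟩
        have hc0 : c ≠ 0 := hc ▸ inv_ne_zero z.ne_zero
        obtain ⟨u, hu⟩ : ∃ u : Idx α β → F, u = Sum.elim (Pi.single j 1) (Sum.elim 0 (Pi.single j c)) := ⟨_, rfl⟩
        obtain ⟨w, hw⟩ : ∃ w : Idx α β → F, w = Sum.elim (Pi.single j 1) (Sum.elim 0 (Pi.single j 1)) := ⟨_, rfl⟩
        have hQu : qG A α u = c := by rw [hu, qG_elim]; simp
        have hQw : qG A α w = 1 := by rw [hw, qG_elim]; simp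
        have hu0 : qG A α u ≠ 0 := by rw [hQu]; exact hc0
        have hw0 : qG A α w ≠ 0 := by rw [hQw]; exact one_ne_zero
        let ru : Grp A α := (isoEquiv (qG A α)).symm (qRefl (qG A α) hu0)
        let rw' : Grp A α := (isoEquiv (qG A α)).symm (qRefl (qG A α) hw0)
        have hap : ∀ (v : Idx α β → F) (hv : qG A α v ≠ 0) (x : Idx α β → F),
            toM ((isoEquiv (qG A α)).symm (qRefl (qG A α) hv)) *ᵥ x =
              x - ((qG A α v)⁻¹ * QuadraticMap.polar (qG A α) x v) • v := fun v hv x => by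
          rw [← qRefl_apply (qG A α) hv x, ← (isoEquiv (qG A α)).apply_symm_apply (qRefl (qG A α) hv),
            isoEquiv_apply, MulEquiv.symm_apply_apply]
          rfl
        have hcomp : φ (ψ (Pi.mulSingle j z)) = ru * rw' := by
          refine toM_injective (Matrix.ext_of_mulVec_single fun k => ?_)
          rw [toM_mkG hA (isom_lev (hdu _) (midIso_one A)), toM_mul, ← mulVec_mulVec, hap, hap, hψv, hQu, hQw]
          obtain ⟨x₀, w₀, y₀, hk⟩ : ∃ x₀ w₀ y₀, (Pi.single k 1 : Idx α β → F) = Sum.elim x₀ (Sum.elim w₀ y₀) :=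
            ⟨_, _, _, (elim_parts _).symm⟩
          have hinv : (diagonal fun i => ((Pi.mulSingle j z : α → Fˣ) i : F))⁻¹ =
              diagonal fun i => (((Pi.mulSingle j z : α → Fˣ) i : F))⁻¹ :=
            inv_eq_right_inv (by rw [diagonal_mul_diagonal]; simp)
          rw [hk, lev_mulVec, hinv, diagonal_transpose, hu, hw]
          simp only [QuadraticMap.polar_sub_left, QuadraticMap.polar_smul_left, polar_qG_elim, smul_eq_mul,
            zero_dotProduct, dotProduct_zero, mulVec_zero, add_zero, dotProduct_single, single_dotProduct,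
            Pi.single_eq_same, mul_one, one_mul, one_mulVec]
          have hz : (z : F) ≠ 0 := z.ne_zero
          funext l
          rcases l with l | l | l <;>
            simp only [Sum.elim_inl, Sum.elim_inr, Pi.sub_apply, Pi.smul_apply, smul_eq_mul, mulVec_diagonal,
              Pi.zero_apply, mul_zero, sub_zero]
          all_goals rcases eq_or_ne l j with rfl | hl
          all_goals first
            | (simp [hl]; done)
            | (simp [hc]; field_simp; ring)
        have h1 := hrefl u hu0 ru (hap u hu0)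
        have h2' := hrefl w hw0 rw' (hap w hw0)
        rw [hcomp, map_mul, h1.2, h2'.2, hQu, hQw, sqSign_one, mul_one, hc, sqSign_inv]
      have hBψ : B = ψ fun i => Units.mk0 (d i) (hd' i) := Units.ext (by rw [hψv, hB]; rfl)
      have hh := DFunLike.congr_fun heq fun i => Units.mk0 (d i) (hd' i)
      rw [MonoidHom.comp_apply] at hh
      rw [hBψ, hh, det_diagonal]
      show sqSign ((∏ i, Units.mk0 (d i) (hd' i) : Fˣ) : F) = _
      rw [Units.coe_prod]
      rfl
    · intro t B hB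
      rw [TransvectionStruct.det, sqSign_one]
      let t' : GL α F := GeneralLinearGroup.mkOfDetNeZero (transvection t.i t.j (t.c / 2))
        (by rw [det_transvection_of_ne _ _ t.hij]; exact one_ne_zero)
      have hBt : B = t' * t' := Units.ext (by
        rw [hB, Units.val_mul]
        show transvection t.i t.j t.c = transvection t.i t.j (t.c / 2) * transvection t.i t.j (t.c / 2)
        haveI : NeZero (2 : F) := ⟨h2⟩
        rw [transvection_mul_transvection_same _ _ t.hij, add_halves])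
      rw [hBt, map_mul]
      exact Int.units_mul_self _
    · intro M N hM hN ihM ihN B hB
      have e : B = GeneralLinearGroup.mkOfDetNeZero M hM * GeneralLinearGroup.mkOfDetNeZero N hN :=
        Units.ext (by rw [hB, Units.val_mul]; rfl)
      rw [e, map_mul, ihM _ rfl, ihN _ rfl, det_mul, sqSign_mul hM hN]
  · -- a middle reflection
    obtain ⟨v, hv⟩ : ∃ v : Idx α β → F, v = Sum.elim (0 : α → F) (Sum.elim w (0 : α → F)) := ⟨_, rfl⟩
    have hQv : qG A α v = w ⬝ᵥ A *ᵥ w := by rw [hv, qG_elim]; simp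
    rw [← hQv]
    refine hrefl v (by rw [hQv]; exact hw) _ fun x => ?_
    rw [toM_mkG hA (isom_lev (by simp) (midIso_midRefl A hw)), hQv, hv]
    rw [← elim_parts x, lev_mulVec, polar_qG_elim, midRefl_mulVec, inv_one, transpose_one, one_mulVec, one_mulVec]
    funext i
    rcases i with i | i | i <;> simp
  · -- the exchange of one pair
    obtain ⟨v, hv⟩ : ∃ v : Idx α β → F, v = Sum.elim (Pi.single x 1) (Sum.elim 0 (Pi.single x (-1))) := ⟨_, rfl⟩
    have hQv : qG A α v = -1 := by rw [hv, qG_elim]; simp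
    refine (hrefl v (by rw [hQv]; exact neg_ne_zero.2 one_ne_zero) _ fun z => ?_).1
    rw [toM_mkG hA (isom_flipM A x), hQv, flipM_mulVec]
    conv_rhs => rw [← elim_parts z, hv, polar_qG_elim]
    funext i
    rcases i with i | i | i <;> simp [Equiv.swap_apply_def, inv_neg, Pi.single_apply] <;>
      split_ifs with h <;> simp_all
  · rw [hθdef]
    simp only [MonoidHom.comp_apply, MulEquiv.coe_toMonoidHom]
    exact theta_eq_one_of_two _ hnd hex h2 θ₀ hθ _

end CfsgLib.OmegaEvenComm
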