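import Cfsg.Agent.Lib.Classical.OmegaEvenComm.Good

/-!
# Making the middle part trivial and the corner cyclic

For an element whose lower left block is invertible on the first `k` coordinates and zero on the rest, conjugation
by upper unipotent elements reaches a corner `[[a, 0], [R, l]]` with middle part `1`.
-/

set_option autoImplicit false
set_option linter.unusedSectionVars false
set_option linter.unusedSimpArgs false

namespace CfsgLib.OmegaEvenComm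

open Matrix CfsgLib.SUComm
open CfsgLib.OmegaComm (Hess form_congr)

variable {F : Type*} [Field F] {α β : Type} [Fintype α] [DecidableEq α] [Fintype β] [DecidableEq β]
variable {A : Matrix β β F}

theorem toM_inv_upp (hA : IsUnit (gB A).det) {μ : Matrix β α F} {K : Matrix α α F} (h : Alt (K + μᵀ * A * μ)) :
    toM (mkG hA (upp A μ K))⁻¹ = upp A (-μ) (-K - μᵀ * gB A * μ) := toM_inv_eq (by
  rw [toM_mkG hA (isom_upp h), upp_mul, add_neg_cancel,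
    show K + (-K - μᵀ * gB A * μ) - μᵀ * gB A * -μ = 0 by rw [Matrix.mul_neg]; abel, upp_zero])

/-- Conjugation by an upper unipotent element. -/
theorem conj_upp_blk (μ : Matrix β α F) (K : Matrix α α F) (a : Matrix α α F) (b : Matrix α β F) (c : Matrix α α F)
    (d : Matrix β α F) (e : Matrix β β F) (f : Matrix β α F) (g : Matrix α α F) (h : Matrix α β F)
    (i : Matrix α α F) :
    let M := upp A μ K * blk a b c d e f g h i * upp A (-μ) (-K - μᵀ * gB A * μ)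
    let a' := a - μᵀ * gB A * d + K * g
    corner M = a' ∧ dblk M = d + μ * g ∧ gblk M = g ∧
      schur M = e + μ * h + (d + μ * g) * (μᵀ * gB A) -
        (d + μ * g) * a'⁻¹ * (a' * (μᵀ * gB A) + (b - μᵀ * gB A * e + K * h)) := by
  intro M a'
  simp only [M, a', upp, blk_mul, corner_blk, dblk_blk, gblk_blk, schur_blk]
  simp [sub_eq_add_neg, Matrix.add_mul, Matrix.mul_add, Matrix.mul_assoc]
  abel

theorem conj_lev_blk {B : Matrix α α F} (hB : IsUnit B.det) (a : Matrix α α F) (b : Matrix α β F)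
    (c : Matrix α α F) (d : Matrix β α F) (e : Matrix β β F) (f : Matrix β α F) (g : Matrix α α F)
    (h : Matrix α β F) (i : Matrix α α F) :
    (lev B⁻¹ 1 : Mat F α β) * blk a b c d e f g h i * lev B 1 =
      blk (B⁻¹ * a * B) (B⁻¹ * b) (B⁻¹ * c * (B⁻¹)ᵀ) (d * B) e (f * (B⁻¹)ᵀ) (Bᵀ * g * B) (Bᵀ * h)
        (Bᵀ * i * (B⁻¹)ᵀ) := by
  simp [lev, blk_mul, nonsing_inv_nonsing_inv _ hB]

/-- Conjugation by a block diagonal element. -/
theorem toM_conj_lev (hA : IsUnit (gB A).det) {B : Matrix α α F} (hB : IsUnit B.det) (g : Grp A α) :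
    toM (mkG hA (lev B⁻¹ 1) * g * (mkG hA (lev B⁻¹ 1))⁻¹) = (lev B⁻¹ 1 : Mat F α β) * toM g * lev B 1 := by
  have hBi : IsUnit B⁻¹.det := isUnit_nonsing_inv_det _ hB
  rw [toM_mul, toM_mul, toM_mkG hA (isom_lev hBi (midIso_one A)), toM_inv_eq (N := lev B 1) (by
    rw [toM_mkG hA (isom_lev hBi (midIso_one A)), lev_mul, nonsing_inv_mul _ hB, Matrix.one_mul, lev_one])]

/-- The classification of the middle isometries. -/
def Cls2 (A : Matrix β β F) : Prop :=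
  ∀ e : Matrix β β F, MidIso A e → e = 1 ∨ (∃ w : β → F, w ⬝ᵥ A *ᵥ w ≠ 0 ∧ e = midRefl A w) ∨
    ∃ w u : β → F, w ⬝ᵥ A *ᵥ w ≠ 0 ∧ u ⬝ᵥ A *ᵥ u ≠ 0 ∧ e = midRefl A w * midRefl A u

/-- What membership in the commutator subgroup says about a middle part and a corner determinant. -/
def SCond (A : Matrix β β F) (e : Matrix β β F) (c : F) : Prop :=
  (∀ w : β → F, w ⬝ᵥ A *ᵥ w ≠ 0 → e ≠ midRefl A w) ∧
    (∀ w u x : β → F, w ⬝ᵥ A *ᵥ w ≠ 0 → u ⬝ᵥ A *ᵥ u ≠ 0 → x ⬝ᵥ A *ᵥ x ≠ 0 →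
      e ≠ midRefl A w * midRefl A u * midRefl A x) ∧
    (e = 1 → IsSquare c)

/-- All conjugates with invertible corner satisfy `SCond`. -/
def SGood (g : Grp A α) : Prop :=
  ∀ x : Grp A α, IsUnit (corner (toM (x * g * x⁻¹))).det →
    SCond A (schur (toM (x * g * x⁻¹))) (corner (toM (x * g * x⁻¹))).det

theorem SGood.conj {g : Grp A α} (h : SGood g) (x : Grp A α) : SGood (x * g * x⁻¹) := fun y hy => by
  have e : y * (x * g * x⁻¹) * y⁻¹ = y * x * g * (y * x)⁻¹ := by group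
  rw [e] at hy ⊢
  exact h _ hy

section Adapted

variable {k : ℕ} {ρ : Type} [Fintype ρ] [DecidableEq ρ]

theorem alt_fromBlocks {X : Matrix (Fin k) (Fin k) F} (hX : Alt X) (L : Matrix ρ (Fin k) F) :
    Alt (fromBlocks X (-Lᵀ) L (0 : Matrix ρ ρ F)) := by
  obtain ⟨h1, h0⟩ := alt_iff.1 hX
  refine alt_iff.2 ⟨?_, fun i => ?_⟩
  · rw [fromBlocks_transpose, fromBlocks_neg, h1]
    simp
  · rcases i with i | i <;> simp [h0]

theorem alt_adapted {μ : Matrix β (Fin k) F} {K : Matrix (Fin k) (Fin k) F} (h : Alt (K + μᵀ * A * μ))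
    (L : Matrix ρ (Fin k) F) :
    Alt (fromBlocks K (-Lᵀ) L (0 : Matrix ρ ρ F) + (fromCols μ (0 : Matrix β ρ F))ᵀ * A * fromCols μ (0 : Matrix β ρ F)) := by
  have e : (fromCols μ (0 : Matrix β ρ F))ᵀ * A * fromCols μ (0 : Matrix β ρ F) = fromBlocks (μᵀ * A * μ) 0 0 0 := by
    rw [transpose_fromCols, fromRows_mul, fromRows_mul_fromCols]
    simp
  rw [e, fromBlocks_add]
  simpa using alt_fromBlocks h L

/-- The normalised element. -/
theorem exists_norm (hA : IsUnit (gB A).det) {g : Grp A (Fin k ⊕ ρ)} {G a₁ : Matrix (Fin k) (Fin k) F}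
    {a₂ : Matrix ρ (Fin k) F} {d₁ : Matrix β (Fin k) F} {l : F} (hG : IsUnit G.det)
    (hg : gblk (toM g) = fromBlocks G 0 0 0) (ha : corner (toM g) = fromBlocks a₁ 0 a₂ (l • 1))
    (hd : dblk (toM g) = fromCols d₁ 0) :
    ∃ (x : Grp A (Fin k ⊕ ρ)), gblk (toM (x * g * x⁻¹)) = fromBlocks G 0 0 0 ∧
      corner (toM (x * g * x⁻¹)) = fromBlocks 0 0 0 (l • 1) ∧ dblk (toM (x * g * x⁻¹)) = 0 := by
  obtain ⟨a, b, c, d, e, f, g₀, h, i, hM⟩ := exists_blk (toM g)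
  have hI : Isom A (blk a b c d e f g₀ h i) := hM ▸ isom_toM g
  rw [hM, gblk_blk] at hg
  rw [hM, corner_blk] at ha
  rw [hM, dblk_blk] at hd
  obtain ⟨r1, -⟩ := hI.rel
  obtain ⟨η, hη⟩ : ∃ η, η = d₁ * G⁻¹ := ⟨_, rfl⟩
  obtain ⟨b₁, hb₁⟩ : ∃ b₁, b₁ = a₁ * G⁻¹ := ⟨_, rfl⟩
  have hGi : G * G⁻¹ = 1 := mul_nonsing_inv _ hG
  have hGi' : G⁻¹ * G = 1 := nonsing_inv_mul _ hG
  have r : Alt (a₁ᵀ * G + d₁ᵀ * A * d₁) := by
    have e' : (fromRows (1 : Matrix (Fin k) (Fin k) F) (0 : Matrix ρ (Fin k) F))ᵀ *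
        (aᵀ * g₀ + dᵀ * A * d) * fromRows (1 : Matrix (Fin k) (Fin k) F) (0 : Matrix ρ (Fin k) F) =
          a₁ᵀ * G + d₁ᵀ * A * d₁ := by
      rw [ha, hg, hd, fromBlocks_transpose, fromBlocks_multiply, transpose_fromCols, fromRows_mul,
        fromRows_mul_fromCols, fromBlocks_add, transpose_fromRows, fromCols_mul_fromBlocks, fromCols_mul_fromRows]
      simp
    exact e' ▸ r1.conj _
  obtain ⟨K, hK⟩ : ∃ K, K = -b₁ - ηᵀ * gB A * η := ⟨_, rfl⟩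
  have hrad : Alt (K + (-η)ᵀ * A * (-η)) := by
    refine (alt_transpose.2 (r.conj G⁻¹)).neg.congr fun v => ?_
    congr 2
    rw [hK, hb₁, hη]
    simp only [gB, transpose_add, transpose_mul, transpose_transpose, transpose_neg, Matrix.mul_add, Matrix.add_mul,
      Matrix.neg_mul, Matrix.mul_neg, neg_neg]
    have e1 : G⁻¹ᵀ * (Gᵀ * a₁ * G⁻¹) = a₁ * G⁻¹ := by
      rw [Matrix.mul_assoc Gᵀ, ← Matrix.mul_assoc, ← transpose_mul, hGi, transpose_one, Matrix.one_mul]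
    rw [e1]
    simp only [Matrix.mul_assoc]
    abel
  have hrad' := alt_adapted (ρ := ρ) hrad (-a₂ * G⁻¹)
  obtain ⟨x, hx⟩ : ∃ x, x = mkG hA (upp A (fromCols (-η) (0 : Matrix β ρ F))
      (fromBlocks K (-(-a₂ * G⁻¹)ᵀ) (-a₂ * G⁻¹) (0 : Matrix ρ ρ F))) := ⟨_, rfl⟩
  refine ⟨x, ?_⟩
  rw [toM_mul, toM_mul, hx, toM_mkG hA (isom_upp hrad'), toM_inv_upp hA hrad', hM]
  obtain ⟨e1, e2, e3, -⟩ := conj_upp_blk (A := A) (fromCols (-η) (0 : Matrix β ρ F))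
    (fromBlocks K (-(-a₂ * G⁻¹)ᵀ) (-a₂ * G⁻¹) (0 : Matrix ρ ρ F)) a b c d e f g₀ h i
  rw [e1, e2, e3, ha, hg, hd]
  refine ⟨rfl, ?_, ?_⟩
  · rw [transpose_fromCols, fromRows_mul, fromRows_mul_fromCols, fromBlocks_multiply, sub_eq_add_neg,
      fromBlocks_neg, fromBlocks_add, fromBlocks_add, fromBlocks_inj]
    refine ⟨?_, by simp, ?_, by simp⟩
    · rw [hK, hb₁, hη]
      simp only [transpose_neg, Matrix.neg_mul, Matrix.sub_mul, neg_neg, Matrix.mul_zero, add_zero]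
      rw [Matrix.mul_assoc a₁, hGi', Matrix.mul_one, show ((d₁ * G⁻¹)ᵀ * gB A * (d₁ * G⁻¹)) * G =
        (d₁ * G⁻¹)ᵀ * gB A * d₁ by simp only [Matrix.mul_assoc, hGi', Matrix.mul_one]]
      abel
    · simp [Matrix.mul_assoc, hGi']
  · rw [fromCols_mul_fromBlocks]
    ext u (j | j)
    · simp [hη, Matrix.mul_assoc, hGi']
    · simp

/-- From the normal form to a corner `S * G`. -/
theorem schur_norm {μ : Matrix β (Fin k) F} {S G : Matrix (Fin k) (Fin k) F} {L : Matrix ρ (Fin k) F} {l : F}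
    (hG : IsUnit G.det) (hS : IsUnit S.det) (hl : IsEmpty ρ ∨ l ≠ 0)
    {b : Matrix (Fin k ⊕ ρ) β F} {c : Matrix (Fin k ⊕ ρ) (Fin k ⊕ ρ) F} {e : Matrix β β F}
    {f : Matrix β (Fin k ⊕ ρ) F} {h : Matrix (Fin k ⊕ ρ) β F} {i : Matrix (Fin k ⊕ ρ) (Fin k ⊕ ρ) F}
    (hI : Isom A (blk (fromBlocks 0 0 0 (l • 1)) b c 0 e f (fromBlocks G 0 0 0) h i)) :
    let μ' := fromCols μ (0 : Matrix β ρ F)
    let K := fromBlocks S (-Lᵀ) L (0 : Matrix ρ ρ F)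
    let M := upp A μ' K * blk (fromBlocks 0 0 0 (l • 1)) b c 0 e f (fromBlocks G 0 0 0) h i *
      upp A (-μ') (-K - μ'ᵀ * gB A * μ')
    corner M = fromBlocks (S * G) 0 (L * G) (l • 1) ∧ schur M = (1 + μ * S⁻¹ * (μᵀ * gB A)) * e := by
  intro μ' K M
  obtain ⟨b₁, b₂, rfl⟩ : ∃ b₁ b₂, b = fromRows b₁ b₂ := ⟨_, _, (fromRows_toRows b).symm⟩
  obtain ⟨h₁, h₂, rfl⟩ : ∃ h₁ h₂, h = fromRows h₁ h₂ := ⟨_, _, (fromRows_toRows h).symm⟩
  obtain ⟨-, -, -, r4, -, -⟩ := hI.rel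
  rw [fromBlocks_transpose, fromBlocks_transpose, fromBlocks_mul_fromRows, fromBlocks_mul_fromRows] at r4
  simp only [transpose_zero, Matrix.zero_mul, zero_add, add_zero, transpose_smul, transpose_one] at r4
  have hb : b₁ = 0 ∧ l • h₂ = 0 := by
    constructor
    · have : Gᵀ * b₁ = 0 := by
        ext x y
        simpa using congrFun (congrFun r4 (.inl x)) y
      calc b₁ = (Gᵀ)⁻¹ * (Gᵀ * b₁) := by
            rw [← Matrix.mul_assoc, nonsing_inv_mul _ (by rwa [det_transpose]), Matrix.one_mul]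
        _ = 0 := by rw [this, Matrix.mul_zero]
    · ext x y
      simpa [Matrix.smul_mul] using congrFun (congrFun r4 (.inr x)) y
  obtain ⟨hb1, hh2⟩ := hb
  have hh : h₂ = 0 := by
    rcases hl with he | hl
    · exact Subsingleton.elim _ _
    · exact (smul_eq_zero.1 hh2).resolve_left hl
  obtain ⟨e1, -, -, e4⟩ := conj_upp_blk (A := A) μ' K (fromBlocks 0 0 0 (l • 1)) (fromRows b₁ b₂) c 0 e f
    (fromBlocks G 0 0 0) (fromRows h₁ h₂) i
  have ha : fromBlocks 0 0 0 (l • (1 : Matrix ρ ρ F)) - μ'ᵀ * gB A * (0 : Matrix β (Fin k ⊕ ρ) F) + K * fromBlocks G 0 0 0 =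
      fromBlocks (S * G) 0 (L * G) (l • 1) := by
    simp [K, fromBlocks_multiply, fromBlocks_add]
  rw [ha] at e1 e4
  refine ⟨e1, ?_⟩
  show schur M = _
  rw [e4, zero_add]
  obtain ⟨a', ha'⟩ : ∃ a', a' = fromBlocks (S * G) 0 (L * G) (l • (1 : Matrix ρ ρ F)) := ⟨_, rfl⟩
  have hSG : IsUnit (S * G).det := by rw [det_mul]; exact hS.mul hG
  have hlu : IsUnit (l • (1 : Matrix ρ ρ F)).det := by
    rcases hl with he | hl
    · rw [Matrix.det_isEmpty]; exact isUnit_one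
    · rw [det_smul, det_one, mul_one]; exact isUnit_iff_ne_zero.2 (pow_ne_zero _ hl)
  have hau : IsUnit a'.det := by rw [ha', det_fromBlocks_zero₁₂]; exact hSG.mul hlu
  rw [← ha']
  have hq : μ' * (fromBlocks G 0 0 0 : Matrix (Fin k ⊕ ρ) (Fin k ⊕ ρ) F) * a'⁻¹ = fromCols (μ * S⁻¹) (0 : Matrix β ρ F) := by
    have : fromCols (μ * S⁻¹) (0 : Matrix β ρ F) * a' = μ' * (fromBlocks G 0 0 0 : Matrix (Fin k ⊕ ρ) (Fin k ⊕ ρ) F) := by
      rw [ha', fromCols_mul_fromBlocks, fromCols_mul_fromBlocks]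
      simp [Matrix.mul_assoc]
      rw [← Matrix.mul_assoc S⁻¹, nonsing_inv_mul _ hS, Matrix.one_mul]
    rw [← this, Matrix.mul_assoc, mul_nonsing_inv _ hau, Matrix.mul_one]
  rw [hq, Matrix.mul_add, ← Matrix.mul_assoc (fromCols (μ * S⁻¹) (0 : Matrix β ρ F)), show fromCols (μ * S⁻¹) (0 : Matrix β ρ F) * a' =
    μ' * (fromBlocks G 0 0 0 : Matrix (Fin k ⊕ ρ) (Fin k ⊕ ρ) F) by rw [← hq, Matrix.mul_assoc, nonsing_inv_mul _ hau, Matrix.mul_one]]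
  have hrow : fromRows b₁ b₂ - μ'ᵀ * gB A * e + K * fromRows h₁ h₂ =
      fromRows (-(μᵀ * gB A * e) + S * h₁) (b₂ + L * h₁) := by
    simp only [μ', K, transpose_fromCols, fromRows_mul, fromBlocks_mul_fromRows, hb1, hh]
    ext (x | x) y <;> simp
  rw [hrow]
  simp only [μ', fromCols_mul_fromRows, Matrix.zero_mul, add_zero]
  rw [Matrix.mul_add, Matrix.mul_neg, ← Matrix.mul_assoc (μ * S⁻¹) S,
    Matrix.mul_assoc μ S⁻¹ S, nonsing_inv_mul _ hS, Matrix.mul_one, Matrix.add_mul, Matrix.one_mul]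
  simp only [Matrix.mul_assoc]
  abel

variable [Fintype F]

/-- The corner. -/
theorem exists_good_corner (hA : IsUnit (gB A).det) (hc2 : Cls2 A) (hk : 0 < k)
    (hev : (∃ w : β → F, w ⬝ᵥ A *ᵥ w ≠ 0) ∨ Even k) {g : Grp A (Fin k ⊕ ρ)}
    {G a₁ : Matrix (Fin k) (Fin k) F} {a₂ : Matrix ρ (Fin k) F} {d₁ : Matrix β (Fin k) F} {l : F}
    (hG : IsUnit G.det) (hg : gblk (toM g) = fromBlocks G 0 0 0)
    (ha : corner (toM g) = fromBlocks a₁ 0 a₂ (l • 1)) (hd : dblk (toM g) = fromCols d₁ 0)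
    (hl : IsEmpty ρ ∨ l ≠ 0) (hs : SGood g) :
    ∃ a : Matrix (Fin k) (Fin k) F,
      ((Hess a ∧ a.det * l ^ Fintype.card ρ = 1) ∨ (a = 1 ∧ ∀ w : β → F, w ⬝ᵥ A *ᵥ w = 0)) ∧
      ∀ R : Matrix ρ (Fin k) F, ∃ x : Grp A (Fin k ⊕ ρ),
        corner (toM (x * g * x⁻¹)) = fromBlocks a 0 R (l • 1) ∧ schur (toM (x * g * x⁻¹)) = 1 := by
  obtain ⟨x₁, hg₁, ha₁, hd₁⟩ := exists_norm hA hG hg ha hd
  obtain ⟨g₁, hg₁def⟩ : ∃ g₁, g₁ = x₁ * g * x₁⁻¹ := ⟨_, rfl⟩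
  rw [← hg₁def] at hg₁ ha₁ hd₁
  have hs₁ : SGood g₁ := hg₁def ▸ hs.conj x₁
  obtain ⟨a, b, c, d, e, f, g₀, h, i, hM⟩ := exists_blk (toM g₁)
  have hI : Isom A (blk a b c d e f g₀ h i) := hM ▸ isom_toM g₁
  rw [hM, gblk_blk] at hg₁
  rw [hM, corner_blk] at ha₁
  rw [hM, dblk_blk] at hd₁
  rw [ha₁, hd₁, hg₁] at hM hI
  -- every middle part of the parity of `k` can be produced
  have reach : ∀ R : Matrix β β F, Tgt A k R → ∃ (D : F), D ≠ 0 ∧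
      (∀ R' : Matrix ρ (Fin k) F, ∃ (x : Grp A (Fin k ⊕ ρ)) (a : Matrix (Fin k) (Fin k) F),
        corner (toM (x * g * x⁻¹)) = fromBlocks a 0 R' (l • 1) ∧ schur (toM (x * g * x⁻¹)) = R * e ∧ a.det = D) ∧
      ∀ c : F, c ≠ 0 → IsSquare (D * c) → ∃ a : Matrix (Fin k) (Fin k) F,
        ((Hess a ∧ a.det * c = 1) ∨ (a = 1 ∧ ∀ w : β → F, w ⬝ᵥ A *ᵥ w = 0)) ∧
        ∀ R' : Matrix ρ (Fin k) F, ∃ x : Grp A (Fin k ⊕ ρ),
          corner (toM (x * g * x⁻¹)) = fromBlocks a 0 R' (l • 1) ∧ schur (toM (x * g * x⁻¹)) = R * e := by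
    intro R hR
    obtain ⟨B, D, hB, hD, hr₁, hr₂⟩ := exists_reach hk hG.ne_zero hR
    obtain ⟨Bb, hBb⟩ : ∃ Bb : Matrix (Fin k ⊕ ρ) (Fin k ⊕ ρ) F, Bb = fromBlocks B 0 0 1 := ⟨_, rfl⟩
    have h1u : IsUnit (1 : Matrix ρ ρ F).det := by rw [det_one]; exact isUnit_one
    have hBu : IsUnit Bb.det := by rw [hBb, det_fromBlocks_zero₂₁, det_one, mul_one]; exact hB
    obtain ⟨L₀, hL₀⟩ : ∃ L₀ : Grp A (Fin k ⊕ ρ), L₀ = mkG hA (lev Bb⁻¹ 1) := ⟨_, rfl⟩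
    obtain ⟨G', hG'⟩ : ∃ G', G' = Bᵀ * G * B := ⟨_, rfl⟩
    have hG'u : IsUnit G'.det := by rw [hG', det_mul, det_mul, det_transpose]; exact (hB.mul hG).mul hB
    rw [← hG'] at hr₁ hr₂
    have hM₂ : ∃ b' c' f' h' i', toM (L₀ * g₁ * L₀⁻¹) =
        blk (fromBlocks 0 0 0 (l • 1)) b' c' 0 e f' (fromBlocks G' 0 0 0) h' i' := by
      refine ⟨Bb⁻¹ * b, Bb⁻¹ * c * (Bb⁻¹)ᵀ, f * (Bb⁻¹)ᵀ, Bbᵀ * h, Bbᵀ * i * (Bb⁻¹)ᵀ, ?_⟩
      rw [hL₀, toM_conj_lev hA hBu, hM, conj_lev_blk hBu, blk_inj]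
      refine ⟨?_, rfl, rfl, Matrix.zero_mul _, rfl, rfl, ?_, rfl, rfl⟩
      · rw [hBb, inv_eq_right_inv (B := fromBlocks B⁻¹ 0 0 1) (by
          rw [fromBlocks_multiply, mul_nonsing_inv _ hB]; simp [fromBlocks_one]), fromBlocks_multiply, fromBlocks_multiply]
        simp
      · rw [hBb, fromBlocks_transpose, fromBlocks_multiply, fromBlocks_multiply]
        simp [hG']
    obtain ⟨b', c', f', h', i', hM₂⟩ := hM₂
    have hI₂ : Isom A (blk (fromBlocks 0 0 0 (l • 1)) b' c' 0 e f' (fromBlocks G' 0 0 0) h' i') :=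
      hM₂ ▸ isom_toM _
    have main : ∀ P : Matrix (Fin k) (Fin k) F → Prop, Reach A G' R P → ∃ a : Matrix (Fin k) (Fin k) F, P a ∧
        ∀ R' : Matrix ρ (Fin k) F, ∃ x : Grp A (Fin k ⊕ ρ),
          corner (toM (x * g * x⁻¹)) = fromBlocks a 0 R' (l • 1) ∧ schur (toM (x * g * x⁻¹)) = R * e := by
      rintro P ⟨S, μ, hS, hSu, hRe, hP⟩
      refine ⟨S * G', hP, fun R' => ?_⟩
      have hrad := alt_adapted (ρ := ρ) hS (R' * G'⁻¹)
      refine ⟨mkG hA (upp A (fromCols μ (0 : Matrix β ρ F)) (fromBlocks S (-(R' * G'⁻¹)ᵀ) (R' * G'⁻¹) (0 : Matrix ρ ρ F))) * L₀ * x₁, ?_⟩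
      obtain ⟨e1, e2⟩ := schur_norm (μ := μ) (L := R' * G'⁻¹) hG'u hSu hl hI₂
      have key : toM (mkG hA (upp A (fromCols μ (0 : Matrix β ρ F)) (fromBlocks S (-(R' * G'⁻¹)ᵀ) (R' * G'⁻¹) (0 : Matrix ρ ρ F))) *
          (L₀ * g₁ * L₀⁻¹) * (mkG hA (upp A (fromCols μ (0 : Matrix β ρ F)) (fromBlocks S (-(R' * G'⁻¹)ᵀ) (R' * G'⁻¹) (0 : Matrix ρ ρ F))))⁻¹) =
          upp A (fromCols μ (0 : Matrix β ρ F)) (fromBlocks S (-(R' * G'⁻¹)ᵀ) (R' * G'⁻¹) (0 : Matrix ρ ρ F)) *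
            blk (fromBlocks 0 0 0 (l • 1)) b' c' 0 e f' (fromBlocks G' 0 0 0) h' i' *
            upp A (-fromCols μ (0 : Matrix β ρ F)) (-fromBlocks S (-(R' * G'⁻¹)ᵀ) (R' * G'⁻¹) (0 : Matrix ρ ρ F) -
              (fromCols μ (0 : Matrix β ρ F))ᵀ * gB A * fromCols μ (0 : Matrix β ρ F)) := by
        rw [toM_mul, toM_mul, toM_mkG hA (isom_upp hrad), toM_inv_upp hA hrad, hM₂]
      rw [← key, hRe] at e2
      rw [← key, Matrix.mul_assoc R', nonsing_inv_mul _ hG'u, Matrix.mul_one] at e1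
      rw [hg₁def] at e1 e2
      refine ⟨?_, ?_⟩
      · rw [← e1]; congr 2; group
      · rw [← e2]; congr 2; group
    refine ⟨D, hD, fun R' => ?_, fun c hc hsq => main _ (hr₂ c hc hsq)⟩
    obtain ⟨a, hdet, hx⟩ := main _ hr₁
    obtain ⟨x, hx⟩ := hx R'
    exact ⟨x, a, hx.1, hx.2, hdet⟩
  have hmid : MidIso A e := by
    obtain ⟨-, r2, -, r4, -, -⟩ := hI.rel
    obtain ⟨b₁, b₂, rfl⟩ : ∃ b₁ b₂, b = fromRows b₁ b₂ := ⟨_, _, (fromRows_toRows b).symm⟩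
    obtain ⟨h₁, h₂, rfl⟩ : ∃ h₁ h₂, h = fromRows h₁ h₂ := ⟨_, _, (fromRows_toRows h).symm⟩
    rw [fromBlocks_transpose, fromBlocks_transpose, fromBlocks_mul_fromRows, fromBlocks_mul_fromRows] at r4
    simp only [transpose_zero, Matrix.zero_mul, zero_add, add_zero, transpose_smul, transpose_one] at r4
    have hb1 : Gᵀ * b₁ = 0 := by
      ext x y
      simpa using congrFun (congrFun r4 (.inl x)) y
    have hb1' : b₁ = 0 := by
      calc b₁ = (Gᵀ)⁻¹ * (Gᵀ * b₁) := by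
            rw [← Matrix.mul_assoc, nonsing_inv_mul _ (by rwa [det_transpose]), Matrix.one_mul]
        _ = 0 := by rw [hb1, Matrix.mul_zero]
    have hh2 : h₂ = 0 := by
      rcases hl with he | hl
      · exact Subsingleton.elim _ _
      · refine (smul_eq_zero.1 (show l • h₂ = 0 from ?_)).resolve_left hl
        ext x y
        simpa [Matrix.smul_mul] using congrFun (congrFun r4 (.inr x)) y
    rw [transpose_fromRows, fromCols_mul_fromRows, hb1', hh2] at r2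
    simpa [MidIso] using r2
  have hl' : l ^ Fintype.card ρ ≠ 0 := by
    rcases hl with he | hl
    · simp
    · exact pow_ne_zero _ hl
  -- the parities agree
  have odd_false : ∀ R : Matrix β β F, Tgt A k R →
      ((∃ w : β → F, w ⬝ᵥ A *ᵥ w ≠ 0 ∧ R * e = midRefl A w) ∨ ∃ w u x : β → F, w ⬝ᵥ A *ᵥ w ≠ 0 ∧
        u ⬝ᵥ A *ᵥ u ≠ 0 ∧ x ⬝ᵥ A *ᵥ x ≠ 0 ∧ R * e = midRefl A w * midRefl A u * midRefl A x) → False := by
    intro R hR hodd
    obtain ⟨D, hD, hx, -⟩ := reach R hR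
    obtain ⟨x, a, hca, hsch, hdet⟩ := hx 0
    obtain ⟨h1, h2, -⟩ := hs x (by
      rw [hca, det_fromBlocks_zero₁₂, det_smul, det_one, mul_one, hdet]
      exact isUnit_iff_ne_zero.2 (mul_ne_zero hD hl'))
    rw [hsch] at h1 h2
    rcases hodd with ⟨w, hw, e'⟩ | ⟨w, u, y, hw, hu, hy, e'⟩
    exacts [h1 w hw e', h2 w u y hw hu hy e']
  have fine : ∀ R : Matrix β β F, Tgt A k R → R * e = 1 → ∃ a : Matrix (Fin k) (Fin k) F,
      ((Hess a ∧ a.det * l ^ Fintype.card ρ = 1) ∨ (a = 1 ∧ ∀ w : β → F, w ⬝ᵥ A *ᵥ w = 0)) ∧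
      ∀ R : Matrix ρ (Fin k) F, ∃ x : Grp A (Fin k ⊕ ρ),
        corner (toM (x * g * x⁻¹)) = fromBlocks a 0 R (l • 1) ∧ schur (toM (x * g * x⁻¹)) = 1 := by
    intro R hR hRe
    obtain ⟨D, hD, hx, hfin⟩ := reach R hR
    obtain ⟨x, a, hca, hsch, hdet⟩ := hx 0
    have hcd : (corner (toM (x * g * x⁻¹))).det = D * l ^ Fintype.card ρ := by
      rw [hca, det_fromBlocks_zero₁₂, det_smul, det_one, mul_one, hdet]
    obtain ⟨-, -, h3⟩ := hs x (by rw [hcd]; exact isUnit_iff_ne_zero.2 (mul_ne_zero hD hl'))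
    rw [hcd] at h3
    obtain ⟨a', h1, h2⟩ := hfin _ hl' (h3 (hsch.trans hRe))
    exact ⟨a', h1, fun R' => by
      obtain ⟨x', hx1, hx2⟩ := h2 R'
      exact ⟨x', hx1, hx2.trans hRe⟩⟩
  rcases Nat.even_or_odd k with hke | hko
  · rcases hc2 e hmid with rfl | ⟨w, hw, rfl⟩ | ⟨w, u, hw, hu, rfl⟩
    · exact fine 1 (Or.inr ⟨hke, Or.inl rfl⟩) (Matrix.one_mul _)
    · exact (odd_false 1 (Or.inr ⟨hke, Or.inl rfl⟩) (Or.inl ⟨w, hw, Matrix.one_mul _⟩)).elim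
    · refine fine (midRefl A u * midRefl A w) (Or.inr ⟨hke, Or.inr ⟨u, w, hu, hw, rfl⟩⟩) ?_
      rw [Matrix.mul_assoc, ← Matrix.mul_assoc (midRefl A w) (midRefl A w), midRefl_mul_self A hw, Matrix.one_mul,
        midRefl_mul_self A hu]
  · obtain ⟨y, hy⟩ := hev.resolve_right (Nat.not_even_iff_odd.2 hko)
    rcases hc2 e hmid with rfl | ⟨w, hw, rfl⟩ | ⟨w, u, hw, hu, rfl⟩
    · exact (odd_false _ (Or.inl ⟨hko, y, hy, rfl⟩) (Or.inl ⟨y, hy, Matrix.mul_one _⟩)).elim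
    · exact fine _ (Or.inl ⟨hko, w, hw, rfl⟩) (midRefl_mul_self A hw)
    · exact (odd_false _ (Or.inl ⟨hko, y, hy, rfl⟩)
        (Or.inr ⟨y, w, u, hy, hw, hu, by rw [Matrix.mul_assoc]⟩)).elim

end Adapted

end CfsgLib.OmegaEvenComm
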