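import Cfsg.Agent.Lib.Classical.OmegaEvenComm.Cls

/-!
# Isometries in the big cell with a factorisable corner are commutators

`Valid A T τ` says that `D = lev T τ` fixes no nontrivial element of the two unipotent radicals. Then
`v ↦ v * D * v⁻¹ * D⁻¹` is a bijection of each radical.
-/

set_option autoImplicit false
set_option linter.unusedSectionVars false
set_option linter.unusedSimpArgs false

namespace CfsgLib.OmegaEvenComm

open Matrix CfsgLib.SUComm CfsgLib.Classical CfsgLib.Classical.Spin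

/-- The twisting map of a finite set closed under the group operations and conjugation by `D` is onto. -/
theorem exists_twist {G : Type*} [Group G] [Finite G] (S : Set G) (hmul : ∀ x ∈ S, ∀ y ∈ S, x * y ∈ S)
    (hinv : ∀ x ∈ S, x⁻¹ ∈ S) (D : G) (hconj : ∀ x ∈ S, D * x * D⁻¹ ∈ S) (hfix : ∀ x ∈ S, x * D = D * x → x = 1)
    {u : G} (hu : u ∈ S) : ∃ v ∈ S, u = v * D * v⁻¹ * D⁻¹ := by
  let f : S → S := fun v => ⟨v.1 * D * v.1⁻¹ * D⁻¹, by
    rw [show v.1 * D * v.1⁻¹ * D⁻¹ = v.1 * (D * v.1⁻¹ * D⁻¹) by group]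
    exact hmul _ v.2 _ (hconj _ (hinv _ v.2))⟩
  have hinj : Function.Injective f := by
    rintro ⟨v, hv⟩ ⟨w, hw⟩ h
    have h' : v * D * v⁻¹ * D⁻¹ = w * D * w⁻¹ * D⁻¹ := congrArg Subtype.val h
    have : (w⁻¹ * v) * D = D * (w⁻¹ * v) := by
      calc w⁻¹ * v * D = w⁻¹ * (v * D * v⁻¹ * D⁻¹) * (D * v) := by group
        _ = D * (w⁻¹ * v) := by rw [h']; group
    have h1 := hfix _ (hmul _ (hinv _ hw) _ hv) this
    exact Subtype.ext (inv_mul_eq_one.1 h1).symm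
  obtain ⟨v, hv⟩ := Finite.surjective_of_injective hinj ⟨u, hu⟩
  exact ⟨v.1, v.2, (congrArg Subtype.val hv).symm⟩

variable {F : Type*} [Field F] {α β : Type} [Fintype α] [DecidableEq α] [Fintype β] [DecidableEq β]
variable (A : Matrix β β F)

/-- No fixed radical element. -/
structure Valid (T : Matrix α α F) (τ : Matrix β β F) : Prop where
  det : IsUnit T.det
  mid : MidIso A τ
  altUp : ∀ K : Matrix α α F, Alt K → T * K * Tᵀ = K → K = 0
  altLow : ∀ K : Matrix α α F, Alt K → Tᵀ * K * T = K → K = 0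
  mixUp : ∀ μ : Matrix β α F, τ * μ * Tᵀ = μ → μ = 0
  mixLow : ∀ μ : Matrix β α F, τ * μ = μ * T → μ = 0

/-- The middle part is a product of at most two reflections, an even number. -/
def Rot (τ : Matrix β β F) : Prop :=
  τ = 1 ∨ ∃ w u : β → F, w ⬝ᵥ A *ᵥ w ≠ 0 ∧ u ⬝ᵥ A *ᵥ u ≠ 0 ∧ τ = midRefl A w * midRefl A u

/-- `a` is a quotient of two conjugates of a valid matrix. -/
def Cell (a : Matrix α α F) : Prop :=
  ∃ (T : Matrix α α F) (τ : Matrix β β F) (P R : Matrix α α F), Valid A T τ ∧ Rot A τ ∧ IsUnit P.det ∧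
    IsUnit R.det ∧ a = P * T * P⁻¹ * (R * T⁻¹ * R⁻¹)

/-- A cell with free spinor norm. -/
def CellFree (a : Matrix α α F) : Prop :=
  ∃ (T : Matrix α α F) (τ : Matrix β β F) (P R : Matrix α α F), Valid A T τ ∧ IsUnit P.det ∧ IsUnit R.det ∧
    a = P * T * P⁻¹ * (R * T⁻¹ * R⁻¹) ∧
    ((τ = 1 ∧ IsSquare T.det) ∨ ∃ w u : β → F, w ⬝ᵥ A *ᵥ w ≠ 0 ∧ u ⬝ᵥ A *ᵥ u ≠ 0 ∧
      τ = midRefl A w * midRefl A u ∧ IsSquare (T.det * ((w ⬝ᵥ A *ᵥ w) * (u ⬝ᵥ A *ᵥ u)))) ∧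
    ∀ c : F, c ≠ 0 → ∃ Z : Matrix α α F, Z * T = T * Z ∧ Z.det = c

theorem CellFree.cell {a : Matrix α α F} : CellFree A a → Cell A a := by
  rintro ⟨T, τ, P, R, hV, hP, hR, ha, hτ, -⟩
  refine ⟨T, τ, P, R, hV, ?_, hP, hR, ha⟩
  rcases hτ with ⟨h, -⟩ | ⟨w, u, hw, hu, h, -⟩
  exacts [Or.inl h, Or.inr ⟨w, u, hw, hu, h⟩]

theorem Rot.midIso {τ : Matrix β β F} (h : Rot A τ) : MidIso A τ := by
  rcases h with rfl | ⟨w, u, hw, hu, rfl⟩
  · exact midIso_one A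
  · exact (midIso_midRefl A hw).mul (midIso_midRefl A hu)

variable {A}

theorem MidIso.gB_eq {e : Matrix β β F} (h : MidIso A e) : eᵀ * gB A * e = gB A := by
  obtain ⟨h1, -⟩ := alt_iff.1 h
  simp only [transpose_sub, transpose_mul, transpose_transpose, neg_sub] at h1
  rw [gB, Matrix.mul_add, Matrix.add_mul]
  rw [← sub_eq_zero] at h1 ⊢
  rw [← h1]
  simp only [Matrix.mul_assoc]
  abel

theorem MidIso.isUnit_det {e : Matrix β β F} (hA : IsUnit (gB A).det) (h : MidIso A e) : IsUnit e.det := by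
  have := congrArg Matrix.det h.gB_eq
  rw [det_mul, det_mul] at this
  exact (IsUnit.mul_iff.1 (show IsUnit (eᵀ.det * (gB A).det * e.det) by rw [this]; exact hA)).2

theorem lev_mul_upp {T : Matrix α α F} (hT : IsUnit T.det) {e : Matrix β β F} (he : MidIso A e) (μ : Matrix β α F)
    (K : Matrix α α F) : lev T e * upp A μ K = upp A (e * μ * Tᵀ) (T * K * Tᵀ) * lev T e := by
  have h1 : Tᵀ * (T⁻¹)ᵀ = 1 := by rw [← transpose_mul, nonsing_inv_mul _ hT, transpose_one]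
  simp only [lev, upp, blk_mul, blk_inj]
  refine ⟨?_, ?_, ?_, ?_, ?_, ?_, ?_, ?_, ?_⟩ <;> simp [transpose_mul, Matrix.mul_assoc, h1]
  rw [← Matrix.mul_assoc eᵀ, he.gB_eq]

theorem lev_mul_low {T : Matrix α α F} (hT : IsUnit T.det) {e : Matrix β β F} (he : MidIso A e) (μ : Matrix β α F)
    (Y : Matrix α α F) : lev T e * low A μ Y = low A (e * μ * T⁻¹) ((T⁻¹)ᵀ * Y * T⁻¹) * lev T e := by
  simp only [lev, low, blk_mul, blk_inj]
  refine ⟨?_, ?_, ?_, ?_, ?_, ?_, ?_, ?_, ?_⟩ <;> simp [transpose_mul, Matrix.mul_assoc, nonsing_inv_mul _ hT]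
  rw [← Matrix.mul_assoc eᵀ, he.gB_eq]

variable (A) in
/-- The upper radical. -/
def upS (α : Type) [Fintype α] [DecidableEq α] : Set (Grp A α) :=
  {g | ∃ μ K, Alt (K + μᵀ * A * μ) ∧ toM g = upp A μ K}

variable (A) in
/-- The lower radical. -/
def lowS (α : Type) [Fintype α] [DecidableEq α] : Set (Grp A α) :=
  {g | ∃ μ Y, Alt (Y + μᵀ * A * μ) ∧ toM g = low A μ Y}

theorem alt_rad_mul {μ ν : Matrix β α F} {K L : Matrix α α F} (hK : Alt (K + μᵀ * A * μ))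
    (hL : Alt (L + νᵀ * A * ν)) : Alt (K + L - μᵀ * gB A * ν + (μ + ν)ᵀ * A * (μ + ν)) := by
  refine ((hK.add hL).add (alt_sub_transpose (νᵀ * A * μ))).congr fun v => ?_
  congr 2
  simp only [gB, transpose_add, transpose_mul, transpose_transpose, Matrix.add_mul, Matrix.mul_add, Matrix.mul_assoc]
  abel

theorem alt_rad_inv {μ : Matrix β α F} {K : Matrix α α F} (hK : Alt (K + μᵀ * A * μ)) :
    Alt (-K - μᵀ * gB A * μ + (-μ)ᵀ * A * (-μ)) := by
  refine (hK.neg.add (alt_sub_transpose (μᵀ * A * μ))).congr fun v => ?_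
  congr 2
  simp only [gB, transpose_neg, transpose_mul, transpose_transpose, Matrix.add_mul, Matrix.mul_add, Matrix.mul_assoc,
    Matrix.neg_mul, Matrix.mul_neg, neg_neg]
  abel

theorem toM_inv_eq {g : Grp A α} {N : Mat F α β} (h : toM g * N = 1) : toM g⁻¹ = N := by
  calc toM g⁻¹ = toM g⁻¹ * (toM g * N) := by rw [h, Matrix.mul_one]
    _ = N := by rw [← Matrix.mul_assoc, toM_inv_mul, Matrix.one_mul]

theorem upS_mul : ∀ x ∈ upS A α, ∀ y ∈ upS A α, x * y ∈ upS A α := by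
  rintro x ⟨μ, K, hK, hx⟩ y ⟨ν, L, hL, hy⟩
  exact ⟨_, _, alt_rad_mul hK hL, by rw [toM_mul, hx, hy, upp_mul]⟩

theorem lowS_mul : ∀ x ∈ lowS A α, ∀ y ∈ lowS A α, x * y ∈ lowS A α := by
  rintro x ⟨μ, K, hK, hx⟩ y ⟨ν, L, hL, hy⟩
  exact ⟨_, _, alt_rad_mul hK hL, by rw [toM_mul, hx, hy, low_mul]⟩

theorem upS_inv : ∀ x ∈ upS A α, x⁻¹ ∈ upS A α := by
  rintro x ⟨μ, K, hK, hx⟩
  refine ⟨-μ, -K - μᵀ * gB A * μ, alt_rad_inv hK, toM_inv_eq ?_⟩
  rw [hx, upp_mul, add_neg_cancel,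
    show K + (-K - μᵀ * gB A * μ) - μᵀ * gB A * -μ = 0 by rw [Matrix.mul_neg]; abel, upp_zero]

theorem lowS_inv : ∀ x ∈ lowS A α, x⁻¹ ∈ lowS A α := by
  rintro x ⟨μ, K, hK, hx⟩
  refine ⟨-μ, -K - μᵀ * gB A * μ, alt_rad_inv hK, toM_inv_eq ?_⟩
  rw [hx, low_mul, add_neg_cancel,
    show K + (-K - μᵀ * gB A * μ) - μᵀ * gB A * -μ = 0 by rw [Matrix.mul_neg]; abel, low_zero]

theorem alt_rad_conj {T : Matrix α α F} {e : Matrix β β F} (he : MidIso A e) {μ : Matrix β α F} {K : Matrix α α F}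
    (hK : Alt (K + μᵀ * A * μ)) : Alt (T * K * Tᵀ + (e * μ * Tᵀ)ᵀ * A * (e * μ * Tᵀ)) := by
  refine ((hK.conj Tᵀ).add (he.conj (μ * Tᵀ))).congr fun v => ?_
  congr 2
  simp only [transpose_mul, transpose_transpose, Matrix.add_mul, Matrix.mul_add, Matrix.sub_mul, Matrix.mul_sub,
    Matrix.mul_assoc]
  abel

variable (hA : IsUnit (gB A).det)

theorem upS_conj {T : Matrix α α F} (hT : IsUnit T.det) {e : Matrix β β F} (he : MidIso A e) :
    ∀ x ∈ upS A α, mkG hA (lev T e) * x * (mkG hA (lev T e))⁻¹ ∈ upS A α := by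
  rintro x ⟨μ, K, hK, hx⟩
  refine ⟨e * μ * Tᵀ, T * K * Tᵀ, alt_rad_conj he hK, ?_⟩
  rw [toM_mul, toM_mul, hx, toM_mkG hA (isom_lev hT he), lev_mul_upp hT he, Matrix.mul_assoc]
  conv_lhs => arg 2; arg 1; rw [← toM_mkG hA (isom_lev hT he)]
  rw [toM_mul_inv, Matrix.mul_one]

theorem lowS_conj {T : Matrix α α F} (hT : IsUnit T.det) {e : Matrix β β F} (he : MidIso A e) :
    ∀ x ∈ lowS A α, mkG hA (lev T e) * x * (mkG hA (lev T e))⁻¹ ∈ lowS A α := by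
  rintro x ⟨μ, K, hK, hx⟩
  refine ⟨e * μ * T⁻¹, (T⁻¹)ᵀ * K * T⁻¹, ?_, ?_⟩
  · have := alt_rad_conj (T := (T⁻¹)ᵀ) he hK
    rwa [transpose_transpose] at this
  · rw [toM_mul, toM_mul, hx, toM_mkG hA (isom_lev hT he), lev_mul_low hT he, Matrix.mul_assoc]
    conv_lhs => arg 2; arg 1; rw [← toM_mkG hA (isom_lev hT he)]
    rw [toM_mul_inv, Matrix.mul_one]

theorem upS_fix {T : Matrix α α F} {τ : Matrix β β F} (hV : Valid A T τ) :
    ∀ x ∈ upS A α, x * mkG hA (lev T τ) = mkG hA (lev T τ) * x → x = 1 := by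
  rintro x ⟨μ, K, hK, hx⟩ h
  have h' := congrArg toM h
  have hmid := hV.mid
  rw [toM_mul, toM_mul, hx, toM_mkG hA (isom_lev hV.det hmid), lev_mul_upp hV.det hmid] at h'
  have hu : IsUnit (lev T τ) := toM_mkG hA (isom_lev hV.det hmid) ▸ (isUnit_iff_isUnit_det _).2 (isUnit_det_toM _)
  have h'' := hu.mul_left_inj.1 h'
  simp only [upp, blk_inj] at h''
  obtain ⟨-, -, hK', -, -, hμ', -⟩ := h''
  have hμ := hV.mixUp μ hμ'.symm
  subst hμ
  have hK0 := hV.altUp K (by simpa using hK) hK'.symm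
  subst hK0
  exact toM_injective (by rw [hx, upp_zero, toM_one])

theorem lowS_fix {T : Matrix α α F} {τ : Matrix β β F} (hV : Valid A T τ) :
    ∀ x ∈ lowS A α, x * mkG hA (lev T τ) = mkG hA (lev T τ) * x → x = 1 := by
  rintro x ⟨μ, K, hK, hx⟩ h
  have h' := congrArg toM h
  have hmid := hV.mid
  have hT := hV.det
  rw [toM_mul, toM_mul, hx, toM_mkG hA (isom_lev hV.det hmid), lev_mul_low hV.det hmid] at h'
  have hu : IsUnit (lev T τ) := toM_mkG hA (isom_lev hV.det hmid) ▸ (isUnit_iff_isUnit_det _).2 (isUnit_det_toM _)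
  have h'' := hu.mul_left_inj.1 h'
  simp only [low, blk_inj] at h''
  obtain ⟨-, -, -, hμ', -, -, hK', -⟩ := h''
  have hμ := hV.mixLow μ (by
    conv_rhs => rw [hμ', Matrix.mul_assoc, Matrix.mul_assoc, nonsing_inv_mul _ hT, Matrix.mul_one])
  subst hμ
  have hK0 := hV.altLow K (by simpa using hK) (by
    have h1 : Tᵀ * (T⁻¹)ᵀ = 1 := by rw [← transpose_mul, nonsing_inv_mul _ hT, transpose_one]
    conv_lhs => rw [hK', ← Matrix.mul_assoc, ← Matrix.mul_assoc, h1, Matrix.one_mul]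
    rw [Matrix.mul_assoc, nonsing_inv_mul _ hT, Matrix.mul_one])
  subst hK0
  exact toM_injective (by rw [hx, low_zero, toM_one])

/-! ### The big cell -/

/-- The corner. -/
def corner (M : Mat F α β) : Matrix α α F := M.toBlocks₁₁

/-- The middle row of the first block of columns. -/
def dblk (M : Mat F α β) : Matrix β α F := M.toBlocks₂₁.toRows₁

/-- The lower left block. -/
def gblk (M : Mat F α β) : Matrix α α F := M.toBlocks₂₁.toRows₂

/-- The middle part in the big cell. -/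
noncomputable def schur (M : Mat F α β) : Matrix β β F :=
  M.toBlocks₂₂.toBlocks₁₁ - dblk M * (corner M)⁻¹ * M.toBlocks₁₂.toCols₁

section Acc

variable (a : Matrix α α F) (b : Matrix α β F) (c : Matrix α α F) (d : Matrix β α F) (e : Matrix β β F)
  (f : Matrix β α F) (g : Matrix α α F) (h : Matrix α β F) (i : Matrix α α F)

@[simp] theorem corner_blk : corner (blk a b c d e f g h i) = a := rfl
@[simp] theorem gblk_blk : gblk (blk a b c d e f g h i) = g := by simp [gblk, blk]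
@[simp] theorem dblk_blk : dblk (blk a b c d e f g h i) = d := by simp [dblk, blk]
@[simp] theorem schur_blk : schur (blk a b c d e f g h i) = e - d * a⁻¹ * b := by
  simp [schur, dblk, corner, blk]

end Acc

/-- Lower radical, block diagonal, upper radical. -/
theorem exists_ldu (hA : IsUnit (gB A).det) (g : Grp A α) (ha : IsUnit (corner (toM g)).det) :
    MidIso A (schur (toM g)) ∧ ∃ u ∈ lowS A α, ∃ w ∈ upS A α,
      g = u * mkG hA (lev (corner (toM g)) (schur (toM g))) * w := by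
  obtain ⟨a, b, c, d, e, f, g₀, h, i, hg⟩ := exists_blk (toM g)
  have hM : Isom A (blk a b c d e f g₀ h i) := hg ▸ isom_toM g
  rw [hg] at ha ⊢
  rw [corner_blk] at ha ⊢
  rw [schur_blk]
  have hai : a * a⁻¹ = 1 := mul_nonsing_inv _ ha
  have hai' : a⁻¹ * a = 1 := nonsing_inv_mul _ ha
  obtain ⟨μ, hμ⟩ : ∃ μ, μ = d * a⁻¹ := ⟨_, rfl⟩
  obtain ⟨Y, hY⟩ : ∃ Y, Y = g₀ * a⁻¹ := ⟨_, rfl⟩
  obtain ⟨r1, -, -, -, -, -⟩ := hM.rel
  have hrad : Alt (Y + μᵀ * A * μ) := by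
    refine (r1.conj a⁻¹).congr fun v => ?_
    congr 2
    rw [hY, hμ]
    simp only [Matrix.mul_add, Matrix.add_mul, transpose_mul, Matrix.mul_assoc]
    rw [← Matrix.mul_assoc (a⁻¹)ᵀ aᵀ, ← transpose_mul, hai, transpose_one, Matrix.one_mul]
  obtain ⟨u, hu⟩ : ∃ u, u = mkG hA (low A μ Y) := ⟨_, rfl⟩
  have hum : toM u = low A μ Y := hu ▸ toM_mkG hA (isom_low hrad)
  have huS : u ∈ lowS A α := ⟨μ, Y, hrad, hum⟩
  have huim : toM u⁻¹ = low A (-μ) (-Y - μᵀ * gB A * μ) := toM_inv_eq (by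
    rw [hum, low_mul, add_neg_cancel,
      show Y + (-Y - μᵀ * gB A * μ) - μᵀ * gB A * -μ = 0 by rw [Matrix.mul_neg]; abel, low_zero])
  obtain ⟨h', f', i', hN⟩ : ∃ h' f' i', toM (u⁻¹ * g) = blk a b c 0 (e - d * a⁻¹ * b) f' 0 h' i' := by
    refine ⟨(-Y - μᵀ * gB A * μ) * b + -((-μ)ᵀ * gB A) * e + h, -μ * c + f,
      (-Y - μᵀ * gB A * μ) * c + -((-μ)ᵀ * gB A) * f + i, ?_⟩
    rw [toM_mul, huim, hg, low, blk_mul, blk_inj]
    refine ⟨?_, ?_, ?_, ?_, ?_, ?_, ?_, ?_, ?_⟩ <;> simp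
    · rw [hμ, Matrix.mul_assoc, hai', Matrix.mul_one, neg_add_cancel]
    · rw [hμ]; abel
    · have e1 : d = μ * a := by rw [hμ, Matrix.mul_assoc, hai', Matrix.mul_one]
      have e2 : g₀ = Y * a := by rw [hY, Matrix.mul_assoc, hai', Matrix.mul_one]
      rw [e1, e2]
      simp only [Matrix.add_mul, Matrix.sub_mul, Matrix.neg_mul, Matrix.mul_assoc]
      abel
  have hN' : Isom A (blk a b c 0 (e - d * a⁻¹ * b) f' 0 h' i') := hN ▸ isom_toM (u⁻¹ * g)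
  obtain ⟨-, n2, -, n4, n5, -⟩ := hN'.rel
  simp only [transpose_zero, Matrix.zero_mul, add_zero] at n4 n5
  have hat : IsUnit aᵀ.det := by rwa [det_transpose]
  have hh' : h' = 0 := by
    calc h' = (aᵀ)⁻¹ * (aᵀ * h') := by rw [← Matrix.mul_assoc, nonsing_inv_mul _ hat, Matrix.one_mul]
      _ = 0 := by rw [n4, Matrix.mul_zero]
  have hi' : i' = (a⁻¹)ᵀ := by
    calc i' = (aᵀ)⁻¹ * (aᵀ * i') := by rw [← Matrix.mul_assoc, nonsing_inv_mul _ hat, Matrix.one_mul]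
      _ = _ := by rw [n5, Matrix.mul_one, transpose_nonsing_inv]
  subst hh'
  subst hi'
  obtain ⟨e', he'⟩ : ∃ e', e' = e - d * a⁻¹ * b := ⟨_, rfl⟩
  rw [← he'] at hN hN' n2 ⊢
  have hmid : MidIso A e' := by simpa [MidIso] using n2
  refine ⟨hmid, u, huS, ?_⟩
  obtain ⟨L, hL⟩ : ∃ L, L = mkG hA (lev a e') := ⟨_, rfl⟩
  have hLm : toM L = lev a e' := hL ▸ toM_mkG hA (isom_lev ha hmid)
  have he0 : IsUnit e'.det := hmid.isUnit_det hA
  have hei : e' * e'⁻¹ = 1 := mul_nonsing_inv _ he0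
  have hei' : e'⁻¹ * e' = 1 := nonsing_inv_mul _ he0
  obtain ⟨ν, hν⟩ : ∃ ν, ν = e'⁻¹ * f' := ⟨_, rfl⟩
  have hLinv : toM L⁻¹ = lev a⁻¹ e'⁻¹ := toM_inv_eq (by rw [hLm, lev_mul, hai, hei, lev_one])
  have hw : toM (L⁻¹ * (u⁻¹ * g)) = blk 1 (a⁻¹ * b) (a⁻¹ * c) 0 1 ν 0 0 1 := by
    rw [toM_mul, hLinv, hN, lev, blk_mul, nonsing_inv_nonsing_inv _ ha]
    have : aᵀ * (a⁻¹)ᵀ = 1 := by rw [← transpose_mul, hai', transpose_one]
    simp [hai', hei', hν, this]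
  have hwI : Isom A (blk 1 (a⁻¹ * b) (a⁻¹ * c) 0 1 ν 0 0 1) := hw ▸ isom_toM (L⁻¹ * (u⁻¹ * g))
  obtain ⟨-, -, w3, -, -, w6⟩ := hwI.rel
  simp only [transpose_zero, Matrix.zero_mul, add_zero, Matrix.mul_one, transpose_one, Matrix.one_mul] at w3 w6
  have hb : a⁻¹ * b = -(νᵀ * gB A) := by
    have := congrArg transpose w6
    simp only [transpose_add, transpose_mul, transpose_transpose, gB_transpose, transpose_zero] at this
    exact eq_neg_of_add_eq_zero_left this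
  refine ⟨L⁻¹ * (u⁻¹ * g), ⟨ν, a⁻¹ * c, ?_, by rw [hw, upp, hb]⟩, by rw [← hL]; group⟩
  refine w3.congr fun v => ?_
  rw [add_mulVec, add_mulVec, dotProduct_add, dotProduct_add, dot_transpose]

variable [Fintype F]

theorem mem_omega_twist {D v : Grp A α} {u : Grp A α} (h : u = v * D * v⁻¹ * D⁻¹) :
    u ∈ Cfsg.Omega F ⇑(qG A α) := by
  show u ∈ commutator (Grp A α)
  rw [h, commutator_def]
  exact Subgroup.commutator_mem_commutator (Subgroup.mem_top v) (Subgroup.mem_top D)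

include hA in
theorem lowS_le_omega {T : Matrix α α F} {τ : Matrix β β F} (hV : Valid A T τ) :
    ∀ u ∈ lowS A α, u ∈ Cfsg.Omega F ⇑(qG A α) := fun u hu => by
  obtain ⟨v, -, h⟩ := exists_twist (lowS A α) lowS_mul lowS_inv _ (lowS_conj hA hV.det hV.mid) (lowS_fix hA hV) hu
  exact mem_omega_twist h

include hA in
theorem upS_le_omega {T : Matrix α α F} {τ : Matrix β β F} (hV : Valid A T τ) :
    ∀ u ∈ upS A α, u ∈ Cfsg.Omega F ⇑(qG A α) := fun u hu => by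
  obtain ⟨v, -, h⟩ := exists_twist (upS A α) upS_mul upS_inv _ (upS_conj hA hV.det hV.mid) (upS_fix hA hV) hu
  exact mem_omega_twist h

/-- The factorisation. -/
theorem engine {T : Matrix α α F} {τ : Matrix β β F} {P R : Matrix α α F} (hV : Valid A T τ) (hP : IsUnit P.det)
    (hR : IsUnit R.det) (g : Grp A α) (ha : corner (toM g) = P * T * P⁻¹ * (R * T⁻¹ * R⁻¹))
    (he : schur (toM g) = 1) :
    ∃ h v w : Grp A α, v ∈ Cfsg.Omega F ⇑(qG A α) ∧ w ∈ Cfsg.Omega F ⇑(qG A α) ∧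
      g = h * ((w * mkG hA (lev (R⁻¹ * P) 1) * v) * mkG hA (lev T τ) *
        (w * mkG hA (lev (R⁻¹ * P) 1) * v)⁻¹ * (mkG hA (lev T τ))⁻¹) * h⁻¹ := by
  have hT := hV.det
  have hTi : IsUnit T⁻¹.det := isUnit_nonsing_inv_det _ hT
  have hau : IsUnit (corner (toM g)).det := by
    rw [ha]
    simp only [det_mul]
    exact ((hP.mul hT).mul (isUnit_nonsing_inv_det _ hP)).mul ((hR.mul hTi).mul (isUnit_nonsing_inv_det _ hR))
  obtain ⟨-, u, hu, w₀, hw₀, hg⟩ := exists_ldu hA g hau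
  rw [ha, he] at hg
  obtain ⟨D, hD⟩ : ∃ D, D = mkG hA (lev T τ) := ⟨_, rfl⟩
  obtain ⟨LP, hLP⟩ : ∃ LP, LP = mkG hA (lev P 1 : Mat F α β) := ⟨_, rfl⟩
  obtain ⟨LR, hLR⟩ : ∃ LR, LR = mkG hA (lev R 1 : Mat F α β) := ⟨_, rfl⟩
  have iP := isom_lev (A := A) hP (midIso_one A)
  have iR := isom_lev (A := A) hR (midIso_one A)
  have iT := isom_lev (A := A) hT hV.mid
  have hτ : IsUnit τ.det := hV.mid.isUnit_det hA
  have hlev : mkG hA (lev (P * T * P⁻¹ * (R * T⁻¹ * R⁻¹)) 1) = LP * D * LP⁻¹ * (LR * D⁻¹ * LR⁻¹) := by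
    refine toM_injective ?_
    have i1 : toM LP⁻¹ = lev P⁻¹ 1 := toM_inv_eq (by
      rw [hLP, toM_mkG hA iP, lev_mul, mul_nonsing_inv _ hP, Matrix.one_mul, lev_one])
    have i2 : toM LR⁻¹ = lev R⁻¹ 1 := toM_inv_eq (by
      rw [hLR, toM_mkG hA iR, lev_mul, mul_nonsing_inv _ hR, Matrix.one_mul, lev_one])
    have i3 : toM D⁻¹ = lev T⁻¹ τ⁻¹ := toM_inv_eq (by
      rw [hD, toM_mkG hA iT, lev_mul, mul_nonsing_inv _ hT, mul_nonsing_inv _ hτ, lev_one])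
    simp only [toM_mul, i1, i2, i3]
    rw [hLP, hLR, hD, toM_mkG hA iP, toM_mkG hA iR, toM_mkG hA iT]
    simp only [lev_mul, Matrix.one_mul, Matrix.mul_one, mul_nonsing_inv _ hτ, Matrix.mul_assoc]
    rw [toM_mkG hA (isom_lev (by
      simp only [det_mul]
      exact hP.mul (hT.mul ((isUnit_nonsing_inv_det _ hP).mul (hR.mul (hTi.mul (isUnit_nonsing_inv_det _ hR))))))
      (midIso_one A))]
  rw [hlev] at hg
  obtain ⟨v, hv, hve⟩ := exists_twist (lowS A α) lowS_mul lowS_inv D (hD ▸ lowS_conj hA hT hV.mid)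
    (hD ▸ lowS_fix hA hV) (u := LP⁻¹ * u * LP) (by
      have := lowS_conj hA (isUnit_nonsing_inv_det _ hP) (midIso_one A) u hu
      have e : mkG hA (lev P⁻¹ 1 : Mat F α β) = LP⁻¹ := by
        refine eq_inv_of_mul_eq_one_left ?_
        rw [hLP, mkG_mul hA (isom_lev (isUnit_nonsing_inv_det _ hP) (midIso_one A)) iP, lev_mul,
          nonsing_inv_mul _ hP, Matrix.one_mul, lev_one, mkG_one]
      rwa [e, inv_inv] at this)
  obtain ⟨w, hw, hwe⟩ := exists_twist (upS A α) upS_mul upS_inv D (hD ▸ upS_conj hA hT hV.mid)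
    (hD ▸ upS_fix hA hV) (u := (LR⁻¹ * w₀ * LR)⁻¹) (upS_inv _ (by
      have := upS_conj hA (isUnit_nonsing_inv_det _ hR) (midIso_one A) w₀ hw₀
      have e : mkG hA (lev R⁻¹ 1 : Mat F α β) = LR⁻¹ := by
        refine eq_inv_of_mul_eq_one_left ?_
        rw [hLR, mkG_mul hA (isom_lev (isUnit_nonsing_inv_det _ hR) (midIso_one A)) iR, lev_mul,
          nonsing_inv_mul _ hR, Matrix.one_mul, lev_one, mkG_one]
      rwa [e, inv_inv] at this))
  refine ⟨LR * w, v, w⁻¹, lowS_le_omega hA hV v hv, inv_mem (upS_le_omega hA hV w hw), ?_⟩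
  have hRP : mkG hA (lev (R⁻¹ * P) 1 : Mat F α β) = LR⁻¹ * LP := by
    refine eq_inv_mul_of_mul_eq ?_
    rw [hLR, mkG_mul hA iR (isom_lev (by rw [det_mul]; exact (isUnit_nonsing_inv_det _ hR).mul hP) (midIso_one A)),
      lev_mul, ← Matrix.mul_assoc, mul_nonsing_inv _ hR, Matrix.one_mul, Matrix.one_mul, hLP]
  rw [← hD, hRP]
  have eu : u = LP * (v * D * v⁻¹ * D⁻¹) * LP⁻¹ := by rw [← hve]; group
  have ew : w₀ = LR * (w * D * w⁻¹ * D⁻¹)⁻¹ * LR⁻¹ := by rw [← hwe]; group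
  rw [hg, eu, ew]
  group

end CfsgLib.OmegaEvenComm
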