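import Cfsg.Agent.Lib.Classical.OmegaEvenComm.Corner

/-!
# Changes of frame, orthogonal sums, and commutators
-/

set_option autoImplicit false
set_option linter.unusedSectionVars false
set_option linter.unusedSimpArgs false

namespace CfsgLib.OmegaEvenComm

open Matrix CfsgLib.SUComm CfsgLib.Classical CfsgLib.Classical.Spin
open CfsgLib.OmegaComm (kry Cyc exists_comp2)

variable {F : Type*} [Field F] {α β γ α' β' ρ : Type} [Fintype α] [DecidableEq α] [Fintype β] [DecidableEq β]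
  [Fintype γ] [DecidableEq γ] [Fintype α'] [DecidableEq α'] [Fintype β'] [DecidableEq β'] [Fintype ρ] [DecidableEq ρ]
variable {A : Matrix β β F} {A' : Matrix β' β' F}

/-! ### Cells -/

theorem Cell.submatrix {a : Matrix α α F} (h : Cell A a) (e : γ ≃ α) : Cell A (a.submatrix e e) := by
  obtain ⟨T, τ, P, R, hV, hrot, hP, hR, ha⟩ := h
  refine ⟨T.submatrix e e, τ, P.submatrix e e, R.submatrix e e, hV.submatrix e, hrot,
    by rwa [det_submatrix_equiv_self], by rwa [det_submatrix_equiv_self], ?_⟩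
  rw [ha]
  simp only [inv_submatrix_equiv, submatrix_mul_equiv]

theorem CellFree.submatrix {a : Matrix α α F} (h : CellFree A a) (e : γ ≃ α) : CellFree A (a.submatrix e e) := by
  obtain ⟨T, τ, P, R, hV, hP, hR, ha, hs, hZ⟩ := h
  refine ⟨T.submatrix e e, τ, P.submatrix e e, R.submatrix e e, hV.submatrix e,
    by rwa [det_submatrix_equiv_self], by rwa [det_submatrix_equiv_self], ?_, ?_, fun c hc => ?_⟩
  · rw [ha]; simp only [inv_submatrix_equiv, submatrix_mul_equiv]
  · rwa [det_submatrix_equiv_self]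
  · obtain ⟨Z, hZT, hZd⟩ := hZ c hc
    exact ⟨Z.submatrix e e, by rw [submatrix_mul_equiv, submatrix_mul_equiv, hZT],
      by rwa [det_submatrix_equiv_self]⟩

/-- In odd characteristic some middle rotation fixes nothing up to sign. -/
def Odd2 (A : Matrix β β F) : Prop :=
  (2 : F) ≠ 0 → ∃ τ : Matrix β β F, Rot A τ ∧ IsUnit (τ - 1).det ∧ IsUnit (τ + 1).det

theorem valid_swap (h2 : (2 : F) ≠ 0) {τ : Matrix β β F} (hr : Rot A τ) (h1 : IsUnit (τ - 1).det)
    (h1' : IsUnit (τ + 1).det) : Valid A (!![0, 1; 1, 0] : Matrix (Fin 2) (Fin 2) F) τ := by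
  obtain ⟨T, hT⟩ : ∃ T : Matrix (Fin 2) (Fin 2) F, T = !![0, 1; 1, 0] := ⟨_, rfl⟩
  have ht : Tᵀ = T := by rw [hT]; ext i j; fin_cases i <;> fin_cases j <;> simp
  have hTT : T * T = 1 := by
    rw [hT]; ext i j; fin_cases i <;> fin_cases j <;> simp [Matrix.mul_apply]
  have key : ∀ K : Matrix (Fin 2) (Fin 2) F, Alt K → T * K * T = K → K = 0 := by
    intro K hK e
    obtain ⟨hs, h0⟩ := alt_iff.1 hK
    have a := congrFun (congrFun hs 1) 0
    have e01 := congrFun (congrFun e 0) 1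
    simp [hT, Matrix.mul_apply, vecMul, dotProduct, Fin.sum_univ_two] at a e01
    have z : K 0 1 = 0 := (mul_eq_zero.1 (show (2 : F) * K 0 1 = 0 by linear_combination -e01 + a)).resolve_left h2
    ext i j
    fin_cases i <;> fin_cases j <;> simp [h0, z]
    linear_combination e01 + z
  have hu : IsUnit ((τ - 1) * (τ + 1)).det := by rw [det_mul]; exact h1.mul h1'
  have mix : ∀ μ : Matrix β (Fin 2) F, τ * μ * T = μ → μ = 0 := fun μ e => by
    have e2 : τ * τ * μ = μ := by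
      conv_rhs => rw [← e]
      nth_rw 2 [← e]
      simp only [← Matrix.mul_assoc]
      rw [Matrix.mul_assoc _ T T, hTT, Matrix.mul_one]
    have h0 : ((τ - 1) * (τ + 1)) * μ = 0 := by
      simp only [Matrix.sub_mul, Matrix.mul_add, Matrix.add_mul, Matrix.one_mul, Matrix.mul_one]
      rw [e2]; abel
    calc μ = ((τ - 1) * (τ + 1))⁻¹ * (((τ - 1) * (τ + 1)) * μ) := by
          rw [← Matrix.mul_assoc, nonsing_inv_mul _ hu, Matrix.one_mul]
      _ = 0 := by rw [h0, Matrix.mul_zero]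
  subst hT
  refine ⟨by rw [det_fin_two_of, isUnit_iff_ne_zero]; simp, hr.midIso, fun K hK e => key K hK (by rwa [ht] at e),
    fun K hK e => key K hK (by rwa [ht] at e), fun μ e => mix μ (by rwa [ht] at e), fun μ e => mix μ ?_⟩
  rw [e, Matrix.mul_assoc, hTT, Matrix.mul_one]

section Cells

variable [Fintype F]

theorem cell_two (h2 : (2 : F) ≠ 0) (hO : Odd2 A) {a : Matrix (Fin 2) (Fin 2) F} (ha : a = 1 ∨ (Cyc a ∧ a.det = 1)) :
    Cell A a := by
  obtain ⟨τ, hr, h1, h1'⟩ := hO h2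
  obtain ⟨T, hT⟩ : ∃ T : Matrix (Fin 2) (Fin 2) F, T = !![0, 1; 1, 0] := ⟨_, rfl⟩
  have hV : Valid A T τ := hT ▸ valid_swap h2 hr h1 h1'
  have hTi : T⁻¹ = T := inv_eq_right_inv (by
    rw [hT]; ext i j; fin_cases i <;> fin_cases j <;> simp [Matrix.mul_apply])
  rcases ha with rfl | ⟨⟨v, hv⟩, hd⟩
  · exact ⟨T, τ, 1, 1, hV, hr, by simp, by simp, by simp [mul_nonsing_inv _ hV.det]⟩
  obtain ⟨X₀, hX₀, eX₀⟩ := exists_comp2 a fun h => hv.ne_zero (by
    rw [det_fin_two]
    simp [kry, mulVec, dotProduct, Fin.sum_univ_two, h.1, h.2.1, h.2.2]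
    ring)
  rw [hd] at eX₀
  obtain ⟨t, ht⟩ : ∃ t, t = a.trace := ⟨_, rfl⟩
  rw [← ht] at eX₀
  obtain ⟨R₁, hR₁, eR₁⟩ := exists_comp2 (!![1, t; 0, -1] : Matrix (Fin 2) (Fin 2) F) fun h => by
    simp at h
    exact h2 (by linear_combination h.2)
  rw [show ((!![1, t; 0, -1] : Matrix (Fin 2) (Fin 2) F)).det = -1 by simp [det_fin_two_of],
    show ((!![1, t; 0, -1] : Matrix (Fin 2) (Fin 2) F)).trace = 0 by simp [trace_fin_two_of], neg_neg, ← hT] at eR₁
  have e1 : R₁ * T * R₁⁻¹ = !![1, t; 0, -1] := by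
    rw [← eR₁, Matrix.mul_assoc, mul_nonsing_inv _ hR₁, Matrix.mul_one]
  have e2 : T * !![1, t; 0, -1] = !![0, -1; 1, t] := by
    rw [hT]; ext i j; fin_cases i <;> fin_cases j <;> simp [Matrix.mul_apply]
  refine ⟨T, τ, X₀, X₀ * R₁, hV, hr, hX₀, by rw [det_mul]; exact hX₀.mul hR₁, ?_⟩
  rw [hTi, Matrix.mul_inv_rev]
  calc a = a * (X₀ * X₀⁻¹) := by rw [mul_nonsing_inv _ hX₀, Matrix.mul_one]
    _ = X₀ * (T * (R₁ * T * R₁⁻¹)) * X₀⁻¹ := by rw [e1, e2, ← Matrix.mul_assoc, eX₀]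
    _ = X₀ * T * (X₀⁻¹ * X₀) * (R₁ * T * R₁⁻¹) * X₀⁻¹ := by
        rw [nonsing_inv_mul _ hX₀, Matrix.mul_one]; simp only [Matrix.mul_assoc]
    _ = _ := by simp only [Matrix.mul_assoc]

/-- Every trivial or cyclic corner of determinant one is a cell. -/
theorem cell_of (hA : IsUnit (gB A).det) (hT : Two A) (hO : Odd2 A) {k : ℕ} (hk : 0 < k) (h2 : k = 2 → (2 : F) ≠ 0)
    {a : Matrix (Fin k) (Fin k) F} (ha : a = 1 ∨ (Cyc a ∧ a.det = 1)) : Cell A a := by
  rcases Nat.lt_or_ge k 3 with hk3 | hk3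
  · obtain rfl | rfl : k = 1 ∨ k = 2 := by omega
    · have ha1 : a = 1 := by
        rcases ha with rfl | ⟨-, hd⟩
        · rfl
        · ext i j
          obtain rfl := Subsingleton.elim i j
          rw [Matrix.one_apply_eq, ← Matrix.det_eq_elem_of_subsingleton a i, hd]
      exact ha1 ▸ cell_one hT
    · exact cell_two (h2 rfl) hO ha
  · exact (cellFree_of hA hT hk3 ha).cell

end Cells

/-! ### Changes of frame -/

section Tr

variable (hA : IsUnit (gB A).det) (hA' : IsUnit (gB A').det) (e : Idx α' β' ≃ Idx α β)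
  (he : ∀ v : Idx α β → F, qG A' α' (v ∘ e) = qG A α v)

include he in
theorem isom_submatrix {M : Mat F α β} (hM : Isom A M) : Isom A' (M.submatrix e e) := fun v => by
  have h := he (M *ᵥ (v ∘ e.symm))
  rw [hM, ← he, Function.comp_assoc, Equiv.symm_comp_self, Function.comp_id] at h
  rw [submatrix_mulVec_equiv]
  exact h

/-- The change of frame along a renaming of the coordinates. -/
noncomputable def tr : Grp A α →* Grp A' α' :=
  MonoidHom.mk' (fun g => mkG hA' ((toM g).submatrix e e)) fun g h => toM_injective (by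
    rw [toM_mul, toM_mul, toM_mkG hA' (isom_submatrix e he ((isom_toM g).mul (isom_toM h))),
      toM_mkG hA' (isom_submatrix e he (isom_toM g)), toM_mkG hA' (isom_submatrix e he (isom_toM h)),
      submatrix_mul_equiv])

theorem toM_tr (g : Grp A α) : toM (tr hA' e he g) = (toM g).submatrix e e :=
  toM_mkG hA' (isom_submatrix e he (isom_toM g))

end Tr

/-! ### Orthogonal sums -/

/-- The index map of an orthogonal sum with a hyperbolic space. -/
def embIdx (α β ρ : Type) : Idx α β ⊕ (ρ ⊕ ρ) ≃ Idx (α ⊕ ρ) β where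
  toFun := Sum.elim (Sum.elim (fun i => .inl (.inl i)) (Sum.elim (fun u => .inr (.inl u))
    fun i => .inr (.inr (.inl i)))) (Sum.elim (fun r => .inl (.inr r)) fun r => .inr (.inr (.inr r)))
  invFun := Sum.elim (Sum.elim (fun i => .inl (.inl i)) fun r => .inr (.inl r)) (Sum.elim
    (fun u => .inl (.inr (.inl u))) (Sum.elim (fun i => .inl (.inr (.inr i))) fun r => .inr (.inr r)))
  left_inv x := by rcases x with (i | u | i) | r | r <;> rfl
  right_inv x := by rcases x with (i | r) | u | (i | r) <;> rfl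

/-- The orthogonal sum. -/
def emb (M : Mat F α β) (R R' : Matrix ρ ρ F) : Mat F (α ⊕ ρ) β :=
  (fromBlocks M 0 0 (fromBlocks R 0 0 R')).submatrix (embIdx α β ρ).symm (embIdx α β ρ).symm

theorem emb_mul (M N : Mat F α β) (R R' S S' : Matrix ρ ρ F) :
    emb M R R' * emb N S S' = emb (M * N) (R * S) (R' * S') := by
  rw [emb, emb, submatrix_mul_equiv, fromBlocks_multiply, emb]
  simp [fromBlocks_multiply]

@[simp] theorem emb_one : emb (1 : Mat F α β) (1 : Matrix ρ ρ F) 1 = 1 := by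
  rw [emb, fromBlocks_one, fromBlocks_one, submatrix_one_equiv]

theorem emb_blk (a : Matrix α α F) (b : Matrix α β F) (c : Matrix α α F) (d : Matrix β α F)
    (e : Matrix β β F) (f : Matrix β α F) (g : Matrix α α F) (h : Matrix α β F) (i : Matrix α α F)
    (R R' : Matrix ρ ρ F) :
    emb (blk a b c d e f g h i) R R' = blk (fromBlocks a 0 0 R) (fromRows b 0) (fromBlocks c 0 0 0)
      (fromCols d 0) e (fromCols f 0) (fromBlocks g 0 0 0) (fromRows h 0) (fromBlocks i 0 0 R') := by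
  ext ((x | x) | x | (x | x)) ((y | y) | y | (y | y)) <;> simp [emb, embIdx, blk]

theorem emb_lev {T : Matrix α α F} (hT : IsUnit T.det) {R : Matrix ρ ρ F} (hR : IsUnit R.det) (e : Matrix β β F) :
    emb (lev T e) R (R⁻¹)ᵀ = lev (fromBlocks T 0 0 R) e := by
  rw [lev, lev, emb_blk, blk_inj, inv_eq_right_inv (B := fromBlocks T⁻¹ 0 0 R⁻¹) (by
    rw [fromBlocks_multiply, mul_nonsing_inv _ hT, mul_nonsing_inv _ hR]; simp [fromBlocks_one]), fromBlocks_transpose]
  simp

theorem isom_emb {M : Mat F α β} (hM : Isom A M) {R : Matrix ρ ρ F} (hR : IsUnit R.det) :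
    Isom A (emb M R (R⁻¹)ᵀ) := fun v => by
  obtain ⟨u, rfl⟩ : ∃ u, v = u ∘ (embIdx α β ρ).symm := ⟨v ∘ embIdx α β ρ, by ext; simp⟩
  have key : ∀ u : Idx α β ⊕ (ρ ⊕ ρ) → F, qG A (α ⊕ ρ) (u ∘ (embIdx α β ρ).symm) =
      qG A α (u ∘ Sum.inl) + (u ∘ Sum.inr ∘ Sum.inl) ⬝ᵥ (u ∘ Sum.inr ∘ Sum.inr) := fun u => by
    conv_lhs => rw [← elim_parts (u ∘ (embIdx α β ρ).symm), qG_elim]
    conv_rhs => rw [← elim_parts (u ∘ Sum.inl), qG_elim]
    simp only [dotProduct, Fintype.sum_sum_type, Function.comp_apply, embIdx]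
    simp [mulVec, dotProduct]
    ring
  rw [emb, submatrix_mulVec_equiv, Function.comp_assoc, Equiv.symm_symm, Equiv.symm_comp_self, Function.comp_id,
    key, key, fromBlocks_mulVec]
  simp only [Sum.elim_comp_inl, Matrix.zero_mulVec, add_zero, zero_add, Sum.elim_comp_inr, ← Function.comp_assoc]
  rw [hM, fromBlocks_mulVec]
  simp only [Sum.elim_comp_inl, Sum.elim_comp_inr, Matrix.zero_mulVec, add_zero, zero_add]
  rw [dotProduct_mulVec, vecMul_transpose, mulVec_mulVec, nonsing_inv_mul _ hR, one_mulVec, Function.comp_assoc]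

/-- The inclusion of the first summand. -/
noncomputable def embG (hA : IsUnit (gB A).det) (ρ : Type) [Fintype ρ] [DecidableEq ρ] :
    Grp A α →* Grp A (α ⊕ ρ) :=
  MonoidHom.mk' (fun g => mkG hA (emb (toM g) 1 (1⁻¹)ᵀ)) fun g h => toM_injective (by
    rw [toM_mul, toM_mul, toM_mkG hA (isom_emb ((isom_toM g).mul (isom_toM h)) (by simp)),
      toM_mkG hA (isom_emb (isom_toM g) (by simp)), toM_mkG hA (isom_emb (isom_toM h) (by simp)), emb_mul]
    simp)

theorem toM_embG (hA : IsUnit (gB A).det) (g : Grp A α) :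
    toM (embG hA ρ g) = emb (toM g) (1 : Matrix ρ ρ F) 1 := by
  show toM (mkG hA _) = _
  rw [toM_mkG hA (isom_emb (isom_toM _) (by simp)), inv_one, transpose_one]

theorem embG_lev (hA : IsUnit (gB A).det) {T : Matrix α α F} (hT : IsUnit T.det) {e : Matrix β β F}
    (he : MidIso A e) : embG hA ρ (mkG hA (lev T e)) = mkG hA (lev (fromBlocks T 0 0 1) e) := by
  refine toM_injective ?_
  rw [toM_embG, toM_mkG hA (isom_lev hT he), toM_mkG hA (isom_lev (by
    rw [det_fromBlocks_zero₂₁, det_one, mul_one]; exact hT) he), ← emb_lev hT (by simp : IsUnit (1 : Matrix ρ ρ F).det)]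
  simp

variable [Fintype F]

/-! ### Commutators -/

/-- A commutator of the commutator subgroup. -/
def IsC (g : Grp A α) : Prop :=
  ∃ x ∈ commutator (Grp A α), ∃ y ∈ commutator (Grp A α), g = x * y * x⁻¹ * y⁻¹

theorem IsC.one : IsC (1 : Grp A α) := ⟨1, one_mem _, 1, one_mem _, by simp⟩

theorem IsC.conj {g : Grp A α} (h : IsC g) (z : Grp A α) : IsC (z * g * z⁻¹) := by
  obtain ⟨x, hx, y, hy, rfl⟩ := h
  have hn : (commutator (Grp A α)).Normal := inferInstance
  exact ⟨z * x * z⁻¹, hn.conj_mem x hx z, z * y * z⁻¹, hn.conj_mem y hy z, by group⟩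

theorem IsC.of_conj {g : Grp A α} {z : Grp A α} (h : IsC (z * g * z⁻¹)) : IsC g := by
  have := h.conj z⁻¹
  simpa [mul_assoc] using this

theorem map_commutator_mem {G H : Type*} [Group G] [Group H] (f : G →* H) {g : G} (hg : g ∈ commutator G) :
    f g ∈ commutator H := by
  have : (commutator G).map f ≤ commutator H := by
    rw [commutator_def, Subgroup.map_commutator, commutator_def]
    exact Subgroup.commutator_mono le_top le_top
  exact this ⟨g, hg, rfl⟩

theorem IsC.of_tr (hA : IsUnit (gB A).det) (hA' : IsUnit (gB A').det) (e : Idx α' β' ≃ Idx α β)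
    (he : ∀ v : Idx α β → F, qG A' α' (v ∘ e) = qG A α v) {g : Grp A α} (h : IsC (tr hA' e he g)) : IsC g := by
  have he' : ∀ v : Idx α' β' → F, qG A α (v ∘ e.symm) = qG A' α' v := fun v => by
    rw [← he, Function.comp_assoc, Equiv.symm_comp_self, Function.comp_id]
  obtain ⟨x, hx, y, hy, e'⟩ := h
  refine ⟨tr hA e.symm he' x, map_commutator_mem _ hx, tr hA e.symm he' y, map_commutator_mem _ hy, ?_⟩
  simp only [← map_inv, ← map_mul, ← e']
  exact toM_injective (by rw [toM_tr, toM_tr, submatrix_submatrix]; simp)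

/-- Two homomorphisms with these values detect `SGood`. -/
theorem sgood_of_chars (hA : IsUnit (gB A).det) (hV : ∃ (T : Matrix α α F) (τ : Matrix β β F), Valid A T τ)
    (χ : Grp A α →* Multiplicative (ZMod 2)) (θ : Grp A α →* ℤˣ)
    (hlev : ∀ T : Matrix α α F, IsUnit T.det → χ (mkG hA (lev T 1)) = 1 ∧ θ (mkG hA (lev T 1)) = sqSign T.det)
    (hodd : ∀ w : β → F, w ⬝ᵥ A *ᵥ w ≠ 0 → χ (mkG hA (lev (1 : Matrix α α F) (midRefl A w))) = Multiplicative.ofAdd 1)
    {g : Grp A α} (hχ : χ g = 1) (hθ : θ g = 1) : SGood g := by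
  intro x hx
  obtain ⟨g', hg'⟩ : ∃ g', g' = x * g * x⁻¹ := ⟨_, rfl⟩
  rw [← hg'] at hx ⊢
  have hχ' : χ g' = 1 := by rw [hg', map_mul, map_mul, hχ, mul_one, ← map_mul, mul_inv_cancel, map_one]
  have hθ' : θ g' = 1 := by rw [hg', map_mul, map_mul, hθ, mul_one, ← map_mul, mul_inv_cancel, map_one]
  obtain ⟨T, τ, hV⟩ := hV
  obtain ⟨hmid, u, hu, w₀, hw₀, hg⟩ := exists_ldu hA g' hx
  have ker : ∀ {H : Type} [CommGroup H] (f : Grp A α →* H) (z : Grp A α),
      z ∈ Cfsg.Omega F ⇑(qG A α) → f z = 1 := fun f z hz =>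
    MonoidHom.mem_ker.1 (Abelianization.commutator_subset_ker f hz)
  obtain ⟨a, ha⟩ : ∃ a, a = corner (toM g') := ⟨_, rfl⟩
  obtain ⟨e, he⟩ : ∃ e, e = schur (toM g') := ⟨_, rfl⟩
  rw [← ha] at hx hg ⊢
  rw [← he] at hmid hg ⊢
  have hsplit : mkG hA (lev a e) = mkG hA (lev a 1) * mkG hA (lev 1 e) := by
    rw [mkG_mul hA (isom_lev hx (midIso_one A)) (isom_lev (by simp) hmid), lev_mul, Matrix.mul_one, Matrix.one_mul]
  have e1 : χ (mkG hA (lev (1 : Matrix α α F) e)) = 1 := by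
    rw [hg, map_mul, map_mul, ker χ _ (lowS_le_omega hA hV u hu), ker χ _ (upS_le_omega hA hV w₀ hw₀), one_mul,
      mul_one, hsplit, map_mul, (hlev a hx).1, one_mul] at hχ'
    exact hχ'
  have e2 : θ (mkG hA (lev (1 : Matrix α α F) e)) * sqSign a.det = 1 := by
    rw [hg, map_mul, map_mul, ker θ _ (lowS_le_omega hA hV u hu), ker θ _ (upS_le_omega hA hV w₀ hw₀), one_mul,
      mul_one, hsplit, map_mul, (hlev a hx).2, mul_comm] at hθ'
    exact hθ'
  have h1u : IsUnit (1 : Matrix α α F).det := by simp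
  refine ⟨fun w hw h => ?_, fun w u y hw hu hy h => ?_, fun h => ?_⟩
  · rw [h, hodd w hw] at e1
    exact absurd e1 (by decide)
  · have hwu := (midIso_midRefl A hw).mul (midIso_midRefl A hu)
    rw [h, show (lev 1 (midRefl A w * midRefl A u * midRefl A y) : Mat F α β) =
        lev 1 (midRefl A w) * lev 1 (midRefl A u) * lev 1 (midRefl A y) by simp only [lev_mul, Matrix.one_mul],
      ← mkG_mul hA ((isom_lev h1u (midIso_midRefl A hw)).mul (isom_lev h1u (midIso_midRefl A hu)))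
        (isom_lev h1u (midIso_midRefl A hy)),
      ← mkG_mul hA (isom_lev h1u (midIso_midRefl A hw)) (isom_lev h1u (midIso_midRefl A hu)), map_mul, map_mul,
      hodd w hw, hodd u hu, hodd y hy] at e1
    exact absurd e1 (by decide)
  · rw [h, lev_one, mkG_one, map_one, one_mul] at e2
    exact (sqSign_eq_one).1 e2

/-- A cell gives a commutator of elements of even parity, up to conjugation. -/
theorem semi_of_cell (hA : IsUnit (gB A).det) (χ : Grp A α →* Multiplicative (ZMod 2))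
    (hlev : ∀ T : Matrix α α F, IsUnit T.det → χ (mkG hA (lev T 1)) = 1)
    (hrot : ∀ w u : β → F, w ⬝ᵥ A *ᵥ w ≠ 0 → u ⬝ᵥ A *ᵥ u ≠ 0 →
      χ (mkG hA (lev (1 : Matrix α α F) (midRefl A w * midRefl A u))) = 1)
    {g : Grp A α} (hc : Cell A (corner (toM g))) (he : schur (toM g) = 1) :
    ∃ h X D : Grp A α, χ X = 1 ∧ χ D = 1 ∧ g = h * (X * D * X⁻¹ * D⁻¹) * h⁻¹ := by
  obtain ⟨T, τ, P, R, hV, hr, hP, hR, ha⟩ := hc
  obtain ⟨h, v, w, hv, hw, hg⟩ := engine hA hV hP hR g ha he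
  have ker : ∀ z : Grp A α, z ∈ Cfsg.Omega F ⇑(qG A α) → χ z = 1 := fun z hz =>
    MonoidHom.mem_ker.1 (Abelianization.commutator_subset_ker χ hz)
  refine ⟨h, _, _, ?_, ?_, hg⟩
  · rw [map_mul, map_mul, ker v hv, ker w hw, hlev _ (by
      rw [det_mul]; exact (isUnit_nonsing_inv_det _ hR).mul hP), mul_one, mul_one]
  · rw [show (lev T τ : Mat F α β) = lev T 1 * lev 1 τ by rw [lev_mul, Matrix.mul_one, Matrix.one_mul],
      ← mkG_mul hA (isom_lev hV.det (midIso_one A)) (isom_lev (by simp) hV.mid), map_mul, hlev T hV.det, one_mul]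
    rcases hr with rfl | ⟨w, u, hw, hu, rfl⟩
    · rw [lev_one, mkG_one, map_one]
    · exact hrot w u hw hu

/-- A free cell gives a commutator. -/
theorem isC_of_cellFree (hA : IsUnit (gB A).det) (hN : 3 ≤ Fintype.card α) {g : Grp A α}
    (hc : CellFree A (corner (toM g))) (he : schur (toM g) = 1) : IsC g := by
  obtain ⟨D, θ, hΩ, hlev, hmid, -⟩ := exists_cls (α := α) hA hN
  obtain ⟨T, τ, P, R, hV, hP, hR, ha, hs, hZ⟩ := hc
  obtain ⟨Z, hZT, hZd⟩ := hZ (R.det / P.det) (div_ne_zero hR.ne_zero hP.ne_zero)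
  have hZu : IsUnit Z.det := by rw [hZd]; exact isUnit_iff_ne_zero.2 (div_ne_zero hR.ne_zero hP.ne_zero)
  have hPZ : IsUnit (P * Z).det := by rw [det_mul]; exact hP.mul hZu
  have ha' : corner (toM g) = P * Z * T * (P * Z)⁻¹ * (R * T⁻¹ * R⁻¹) := by
    rw [ha, Matrix.mul_inv_rev, Matrix.mul_assoc P Z T, hZT]
    simp only [Matrix.mul_assoc]
    rw [← Matrix.mul_assoc Z Z⁻¹, mul_nonsing_inv _ hZu, Matrix.one_mul]
  obtain ⟨h, v, w, hv, hw, hg⟩ := engine hA hV hPZ hR g ha' he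
  have hRP : IsUnit (R⁻¹ * (P * Z)).det := by rw [det_mul]; exact (isUnit_nonsing_inv_det _ hR).mul hPZ
  have hLP : mkG hA (lev (R⁻¹ * (P * Z)) 1) ∈ Cfsg.Omega F ⇑(qG A α) := by
    refine (hΩ _).2 ⟨(hlev _ hRP).1, ?_⟩
    rw [(hlev _ hRP).2, det_mul, det_mul, hZd, det_nonsing_inv, Ring.inverse_eq_inv',
      show R.det⁻¹ * (P.det * (R.det / P.det)) = 1 by
        have := hR.ne_zero; have := hP.ne_zero; field_simp, sqSign_one]
  have hD : mkG hA (lev T τ) ∈ Cfsg.Omega F ⇑(qG A α) := by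
    have e : mkG hA (lev T τ) = mkG hA (lev T 1) * mkG hA (lev 1 τ) := by
      rw [mkG_mul hA (isom_lev hV.det (midIso_one A)) (isom_lev (by simp) hV.mid), lev_mul, Matrix.mul_one,
        Matrix.one_mul]
    rw [e]
    rcases hs with ⟨rfl, hsq⟩ | ⟨w', u', hw', hu', rfl, hsq⟩
    · rw [lev_one, mkG_one, mul_one]
      exact (hΩ _).2 ⟨(hlev T hV.det).1, by rw [(hlev T hV.det).2]; exact sqSign_eq_one.2 hsq⟩
    · have h1u : IsUnit (1 : Matrix α α F).det := by simp
      rw [show (lev 1 (midRefl A w' * midRefl A u') : Mat F α β) = lev 1 (midRefl A w') * lev 1 (midRefl A u') by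
          rw [lev_mul, Matrix.one_mul],
        ← mkG_mul hA (isom_lev h1u (midIso_midRefl A hw')) (isom_lev h1u (midIso_midRefl A hu'))]
      refine (hΩ _).2 ⟨?_, ?_⟩
      · rw [map_mul, map_mul, (hlev T hV.det).1, (hmid w' hw').1, (hmid u' hu').1, one_mul]
        rfl
      · rw [map_mul, map_mul, (hlev T hV.det).2, (hmid w' hw').2, (hmid u' hu').2, ← sqSign_mul hw' hu',
          ← sqSign_mul hV.det.ne_zero (mul_ne_zero hw' hu')]
        exact sqSign_eq_one.2 hsq
  refine hg ▸ IsC.conj ⟨_, ?_, _, hD, rfl⟩ h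
  exact mul_mem (mul_mem hw hLP) hv

end CfsgLib.OmegaEvenComm
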