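import Cfsg.Agent.Lib.Classical.OmegaEvenComm.GoodShape

/-!
# Corners for an invertible lower left block

For a prescribed middle part `R` of the parity of `k`, some `S` with `Alt (S + μᵀ A μ)` makes `S * G` a Hessenberg
matrix and gives `1 + μ S⁻¹ μᵀ B = R`.
-/

set_option autoImplicit false
set_option linter.unusedSectionVars false
set_option linter.unusedSimpArgs false

namespace CfsgLib.OmegaEvenComm

open Matrix
open CfsgLib.OmegaComm (Hess form_congr exists_anti)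

variable {F : Type*} [Field F] {β : Type} [Fintype β] [DecidableEq β] {k : ℕ}
variable (A : Matrix β β F)

/-- A middle part with the parity of `k`. -/
def Tgt (k : ℕ) (R : Matrix β β F) : Prop :=
  (Odd k ∧ ∃ w : β → F, w ⬝ᵥ A *ᵥ w ≠ 0 ∧ R = midRefl A w) ∨
    (Even k ∧ (R = 1 ∨ ∃ w u : β → F, w ⬝ᵥ A *ᵥ w ≠ 0 ∧ u ⬝ᵥ A *ᵥ u ≠ 0 ∧ R = midRefl A w * midRefl A u))

/-- A corner `S * G` with property `P`. -/
def Reach (G : Matrix (Fin k) (Fin k) F) (R : Matrix β β F) (P : Matrix (Fin k) (Fin k) F → Prop) : Prop :=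
  ∃ (S : Matrix (Fin k) (Fin k) F) (μ : Matrix β (Fin k) F), Alt (S + μᵀ * A * μ) ∧ IsUnit S.det ∧
    1 + μ * S⁻¹ * (μᵀ * gB A) = R ∧ P (S * G)

/-- A coordinate indicator. -/
def dl {k : ℕ} (j : Fin k) (n : ℕ) : F := if (j : ℕ) = n then 1 else 0

/-- Extension by zero. -/
def ext0 (ξ : Fin k → F) (n : ℕ) : F := if h : n < k then ξ ⟨n, h⟩ else 0

theorem ext0_val (ξ : Fin k → F) (i : Fin k) : ext0 ξ (i : ℕ) = ξ i := by simp [ext0]

theorem sum_dl (ξ : Fin k → F) (n : ℕ) : ∑ j : Fin k, dl j n * ξ j = ext0 ξ n := by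
  by_cases h : n < k
  · rw [Finset.sum_eq_single ⟨n, h⟩]
    · simp [dl, ext0, h]
    · intro j _ hj; simp [dl, show (j : ℕ) ≠ n from fun e => hj (Fin.ext e)]
    · simp
  · rw [ext0, dif_neg h]
    exact Finset.sum_eq_zero fun j _ => by simp [dl, show (j : ℕ) ≠ n by omega]

/-- Two columns of the middle parameter. -/
def muTwo (k p q : ℕ) (w z : β → F) : Matrix β (Fin k) F :=
  Matrix.of fun b j => dl j p * w b + dl j q * z b

theorem muTwo_mulVec (p q : ℕ) (w z : β → F) (ξ : Fin k → F) :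
    muTwo k p q w z *ᵥ ξ = ext0 ξ p • w + ext0 ξ q • z := by
  funext b
  simp only [muTwo, mulVec, dotProduct, of_apply, add_mul, Finset.sum_add_distrib, Pi.add_apply, Pi.smul_apply,
    smul_eq_mul, ← sum_dl, Finset.sum_mul]
  congr 1 <;> exact Finset.sum_congr rfl fun j _ => by ring

theorem muTwo_vecMul (p q : ℕ) (w z y : β → F) (i : Fin k) :
    ((muTwo k p q w z)ᵀ *ᵥ y) i = dl i p * (w ⬝ᵥ y) + dl i q * (z ⬝ᵥ y) := by
  simp only [muTwo, mulVec, dotProduct, transpose_apply, of_apply, add_mul, Finset.sum_add_distrib, Finset.mul_sum]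
  congr 1 <;> exact Finset.sum_congr rfl fun j _ => by ring

theorem muTwo_quad (p q : ℕ) (w z : β → F) (i j : Fin k) :
    ((muTwo k p q w z)ᵀ * A * muTwo k p q w z) i j =
      dl i p * dl j p * (w ⬝ᵥ A *ᵥ w) + dl i p * dl j q * (w ⬝ᵥ A *ᵥ z) + dl i q * dl j p * (z ⬝ᵥ A *ᵥ w) +
        dl i q * dl j q * (z ⬝ᵥ A *ᵥ z) := by
  have e : (muTwo k p q w z) *ᵥ Pi.single j 1 = (dl j p : F) • w + (dl j q : F) • z := by
    funext b; simp [muTwo]
  have h : ((muTwo k p q w z)ᵀ * A * muTwo k p q w z) i j =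
      ((muTwo k p q w z)ᵀ *ᵥ (A *ᵥ (muTwo k p q w z *ᵥ Pi.single j 1))) i := by
    rw [mulVec_mulVec, mulVec_mulVec, mulVec_single_one]; simp [Matrix.mul_assoc]
  rw [h, e, muTwo_vecMul]
  simp only [mulVec_add, mulVec_smul, dotProduct_add, dotProduct_smul, smul_eq_mul]
  ring

/-- The matrix for the first shape, with path `0, 2h+1, …`. -/
def pathS (h k : ℕ) (qw qz b : F) : Matrix (Fin k) (Fin k) F := Matrix.of fun i j =>
  if (i : ℕ) = 0 then -qw * dl j 0 + (-1 - b) * dl j (2 * h + 1)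
  else if (i : ℕ) ≤ h then -dl j (2 * h + 1 - i)
  else if (i : ℕ) ≤ 2 * h then dl j (2 * h + 1 - i)
  else if (i : ℕ) = 2 * h + 1 then dl j 0 - qz * dl j i - dl j (i + 1)
  else dl j (i - 1) - dl j (i + 1)

/-- The matrix for the antidiagonal shape, with path `h, 0`. -/
def loopS (h k : ℕ) (qw qz b : F) : Matrix (Fin k) (Fin k) F := Matrix.of fun i j =>
  if (i : ℕ) = 0 then dl j h - qz * dl j 0
  else if (i : ℕ) = h then -qw * dl j h + (-1 - b) * dl j 0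
  else if (i : ℕ) < h then dl j (2 * h - i)
  else -dl j (2 * h - i)

/-- The positive entries of `pathS`. -/
def upP (h : ℕ) (i j : Fin k) : F :=
  if (h < (i : ℕ) ∧ (i : ℕ) ≤ 2 * h ∧ (i : ℕ) + j = 2 * h + 1) ∨ ((i : ℕ) = 2 * h + 1 ∧ (j : ℕ) = 0) ∨
    (2 * h + 1 < (i : ℕ) ∧ (j : ℕ) + 1 = i) then 1 else 0

/-- The positive entries of `loopS`. -/
def upL (h : ℕ) (i j : Fin k) : F :=
  if ((i : ℕ) = 0 ∧ (j : ℕ) = h) ∨ (0 < (i : ℕ) ∧ (i : ℕ) < h ∧ (i : ℕ) + j = 2 * h) then 1 else 0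

theorem pathS_eq {h : ℕ} (qw qz b : F) (i j : Fin k) :
    pathS h k qw qz b i j = upP h i j - upP h j i - qw * (dl i 0 * dl j 0) -
      qz * (dl i (2 * h + 1) * dl j (2 * h + 1)) - b * (dl i 0 * dl j (2 * h + 1)) := by
  rcases Nat.eq_zero_or_pos (i : ℕ) with c | c
  · by_cases d : (j : ℕ) = 0 <;> by_cases d' : (j : ℕ) = 2 * h + 1 <;>
      simp only [pathS, of_apply, upP, dl, c, d, d', if_true, if_false, true_and, and_true, false_and, and_false, false_or, or_false, true_or, or_true] <;> split_ifs <;> first | omega | contradiction | ring1 | (simp only [false_and, and_false, false_or, or_false, true_and, and_true] at *; omega)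
  by_cases c₁ : (i : ℕ) ≤ h
  · simp only [pathS, of_apply, upP, dl, c₁, c.ne', if_false, true_and, and_true, false_and, and_false, false_or, or_false, true_or, or_true, if_true]
    split_ifs <;> first | omega | contradiction | ring1 | (simp only [false_and, and_false, false_or, or_false, true_and, and_true] at *; omega)
  by_cases c₂ : (i : ℕ) ≤ 2 * h
  · simp only [pathS, of_apply, upP, dl, c₁, c₂, c.ne', if_false, true_and, and_true, false_and, and_false, false_or, or_false, true_or, or_true, if_true]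
    split_ifs <;> first | omega | contradiction | ring1 | (simp only [false_and, and_false, false_or, or_false, true_and, and_true] at *; omega)
  by_cases c₃ : (i : ℕ) = 2 * h + 1
  · by_cases d : (j : ℕ) = 0 <;>
      simp only [pathS, of_apply, upP, dl, c₁, c₂, c₃, d, Nat.add_one_ne_zero, if_false, true_and, and_true, false_and, and_false, false_or, or_false, true_or, or_true, if_true] <;>
      split_ifs <;> first | omega | contradiction | ring1 | (simp only [false_and, and_false, false_or, or_false, true_and, and_true] at *; omega)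
  · simp only [pathS, of_apply, upP, dl, c₁, c₂, c₃, c.ne', if_false, true_and, and_true, false_and, and_false, false_or, or_false, true_or, or_true, if_true]
    split_ifs <;> first | omega | contradiction | ring1 | (simp only [false_and, and_false, false_or, or_false, true_and, and_true] at *; omega)

theorem loopS_eq {h : ℕ} (hh : 0 < h) (qw qz b : F) {k : ℕ} (hk : k = 2 * h) (i j : Fin k) :
    loopS h k qw qz b i j = upL h i j - upL h j i - qw * (dl i h * dl j h) - qz * (dl i 0 * dl j 0) -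
      b * (dl i h * dl j 0) := by
  by_cases c : (i : ℕ) = 0
  · simp only [loopS, of_apply, upL, dl, c, hh.ne, if_false, true_and, and_true, false_and, and_false, false_or, or_false, true_or, or_true, if_true]
    split_ifs <;> first | omega | contradiction | ring1 | (simp only [false_and, and_false, false_or, or_false, true_and, and_true] at *; omega)
  by_cases c₁ : (i : ℕ) = h
  · simp only [loopS, of_apply, upL, dl, c₁, hh.ne', if_false, true_and, and_true, false_and, and_false, false_or, or_false, true_or, or_true, if_true]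
    split_ifs <;> first | omega | contradiction | ring1 | (simp only [false_and, and_false, false_or, or_false, true_and, and_true] at *; omega)
  by_cases c₂ : (i : ℕ) < h <;>
    simp only [loopS, of_apply, upL, dl, c, c₁, c₂, if_false, true_and, and_true, false_and, and_false, false_or, or_false, true_or, or_true, if_true] <;>
    split_ifs <;> first | omega | contradiction | ring1 | (simp only [false_and, and_false, false_or, or_false, true_and, and_true] at *; omega)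

theorem upP_self (h : ℕ) (i : Fin k) : (upP h i i : F) = 0 := by rw [upP, if_neg (by omega)]

theorem upL_self {h : ℕ} (hh : 0 < h) (i : Fin k) : (upL h i i : F) = 0 := by rw [upL, if_neg (by omega)]

theorem alt_pathS {h : ℕ} (hh : 2 * h < k) (w z : β → F) :
    Alt (pathS h k (w ⬝ᵥ A *ᵥ w) (z ⬝ᵥ A *ᵥ z) (w ⬝ᵥ gB A *ᵥ z) +
      (muTwo k 0 (2 * h + 1) w z)ᵀ * A * muTwo k 0 (2 * h + 1) w z) := by
  refine alt_iff.2 ⟨Matrix.ext fun i j => ?_, fun i => ?_⟩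
  · simp only [transpose_apply, Matrix.neg_apply, Matrix.add_apply, muTwo_quad, dot_gB, pathS_eq]
    ring
  · simp only [Matrix.add_apply, muTwo_quad, dot_gB, pathS_eq, upP_self]
    have e : dl i 0 * dl i (2 * h + 1) = (0 : F) := by
      simp only [dl]; split_ifs <;> first | omega | ring
    linear_combination (z ⬝ᵥ A *ᵥ w + w ⬝ᵥ A *ᵥ z) * e - (w ⬝ᵥ A *ᵥ z + z ⬝ᵥ A *ᵥ w) * e

theorem alt_loopS {h : ℕ} (hh : 0 < h) (hk : k = 2 * h) (w z : β → F) :
    Alt (loopS h k (w ⬝ᵥ A *ᵥ w) (z ⬝ᵥ A *ᵥ z) (w ⬝ᵥ gB A *ᵥ z) +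
      (muTwo k h 0 w z)ᵀ * A * muTwo k h 0 w z) := by
  refine alt_iff.2 ⟨Matrix.ext fun i j => ?_, fun i => ?_⟩
  · simp only [transpose_apply, Matrix.neg_apply, Matrix.add_apply, muTwo_quad, dot_gB, loopS_eq hh _ _ _ hk]
    ring
  · simp only [Matrix.add_apply, muTwo_quad, dot_gB, loopS_eq hh _ _ _ hk, upL_self hh]
    ring

variable {A}

theorem pathS_mulVec (h : ℕ) (qw qz b : F) (ξ : Fin k → F) (i : Fin k) :
    (pathS h k qw qz b *ᵥ ξ) i =
      if (i : ℕ) = 0 then -qw * ext0 ξ 0 + (-1 - b) * ext0 ξ (2 * h + 1)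
      else if (i : ℕ) ≤ h then -ext0 ξ (2 * h + 1 - i)
      else if (i : ℕ) ≤ 2 * h then ext0 ξ (2 * h + 1 - i)
      else if (i : ℕ) = 2 * h + 1 then ext0 ξ 0 - qz * ext0 ξ i - ext0 ξ (i + 1)
      else ext0 ξ ((i : ℕ) - 1) - ext0 ξ (i + 1) := by
  simp only [mulVec, dotProduct, pathS, of_apply]
  split_ifs <;> simp only [neg_mul, sub_mul, add_mul, mul_assoc, Finset.sum_add_distrib, Finset.sum_sub_distrib,
    Finset.sum_neg_distrib, ← Finset.mul_sum, sum_dl, Finset.sum_mul]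

theorem loopS_mulVec (h : ℕ) (qw qz b : F) (ξ : Fin k → F) (i : Fin k) :
    (loopS h k qw qz b *ᵥ ξ) i =
      if (i : ℕ) = 0 then ext0 ξ h - qz * ext0 ξ 0
      else if (i : ℕ) = h then -qw * ext0 ξ h + (-1 - b) * ext0 ξ 0
      else if (i : ℕ) < h then ext0 ξ (2 * h - i)
      else -ext0 ξ (2 * h - i) := by
  simp only [mulVec, dotProduct, loopS, of_apply]
  split_ifs <;> simp only [neg_mul, sub_mul, add_mul, mul_assoc, Finset.sum_add_distrib, Finset.sum_sub_distrib,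
    Finset.sum_neg_distrib, ← Finset.mul_sum, sum_dl, Finset.sum_mul]

/-- What a solution of the path system looks like at its two first nodes. -/
theorem pathS_sol {h : ℕ} (hh : 2 * h < k) {qw qz b a c : F} {ξ : Fin k → F}
    (he : ∀ i : Fin k, (pathS h k qw qz b *ᵥ ξ) i = dl i 0 * a + dl i (2 * h + 1) * c) :
    (∀ n, 1 ≤ n → n ≤ 2 * h → ext0 ξ n = 0) ∧
      (Odd k → ext0 ξ (2 * h + 1) = 0 ∧ -qw * ext0 ξ 0 = a) ∧
      (Even k → -qw * ext0 ξ 0 + (-1 - b) * ext0 ξ (2 * h + 1) = a ∧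
        ext0 ξ 0 - qz * ext0 ξ (2 * h + 1) = c) ∧
      (a = 0 → c = 0 → ext0 ξ 0 = 0 → ext0 ξ (2 * h + 1) = 0 → ξ = 0) := by
  obtain ⟨V, hV⟩ : ∃ V, V = ext0 ξ := ⟨_, rfl⟩
  have he' := fun i => (pathS_mulVec h qw qz b ξ i).symm.trans (he i)
  simp only [dl, ← hV] at he' ⊢
  have hVk : ∀ n, k ≤ n → V n = 0 := fun n hn => by rw [hV, ext0, dif_neg (by omega)]
  have hpair : ∀ n, 1 ≤ n → n ≤ 2 * h → V n = 0 := fun n h1 h2 => by
    have e := he' ⟨2 * h + 1 - n, by omega⟩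
    simp only [show 2 * h + 1 - (2 * h + 1 - n) = n by omega, show 2 * h + 1 - n ≠ 0 by omega,
      show 2 * h + 1 - n ≠ 2 * h + 1 by omega, if_false, zero_mul, add_zero] at e
    split_ifs at e with h3 h4
    · linear_combination -e
    · linear_combination e
    all_goals omega
  have hstep : ∀ n, 2 * h + 1 < n → n < k → V (n - 1) = V (n + 1) := fun n h1 h2 => by
    have e := he' ⟨n, h2⟩
    simp only [show n ≠ 0 by omega, show ¬ n ≤ h by omega, show ¬ n ≤ 2 * h by omega, show n ≠ 2 * h + 1 by omega,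
      if_false, zero_mul, add_zero] at e
    linear_combination e
  have hback : ∀ j, 2 * h + 1 + 2 * j ≤ k → V (k - 2 * j) = 0 := by
    intro j
    induction j with
    | zero => exact fun _ => hVk _ (by omega)
    | succ j ih =>
      intro hj
      have := hstep (k - 2 * j - 1) (by omega) (by omega)
      rw [show k - 2 * j - 1 - 1 = k - 2 * (j + 1) by omega, show k - 2 * j - 1 + 1 = k - 2 * j by omega,
        ih (by omega)] at this
      exact this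
  have e0 := he' ⟨0, by omega⟩
  simp at e0
  refine ⟨hpair, fun ⟨p, hp⟩ => ?_, fun ⟨p, hp⟩ => ?_, fun ha hc h0 h1 => ?_⟩
  · have h1 := hback (p - h) (by omega)
    rw [show k - 2 * (p - h) = 2 * h + 1 by omega] at h1
    rw [h1] at e0
    exact ⟨h1, by linear_combination e0⟩
  · have h2 := hback (p - h - 1) (by omega)
    rw [show k - 2 * (p - h - 1) = 2 * h + 2 by omega] at h2
    have e1 := he' ⟨2 * h + 1, by omega⟩
    simp only at e1
    rw [if_neg (show 2 * h + 1 ≠ 0 by omega), if_neg (show ¬ 2 * h + 1 ≤ h by omega),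
      if_neg (show ¬ 2 * h + 1 ≤ 2 * h by omega)] at e1
    simp only [show 2 * h + 1 ≠ 0 by omega, if_false, if_true,
      h2, show 2 * h + 1 + 1 = 2 * h + 2 from rfl] at e1
    exact ⟨by linear_combination e0, by linear_combination e1⟩
  · subst ha hc
    have key : ∀ m, V (2 * h + 1 + m) = 0 ∧ V (2 * h + 2 + m) = 0 := by
      intro m
      induction m with
      | zero =>
        refine ⟨h1, ?_⟩
        rcases Nat.lt_or_ge (2 * h + 1) k with hk1 | hk1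
        · have e1 := he' ⟨2 * h + 1, hk1⟩
          simp only at e1
          rw [if_neg (show 2 * h + 1 ≠ 0 by omega), if_neg (show ¬ 2 * h + 1 ≤ h by omega),
            if_neg (show ¬ 2 * h + 1 ≤ 2 * h by omega)] at e1
          simp [h0, h1] at e1
          exact e1
        · exact hVk _ (by omega)
      | succ m ih =>
        refine ⟨by rw [show 2 * h + 1 + (m + 1) = 2 * h + 2 + m by omega]; exact ih.2, ?_⟩
        rcases Nat.lt_or_ge (2 * h + 2 + m) k with hm | hm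
        · have := hstep (2 * h + 2 + m) (by omega) hm
          rw [show 2 * h + 2 + m - 1 = 2 * h + 1 + m by omega, ih.1] at this
          exact this.symm
        · exact hVk _ (by omega)
    funext i
    rw [← ext0_val ξ i, ← hV, Pi.zero_apply]
    rcases Nat.eq_zero_or_pos (i : ℕ) with h3 | h3
    · rw [h3, h0]
    · rcases Nat.lt_or_ge (2 * h) i with h4 | h4
      · rw [show (i : ℕ) = 2 * h + 1 + (i - (2 * h + 1)) by omega]
        exact (key _).1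
      · exact hpair _ h3 h4

theorem loopS_sol {h : ℕ} (hh : 0 < h) (hk : k = 2 * h) {qw qz b a c : F} {ξ : Fin k → F}
    (he : ∀ i : Fin k, (loopS h k qw qz b *ᵥ ξ) i = dl i h * a + dl i 0 * c) :
    (-qw * ext0 ξ h + (-1 - b) * ext0 ξ 0 = a ∧ ext0 ξ h - qz * ext0 ξ 0 = c) ∧
      (ext0 ξ h = 0 → ext0 ξ 0 = 0 → ξ = 0) := by
  obtain ⟨V, hV⟩ : ∃ V, V = ext0 ξ := ⟨_, rfl⟩
  have he' := fun i => (loopS_mulVec h qw qz b ξ i).symm.trans (he i)
  simp only [dl, ← hV] at he' ⊢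
  have e0 := he' ⟨0, by omega⟩
  have eh := he' ⟨h, by omega⟩
  simp [hh.ne', hh.ne] at e0 eh
  refine ⟨⟨by linear_combination eh, by linear_combination e0⟩, fun h1 h0 => funext fun i => ?_⟩
  rw [← ext0_val ξ i, ← hV, Pi.zero_apply]
  rcases Nat.eq_zero_or_pos (i : ℕ) with h3 | h3
  · rw [h3, h0]
  rcases eq_or_ne (i : ℕ) h with h4 | h4
  · rw [h4, h1]
  have e := he' ⟨2 * h - i, by omega⟩
  simp only at e
  rw [if_neg (show 2 * h - (i : ℕ) ≠ 0 by omega), if_neg (show 2 * h - (i : ℕ) ≠ h by omega),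
    show 2 * h - (2 * h - (i : ℕ)) = i by omega] at e
  simp only [show 2 * h - (i : ℕ) ≠ 0 by omega, show 2 * h - (i : ℕ) ≠ h by omega, if_false] at e
  split_ifs at e <;> simpa using e

/-- The two middle parameters reaching `R`. -/
def Pair (A : Matrix β β F) (k : ℕ) (R : Matrix β β F) (w z : β → F) : Prop :=
  (Odd k ∧ z = 0 ∧ w ⬝ᵥ A *ᵥ w ≠ 0 ∧ R = midRefl A w) ∨
    (Even k ∧ w = 0 ∧ z = 0 ∧ R = 1) ∨
    (Even k ∧ ∃ u, w ⬝ᵥ A *ᵥ w ≠ 0 ∧ u ⬝ᵥ A *ᵥ u ≠ 0 ∧ z = (w ⬝ᵥ A *ᵥ w)⁻¹ • (u - w) ∧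
      R = midRefl A w * midRefl A u)

/-- The algebra of the two reflections. -/
theorem pair_eval {R : Matrix β β F} {w z : β → F} (hP : Pair A k R w z) (x : β → F) {ξ0 ξ1 : F}
    (hodd : Odd k → ξ1 = 0 ∧ -(w ⬝ᵥ A *ᵥ w) * ξ0 = w ⬝ᵥ gB A *ᵥ x)
    (heven : Even k → -(w ⬝ᵥ A *ᵥ w) * ξ0 + (-1 - w ⬝ᵥ gB A *ᵥ z) * ξ1 = w ⬝ᵥ gB A *ᵥ x ∧
      ξ0 - (z ⬝ᵥ A *ᵥ z) * ξ1 = z ⬝ᵥ gB A *ᵥ x) :
    x + (ξ0 • w + ξ1 • z) = R *ᵥ x := by
  rcases hP with ⟨hk, rfl, hw, rfl⟩ | ⟨hk, rfl, rfl, rfl⟩ | ⟨hk, u, hw, hu, hz, rfl⟩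
  · obtain ⟨h1, h0⟩ := hodd hk
    rw [midRefl_mulVec, dot_gB_comm, ← h0, h1]
    funext i
    simp only [Pi.add_apply, Pi.sub_apply, Pi.smul_apply, Pi.zero_apply, smul_eq_mul]
    field_simp
    ring
  · simp
  · obtain ⟨h0, h1⟩ := heven hk
    obtain ⟨c, hc⟩ : ∃ c, c = w ⬝ᵥ A *ᵥ w := ⟨_, rfl⟩
    have hu' : u = w + c • z := by rw [hz, hc, smul_smul, mul_inv_cancel₀ hw, one_smul]; abel
    clear hz
    subst hu'
    rw [← mulVec_mulVec, midRefl_mulVec, midRefl_mulVec]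
    have hq : (w + c • z) ⬝ᵥ A *ᵥ (w + c • z) = c * (1 + w ⬝ᵥ gB A *ᵥ z + c * (z ⬝ᵥ A *ᵥ z)) := by
      rw [dot_gB, hc]
      simp only [mulVec_add, mulVec_smul, dotProduct_add, dotProduct_smul, add_dotProduct, smul_dotProduct,
        smul_eq_mul]
      ring
    rw [hq] at hu ⊢
    have hD := right_ne_zero_of_mul hu
    simp only [sub_dotProduct, smul_dotProduct, add_dotProduct, mulVec_add, mulVec_smul, dotProduct_add,
      dotProduct_smul, smul_eq_mul, dot_gB_comm A x w, dot_gB_comm A x z, dot_gB_comm A z w,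
      show w ⬝ᵥ gB A *ᵥ w = 2 * c by rw [dot_gB, hc]; ring, ← hc] at h0 h1 ⊢
    obtain ⟨D, hDdef⟩ : ∃ D, D = 1 + w ⬝ᵥ gB A *ᵥ z + c * (z ⬝ᵥ A *ᵥ z) := ⟨_, rfl⟩
    rw [← hDdef] at hD hu ⊢
    have hc0 : c ≠ 0 := hc ▸ hw
    have e1 : ξ1 = -(w ⬝ᵥ gB A *ᵥ x + c * (z ⬝ᵥ gB A *ᵥ x)) / D := by
      rw [eq_div_iff hD, hDdef]
      linear_combination -h0 - c * h1
    have e0 : ξ0 = z ⬝ᵥ gB A *ᵥ x + (z ⬝ᵥ A *ᵥ z) * ξ1 := by linear_combination h1
    funext i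
    simp only [Pi.add_apply, Pi.sub_apply, Pi.smul_apply, smul_eq_mul]
    rw [e0, e1]
    field_simp
    rw [hDdef]
    ring

theorem eq_zero_of_pair {R : Matrix β β F} {w z : β → F} (hP : Pair A k R w z) {ξ0 ξ1 : F}
    (hodd : Odd k → ξ1 = 0 ∧ -(w ⬝ᵥ A *ᵥ w) * ξ0 = 0)
    (heven : Even k → -(w ⬝ᵥ A *ᵥ w) * ξ0 + (-1 - w ⬝ᵥ gB A *ᵥ z) * ξ1 = 0 ∧
      ξ0 - (z ⬝ᵥ A *ᵥ z) * ξ1 = 0) : ξ0 = 0 ∧ ξ1 = 0 := by
  rcases hP with ⟨hk, rfl, hw, rfl⟩ | ⟨hk, rfl, rfl, rfl⟩ | ⟨hk, u, hw, hu, hz, rfl⟩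
  · obtain ⟨h1, h0⟩ := hodd hk
    exact ⟨(mul_eq_zero.1 h0).resolve_left (neg_ne_zero.2 hw), h1⟩
  · obtain ⟨h0, h1⟩ := heven hk
    simp at h0 h1
    exact ⟨h1, h0⟩
  · obtain ⟨h0, h1⟩ := heven hk
    obtain ⟨c, hc⟩ : ∃ c, c = w ⬝ᵥ A *ᵥ w := ⟨_, rfl⟩
    have hu' : u = w + c • z := by rw [hz, hc, smul_smul, mul_inv_cancel₀ hw, one_smul]; abel
    have hq : u ⬝ᵥ A *ᵥ u = c * (1 + w ⬝ᵥ gB A *ᵥ z + c * (z ⬝ᵥ A *ᵥ z)) := by
      rw [hu', dot_gB, hc]
      simp only [mulVec_add, mulVec_smul, dotProduct_add, dotProduct_smul, add_dotProduct, smul_dotProduct,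
        smul_eq_mul]
      ring
    rw [hq] at hu
    have hD := right_ne_zero_of_mul hu
    rw [← hc] at h0
    have e1 : ξ1 = 0 := (mul_eq_zero.1 (show (1 + w ⬝ᵥ gB A *ᵥ z + c * (z ⬝ᵥ A *ᵥ z)) * ξ1 = 0 by
      linear_combination -h0 - c * h1)).resolve_left hD
    rw [e1, mul_zero, sub_zero] at h1
    exact ⟨h1, e1⟩

theorem exists_pair {R : Matrix β β F} (hR : Tgt A k R) : ∃ w z, Pair A k R w z := by
  rcases hR with ⟨hk, w, hw, e⟩ | ⟨hk, e | ⟨w, u, hw, hu, e⟩⟩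
  · exact ⟨w, 0, Or.inl ⟨hk, rfl, hw, e⟩⟩
  · exact ⟨0, 0, Or.inr (Or.inl ⟨hk, rfl, rfl, e⟩)⟩
  · exact ⟨w, _, Or.inr (Or.inr ⟨hk, u, hw, hu, rfl, e⟩)⟩

/-- From the linear system to the middle part. -/
theorem mid_eq_of_sol {p q : ℕ} {R : Matrix β β F} {w z : β → F} (hP : Pair A k R w z)
    {S : Matrix (Fin k) (Fin k) F}
    (hsol : ∀ (a c : F) (ξ : Fin k → F), (∀ i, (S *ᵥ ξ) i = dl i p * a + dl i q * c) →
      (Odd k → ext0 ξ q = 0 ∧ -(w ⬝ᵥ A *ᵥ w) * ext0 ξ p = a) ∧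
      (Even k → -(w ⬝ᵥ A *ᵥ w) * ext0 ξ p + (-1 - w ⬝ᵥ gB A *ᵥ z) * ext0 ξ q = a ∧
        ext0 ξ p - (z ⬝ᵥ A *ᵥ z) * ext0 ξ q = c) ∧
      (a = 0 → c = 0 → ext0 ξ p = 0 → ext0 ξ q = 0 → ξ = 0)) :
    IsUnit S.det ∧ 1 + muTwo k p q w z * S⁻¹ * ((muTwo k p q w z)ᵀ * gB A) = R := by
  have hS : IsUnit S.det := by
    rw [isUnit_iff_ne_zero]
    intro h0
    obtain ⟨v, hv0, hv⟩ := Matrix.exists_mulVec_eq_zero_iff.2 h0
    obtain ⟨ho, he, hz⟩ := hsol 0 0 v (fun i => by rw [hv]; simp)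
    obtain ⟨e0, e1⟩ := eq_zero_of_pair hP ho he
    exact hv0 (hz rfl rfl e0 e1)
  refine ⟨hS, Matrix.ext_of_mulVec_single fun i => ?_⟩
  obtain ⟨x, hx⟩ : ∃ x : β → F, x = Pi.single i 1 := ⟨_, rfl⟩
  rw [← hx, add_mulVec, one_mulVec, ← mulVec_mulVec, ← mulVec_mulVec, ← mulVec_mulVec, muTwo_mulVec]
  obtain ⟨ξ, hξ⟩ : ∃ ξ, ξ = S⁻¹ *ᵥ ((muTwo k p q w z)ᵀ *ᵥ (gB A *ᵥ x)) := ⟨_, rfl⟩
  rw [← hξ]
  obtain ⟨ho, he, -⟩ := hsol (w ⬝ᵥ gB A *ᵥ x) (z ⬝ᵥ gB A *ᵥ x) ξ (fun l => by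
    rw [hξ, mulVec_mulVec, mul_nonsing_inv _ hS, one_mulVec, muTwo_vecMul])
  exact pair_eval hP x ho he

/-- Scaling one node. -/
theorem reach_scale {G : Matrix (Fin k) (Fin k) F} {R : Matrix β β F} {S : Matrix (Fin k) (Fin k) F}
    {μ : Matrix β (Fin k) F} (hS : Alt (S + μᵀ * A * μ)) (hu : IsUnit S.det)
    (hR : 1 + μ * S⁻¹ * (μᵀ * gB A) = R) (hk : 0 < k)
    (hH : ∀ δ : Fin k → F, (∀ i, δ i ≠ 0) → Hess (diagonal δ * S * diagonal δ * G)) (t : F) (ht : t ≠ 0) :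
    Reach A G R (fun a => Hess a ∧ a.det = t ^ 2 * (S * G).det) := by
  obtain ⟨δ, hδ⟩ : ∃ δ : Fin k → F, δ = Function.update (1 : Fin k → F) ⟨0, hk⟩ t := ⟨_, rfl⟩
  have hδ0 : ∀ i, δ i ≠ 0 := fun i => by
    rw [hδ]
    rcases eq_or_ne i ⟨0, hk⟩ with rfl | hi
    · simpa using ht
    · simp [hi]
  have hd : (diagonal δ).det = t := by
    rw [det_diagonal, hδ, Finset.prod_update_of_mem (Finset.mem_univ _)]
    simp
  have hdu : IsUnit (diagonal δ).det := by rw [hd]; exact isUnit_iff_ne_zero.2 ht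
  refine ⟨diagonal δ * S * diagonal δ, μ * diagonal δ, ?_, ?_, ?_, hH δ hδ0, ?_⟩
  · refine (hS.conj (diagonal δ)).congr fun v => ?_
    simp [Matrix.mul_add, Matrix.add_mul, Matrix.mul_assoc]
  · rw [det_mul, det_mul]; exact (hdu.mul hu).mul hdu
  · rw [← hR, Matrix.mul_inv_rev, Matrix.mul_inv_rev, transpose_mul, diagonal_transpose]
    congr 1
    simp only [Matrix.mul_assoc]
    rw [← Matrix.mul_assoc (diagonal δ) (diagonal δ)⁻¹, mul_nonsing_inv _ hdu, Matrix.one_mul,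
      ← Matrix.mul_assoc (diagonal δ)⁻¹ (diagonal δ), nonsing_inv_mul _ hdu, Matrix.one_mul]
  · rw [det_mul, det_mul, det_mul, hd, det_mul]; ring

/-- Where `pathS` may be nonzero. -/
theorem pathS_supp {h : ℕ} (qw qz b : F) {i l : Fin k} (hne : pathS h k qw qz b i l ≠ 0) :
    ((i : ℕ) = 0 ∧ ((l : ℕ) = 0 ∨ (l : ℕ) = 2 * h + 1)) ∨
      (1 ≤ (i : ℕ) ∧ (i : ℕ) ≤ 2 * h ∧ (i : ℕ) + l = 2 * h + 1) ∨
      ((i : ℕ) = 2 * h + 1 ∧ ((l : ℕ) = 0 ∨ (l : ℕ) = i ∨ (l : ℕ) = i + 1)) ∨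
      (2 * h + 1 < (i : ℕ) ∧ ((l : ℕ) + 1 = i ∨ (l : ℕ) = i + 1)) := by
  simp only [pathS, of_apply] at hne
  rcases Nat.eq_zero_or_pos (i : ℕ) with c | c
  · refine Or.inl ⟨c, ?_⟩
    by_contra hc
    push Not at hc
    exact hne (by simp [c, dl, hc.1, hc.2])
  rw [if_neg c.ne'] at hne
  by_cases c₁ : (i : ℕ) ≤ h
  · rw [if_pos c₁] at hne
    refine Or.inr (Or.inl ⟨c, by omega, ?_⟩)
    by_contra hc
    exact hne (by rw [dl, if_neg (by omega), neg_zero])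
  rw [if_neg c₁] at hne
  by_cases c₂ : (i : ℕ) ≤ 2 * h
  · rw [if_pos c₂] at hne
    refine Or.inr (Or.inl ⟨c, c₂, ?_⟩)
    by_contra hc
    exact hne (by rw [dl, if_neg (by omega)])
  rw [if_neg c₂] at hne
  by_cases c₃ : (i : ℕ) = 2 * h + 1
  · rw [if_pos c₃] at hne
    refine Or.inr (Or.inr (Or.inl ⟨c₃, ?_⟩))
    by_contra hc
    push Not at hc
    exact hne (by simp only [dl, hc.1, hc.2.1, hc.2.2, if_false]; ring)
  · rw [if_neg c₃] at hne
    refine Or.inr (Or.inr (Or.inr ⟨by omega, ?_⟩))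
    by_contra hc
    push Not at hc
    exact hne (by simp only [dl, show (l : ℕ) ≠ i - 1 by omega, hc.2, if_false]; ring)

theorem pathS_sub {h : ℕ} (qw qz b : F) {i l : Fin k}
    (hil : (1 ≤ (i : ℕ) ∧ (i : ℕ) ≤ 2 * h ∧ (i : ℕ) + l = 2 * h + 1) ∨ ((i : ℕ) = 2 * h + 1 ∧ (l : ℕ) = 0) ∨
      (2 * h + 1 < (i : ℕ) ∧ (l : ℕ) + 1 = i)) : pathS h k qw qz b i l ≠ 0 := by
  simp only [pathS, of_apply]
  rcases hil with ⟨c, c', c''⟩ | ⟨c, c'⟩ | ⟨c, c'⟩
  · rw [if_neg (by omega)]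
    by_cases c₁ : (i : ℕ) ≤ h
    · rw [if_pos c₁, dl, if_pos (by omega)]
      exact neg_ne_zero.2 one_ne_zero
    · rw [if_neg c₁, if_pos c', dl, if_pos (by omega)]
      exact one_ne_zero
  · rw [if_neg (by omega), if_neg (by omega), if_neg (by omega), if_pos c]
    simp only [dl, c', show (0 : ℕ) ≠ (i : ℕ) by omega, show (0 : ℕ) ≠ (i : ℕ) + 1 by omega, if_true, if_false]
    simp
  · rw [if_neg (by omega), if_neg (by omega), if_neg (by omega), if_neg (by omega), dl, dl, if_pos (by omega),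
      if_neg (by omega), sub_zero]
    exact one_ne_zero

theorem hess_path {h : ℕ} {G : Matrix (Fin k) (Fin k) F} (hG : Shp h G) (qw qz b : F) (δ : Fin k → F)
    (hδ : ∀ i, δ i ≠ 0) : Hess (diagonal δ * pathS h k qw qz b * diagonal δ * G) := by
  obtain ⟨hh, hs⟩ := hG
  intro i j
  have hentry : (diagonal δ * pathS h k qw qz b * diagonal δ * G) i j =
      ∑ l, δ i * pathS h k qw qz b i l * δ l * G l j := by
    rw [Matrix.mul_apply]
    exact Finset.sum_congr rfl fun l _ => by rw [mul_diagonal, diagonal_mul]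
  have key : ∀ l, pathS h k qw qz b i l ≠ 0 → (j : ℕ) + 1 < i → G l j = 0 := fun l hl hij => by
    obtain ⟨h1, h2, h3⟩ := hs l j
    have hsu := pathS_supp qw qz b hl
    rcases eq_or_ne (j : ℕ) h with hj | hj
    · exact (h2 hj).1 (by omega)
    · by_cases hj2 : (j : ℕ) ≤ 2 * h
      · exact (h1 hj hj2).1 (by omega)
      · exact (h3 (by omega)).1 (by omega)
  refine ⟨fun hij => ?_, fun hij => ?_⟩ <;> rw [hentry]
  · refine Finset.sum_eq_zero fun l _ => ?_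
    by_cases hS0 : pathS h k qw qz b i l = 0
    · rw [hS0]; ring
    · rw [key l hS0 hij, mul_zero]
  · -- the subdiagonal
    obtain ⟨l₀, hl₀⟩ : ∃ l₀ : Fin k, (l₀ : ℕ) = if (j : ℕ) = h then h else if (j : ℕ) ≤ 2 * h then 2 * h - j else j :=
      ⟨⟨if (j : ℕ) = h then h else if (j : ℕ) ≤ 2 * h then 2 * h - j else j, by split_ifs <;> omega⟩, rfl⟩
    rw [Finset.sum_eq_single l₀]
    · obtain ⟨h1, h2, h3⟩ := hs l₀ j
      refine mul_ne_zero (mul_ne_zero (mul_ne_zero (hδ _) (pathS_sub qw qz b ?_)) (hδ _)) ?_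
      · split_ifs at hl₀ <;> omega
      · split_ifs at hl₀ with c1 c2
        · exact (h2 c1).2 hl₀
        · exact (h1 c1 c2).2 (by omega)
        · exact (h3 (by omega)).2 hl₀
    · intro l _ hl
      have hl' : (l : ℕ) ≠ l₀ := fun e => hl (Fin.ext e)
      obtain ⟨h1, h2, h3⟩ := hs l j
      by_cases hS0 : pathS h k qw qz b i l = 0
      · rw [hS0]; ring
      suffices G l j = 0 by rw [this, mul_zero]
      have hsu := pathS_supp qw qz b hS0
      split_ifs at hl₀ with c1 c2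
      · exact (h2 c1).1 (by omega)
      · exact (h1 c1 c2).1 (by omega)
      · exact (h3 (by omega)).1 (by omega)
    · simp

theorem hess_loop {h : ℕ} (hh : 0 < h) (hk : k = 2 * h) {G : Matrix (Fin k) (Fin k) F}
    (hG : ∀ i j : Fin k, ((i : ℕ) + j + 1 ≠ k → G i j = 0) ∧ ((i : ℕ) + j + 1 = k → G i j ≠ 0))
    {qw : F} (hqw : qw ≠ 0) (qz b : F) (δ : Fin k → F)
    (hδ : ∀ i, δ i ≠ 0) : Hess (diagonal δ * loopS h k qw qz b * diagonal δ * G) := by
  intro i j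
  obtain ⟨l₀, hl₀⟩ : ∃ l₀ : Fin k, (l₀ : ℕ) = k - 1 - j := ⟨⟨k - 1 - j, by omega⟩, rfl⟩
  have hentry : (diagonal δ * loopS h k qw qz b * diagonal δ * G) i j =
      δ i * loopS h k qw qz b i l₀ * δ l₀ * G l₀ j := by
    rw [Matrix.mul_apply, Finset.sum_eq_single l₀]
    · rw [mul_diagonal, diagonal_mul]
    · intro l _ hl
      have hl' : (l : ℕ) ≠ l₀ := fun e => hl (Fin.ext e)
      rw [(hG l j).1 (by omega), mul_zero]
    · simp
  rw [hentry]
  refine ⟨fun hij => ?_, fun hij => ?_⟩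
  · have : loopS h k qw qz b i l₀ = 0 := by
      simp only [loopS, of_apply, dl]
      split_ifs <;> first | omega | ring
    rw [this]; ring
  · refine mul_ne_zero (mul_ne_zero (mul_ne_zero (hδ _) ?_) (hδ _)) ((hG _ _).2 (by omega))
    simp only [loopS, of_apply, dl]
    split_ifs <;> first | omega | simp [hqw]

/-- A basis in which every target is reached, with every determinant in one square class. -/
theorem exists_reach (hk : 0 < k) {G : Matrix (Fin k) (Fin k) F} (hG : G.det ≠ 0) {R : Matrix β β F}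
    (hR : Tgt A k R) : ∃ (B : Matrix (Fin k) (Fin k) F) (D : F), IsUnit B.det ∧ D ≠ 0 ∧
      Reach A (Bᵀ * G * B) R (fun a => a.det = D) ∧ ∀ c : F, c ≠ 0 → IsSquare (D * c) →
        Reach A (Bᵀ * G * B) R (fun a => (Hess a ∧ a.det * c = 1) ∨ (a = 1 ∧ ∀ w : β → F, w ⬝ᵥ A *ᵥ w = 0)) := by
  have fin : ∀ (B : Matrix (Fin k) (Fin k) F), IsUnit B.det → ∀ (S : Matrix (Fin k) (Fin k) F)
      (μ : Matrix β (Fin k) F), Alt (S + μᵀ * A * μ) → IsUnit S.det → 1 + μ * S⁻¹ * (μᵀ * gB A) = R →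
      (∀ δ : Fin k → F, (∀ i, δ i ≠ 0) → Hess (diagonal δ * S * diagonal δ * (Bᵀ * G * B))) →
      ∃ (B : Matrix (Fin k) (Fin k) F) (D : F), IsUnit B.det ∧ D ≠ 0 ∧
        Reach A (Bᵀ * G * B) R (fun a => a.det = D) ∧ ∀ c : F, c ≠ 0 → IsSquare (D * c) →
          Reach A (Bᵀ * G * B) R
            (fun a => (Hess a ∧ a.det * c = 1) ∨ (a = 1 ∧ ∀ w : β → F, w ⬝ᵥ A *ᵥ w = 0)) := by
    intro B hB S μ hS hu hRe hH
    have hD : (S * (Bᵀ * G * B)).det ≠ 0 := by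
      rw [det_mul, det_mul, det_mul, det_transpose]
      exact mul_ne_zero hu.ne_zero (mul_ne_zero (mul_ne_zero hB.ne_zero hG) hB.ne_zero)
    obtain ⟨S₁, μ₁, a1, a2, a3, -, a4⟩ := reach_scale hS hu hRe hk hH 1 one_ne_zero
    rw [one_pow, one_mul] at a4
    refine ⟨B, _, hB, hD, ⟨S₁, μ₁, a1, a2, a3, a4⟩, fun c hc hsq => ?_⟩
    obtain ⟨r, hr⟩ := hsq
    have hr0 : r ≠ 0 := left_ne_zero_of_mul (hr ▸ mul_ne_zero hD hc)
    obtain ⟨S', μ', b1, b2, b3, b4, b5⟩ := reach_scale hS hu hRe hk hH r⁻¹ (inv_ne_zero hr0)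
    refine ⟨S', μ', b1, b2, b3, Or.inl ⟨b4, ?_⟩⟩
    rw [b5, mul_assoc, hr]
    field_simp
  obtain ⟨w, z, hP⟩ := exists_pair hR
  by_cases hx : ∃ x, x ⬝ᵥ G *ᵥ x ≠ 0
  · obtain ⟨h, B, hB, hs⟩ := exists_shp k G hG hx
    obtain ⟨hu, hRe⟩ := mid_eq_of_sol (p := 0) (q := 2 * h + 1) hP
      (S := pathS h k (w ⬝ᵥ A *ᵥ w) (z ⬝ᵥ A *ᵥ z) (w ⬝ᵥ gB A *ᵥ z))
      (fun a c ξ he => (pathS_sol hs.1 he).2)
    exact fin B hB _ _ (alt_pathS A hs.1 w z) hu hRe (hess_path hs _ _ _)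
  push Not at hx
  obtain ⟨m, B, hm, hB, hA, -⟩ := exists_anti G hG hx
  have hev : Even k := ⟨m, by omega⟩
  by_cases hw : ∃ x : β → F, x ⬝ᵥ A *ᵥ x ≠ 0
  · -- make the first parameter anisotropic
    obtain ⟨w, z, hP, hqw⟩ : ∃ w z, Pair A k R w z ∧ w ⬝ᵥ A *ᵥ w ≠ 0 := by
      rcases hP with ⟨hk', hrest⟩ | ⟨-, -, -, h1⟩ | hP'
      · exact absurd hev (Nat.not_even_iff_odd.2 hk')
      · obtain ⟨x, hx'⟩ := hw
        exact ⟨x, _, Or.inr (Or.inr ⟨hev, x, hx', hx', rfl, by rw [h1, midRefl_mul_self A hx']⟩), hx'⟩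
      · exact ⟨w, z, Or.inr (Or.inr hP'), hP'.2.choose_spec.1⟩
    obtain ⟨hu, hRe⟩ := mid_eq_of_sol (p := m) (q := 0) hP
      (S := loopS m k (w ⬝ᵥ A *ᵥ w) (z ⬝ᵥ A *ᵥ z) (w ⬝ᵥ gB A *ᵥ z))
      (fun a c ξ he => ⟨fun ho => absurd hev (Nat.not_even_iff_odd.2 ho), fun _ => (loopS_sol (by omega) hm he).1,
        fun _ _ => (loopS_sol (by omega) hm he).2⟩)
    exact fin B hB _ _ (alt_loopS A (by omega) hm w z) hu hRe (hess_loop (by omega) hm hA hqw _ _)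
  push Not at hw
  have hR1 : R = 1 := by
    rcases hP with ⟨-, -, h, -⟩ | ⟨-, -, -, h⟩ | ⟨-, u, h, -⟩
    exacts [absurd (hw w) h, h, absurd (hw w) h]
  obtain ⟨G', hG'⟩ : ∃ G', G' = Bᵀ * G * B := ⟨_, rfl⟩
  have hG'u : IsUnit G'.det := by
    rw [hG', det_mul, det_mul, det_transpose]
    exact (hB.mul (isUnit_iff_ne_zero.2 hG)).mul hB
  have h0 : Alt G' := fun v => by rw [hG', form_congr]; exact hx _
  have h1 := h0.conj G'⁻¹
  rw [Matrix.mul_assoc, mul_nonsing_inv _ hG'u, Matrix.mul_one] at h1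
  have hone := nonsing_inv_mul _ hG'u
  have halt : Alt (G'⁻¹ + (0 : Matrix β (Fin k) F)ᵀ * A * (0 : Matrix β (Fin k) F)) := by simpa using alt_transpose.1 h1
  have hR' : 1 + (0 : Matrix β (Fin k) F) * (G'⁻¹)⁻¹ * ((0 : Matrix β (Fin k) F)ᵀ * gB A) = R := by
    rw [hR1]; simp
  refine ⟨B, 1, hB, one_ne_zero, ⟨G'⁻¹, 0, halt, isUnit_nonsing_inv_det _ hG'u, hR', ?_⟩,
    fun c _ _ => ⟨G'⁻¹, 0, halt, isUnit_nonsing_inv_det _ hG'u, hR', Or.inr ⟨?_, hw⟩⟩⟩
  · show (G'⁻¹ * (Bᵀ * G * B)).det = 1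
    rw [← hG', hone, det_one]
  · rw [← hG', hone]

end CfsgLib.OmegaEvenComm
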