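import Cfsg.Agent.Lib.Classical.OmegaEvenComm.Small

/-!
# Shapes of a nondegenerate bilinear form

In every characteristic an invertible `G` that is not alternating is congruent to a matrix made of an
antidiagonal block around one anisotropic vector, followed by upper triangular columns.
-/

set_option autoImplicit false
set_option linter.unusedSectionVars false
set_option linter.unusedSimpArgs false

namespace CfsgLib.OmegaEvenComm

open Matrix
open CfsgLib.OmegaComm (exists_split exists_anti form_congr)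

variable {F : Type*} [Field F] {k : ℕ}

/-- An antidiagonal of length `2 * h + 1` with a lower tail in the middle column, then upper triangular. -/
def Shp (h : ℕ) (G : Matrix (Fin k) (Fin k) F) : Prop :=
  2 * h < k ∧ ∀ i j : Fin k,
    ((j : ℕ) ≠ h → (j : ℕ) ≤ 2 * h → ((i : ℕ) + j ≠ 2 * h → G i j = 0) ∧ ((i : ℕ) + j = 2 * h → G i j ≠ 0)) ∧
    ((j : ℕ) = h → ((i : ℕ) < h ∨ 2 * h < i → G i j = 0) ∧ ((i : ℕ) = h → G i j ≠ 0)) ∧
    (2 * h < (j : ℕ) → ((j : ℕ) < i → G i j = 0) ∧ ((i : ℕ) = j → G i j ≠ 0))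

/-- Within each antidiagonal pair the first vector can be moved into a given hyperplane. -/
theorem exists_anti_kill {n : ℕ} {H : Matrix (Fin n) (Fin n) F} (hH : H.det ≠ 0) (halt : ∀ x, x ⬝ᵥ H *ᵥ x = 0)
    (c : Fin n → F) : ∃ (m : ℕ) (B : Matrix (Fin n) (Fin n) F), n = 2 * m ∧ IsUnit B.det ∧
      (∀ i j : Fin n, ((i : ℕ) + j + 1 ≠ n → (Bᵀ * H * B) i j = 0) ∧ ((i : ℕ) + j + 1 = n → (Bᵀ * H * B) i j ≠ 0)) ∧
      ∀ i : Fin n, (i : ℕ) < m → (c ᵥ* B) i = 0 := by
  classical
  obtain ⟨m, B₀, rfl, hB₀, hA, -⟩ := exists_anti H hH halt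
  obtain ⟨f, hf⟩ : ∃ f, f = c ᵥ* B₀ := ⟨_, rfl⟩
  -- the pairwise change
  obtain ⟨R, hR⟩ : ∃ R : Matrix (Fin (2 * m)) (Fin (2 * m)) F, R = Matrix.of fun (l j : Fin (2 * m)) =>
      if f (if (j : ℕ) < m then j else Fin.rev j) = 0 then (if l = j then 1 else 0)
      else if (j : ℕ) < m then (if l = j then f (Fin.rev j) else if l = Fin.rev j then -f j else 0)
      else if l = Fin.rev j then 1 else 0 := ⟨_, rfl⟩
  have hsupp : ∀ l j : Fin (2 * m), l ≠ j → l ≠ Fin.rev j → R l j = 0 := fun l j h1 h2 => by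
    simp [hR, h1, h2]
  have hrev : ∀ j : Fin (2 * m), ((Fin.rev j : Fin (2 * m)) : ℕ) + j + 1 = 2 * m := fun j => by
    rw [Fin.val_rev]; omega
  obtain ⟨H₁, hH₁⟩ : ∃ H₁, H₁ = B₀ᵀ * H * B₀ := ⟨_, rfl⟩
  rw [← hH₁] at hA
  have halt₁ : ∀ x, x ⬝ᵥ H₁ *ᵥ x = 0 := fun x => by rw [hH₁, form_congr]; exact halt _
  have hne : ∀ i : Fin (2 * m), H₁ i (Fin.rev i) ≠ 0 := fun i => (hA _ _).2 (by have := hrev i; omega)
  have hval : ∀ i j, (Rᵀ * H₁ * R) i j = ∑ l, R l i * (H₁ l (Fin.rev l) * R (Fin.rev l) j) := fun i j => by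
    rw [Matrix.mul_assoc, Matrix.mul_apply]
    refine Finset.sum_congr rfl fun l _ => ?_
    rw [transpose_apply, Matrix.mul_apply, Finset.sum_eq_single (Fin.rev l)]
    · intro l' _ hl'
      rw [(hA l l').1 (fun e => hl' (Fin.ext (by rw [Fin.val_rev]; omega))), zero_mul]
    · simp
  have hskew : ∀ i j, H₁ j i = -H₁ i j := fun i j => by
    have := congrFun (congrFun (alt_iff.1 halt₁).1 i) j
    simpa using this
  refine ⟨m, B₀ * R, rfl, ?_, fun i j => ?_, fun i hi => ?_⟩
  · rw [det_mul]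
    refine hB₀.mul (isUnit_iff_ne_zero.2 fun h0 => ?_)
    obtain ⟨v, hv0, hv⟩ := Matrix.exists_mulVec_eq_zero_iff.2 h0
    refine hv0 (funext fun j => ?_)
    have hrow : ∀ l : Fin (2 * m), R l l * v l + R l (Fin.rev l) * v (Fin.rev l) = 0 := fun l => by
      have e := congrFun hv l
      have hlr : l ≠ Fin.rev l := fun e' => by have := hrev l; rw [← e'] at this; omega
      rw [mulVec, dotProduct, ← Finset.add_sum_erase _ _ (Finset.mem_univ l),
        ← Finset.add_sum_erase _ _ (Finset.mem_erase.2 ⟨hlr.symm, Finset.mem_univ _⟩), Finset.sum_eq_zero] at e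
      · simpa using e
      · intro x hx
        simp only [Finset.mem_erase] at hx
        rw [hsupp l x (fun e' => hx.2.1 e'.symm) (fun e' => hx.1 (by rw [e', Fin.rev_rev])), zero_mul]
    have key : ∀ p : Fin (2 * m), (p : ℕ) < m → v p = 0 ∧ v (Fin.rev p) = 0 := by
      intro p hp
      have h1 := hrow p
      have h2 := hrow (Fin.rev p)
      have hp' : ¬ ((Fin.rev p : Fin (2 * m)) : ℕ) < m := by have := hrev p; omega
      have hne' : p ≠ Fin.rev p := fun e => hp' (by rw [← e]; exact hp)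
      rw [Fin.rev_rev] at h2
      simp only [hR, of_apply, if_pos hp, if_neg hp', Fin.rev_rev, if_true, if_neg hne', if_neg hne'.symm] at h1 h2
      by_cases h0 : f p = 0
      · simp [h0] at h1 h2
        exact ⟨h1, h2⟩
      · simp [h0] at h1 h2
        refine ⟨h2, ?_⟩
        simpa [h2] using h1
    by_cases hj : (j : ℕ) < m
    · exact (key j hj).1
    · have := (key (Fin.rev j) (by have := hrev j; omega)).2
      rwa [Fin.rev_rev] at this
  · rw [show (B₀ * R)ᵀ * H * (B₀ * R) = Rᵀ * H₁ * R by rw [hH₁, transpose_mul]; simp only [Matrix.mul_assoc], hval]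
    refine ⟨fun h => ?_, fun h => ?_⟩
    · -- outside the antidiagonal
      rcases eq_or_ne i j with rfl | hij
      · rw [← hval]
        have e := (Alt.conj halt₁ R : Alt (Rᵀ * H₁ * R))
        exact (alt_iff.1 e).2 i
      refine Finset.sum_eq_zero fun l _ => ?_
      have hji : j ≠ Fin.rev i := fun e => h (by rw [e]; have := hrev i; omega)
      by_cases hl : l = i ∨ l = Fin.rev i
      · rcases hl with rfl | rfl
        · rw [hsupp (Fin.rev l) j (fun e => hji e.symm) (fun e => hij (Fin.rev_injective e)), mul_zero, mul_zero]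
        · rw [Fin.rev_rev, hsupp i j hij (fun e => hji (by rw [e, Fin.rev_rev])), mul_zero, mul_zero]
      · push Not at hl
        rw [hsupp l i hl.1 hl.2, zero_mul]
    · obtain rfl : j = Fin.rev i := Fin.ext (by have := hrev i; omega)
      have hir : i ≠ Fin.rev i := fun e => by have := hrev i; rw [← e] at this; omega
      rw [← Finset.add_sum_erase _ _ (Finset.mem_univ i),
        ← Finset.add_sum_erase _ _ (Finset.mem_erase.2 ⟨hir.symm, Finset.mem_univ _⟩), Finset.sum_eq_zero]
      swap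
      · intro x hx
        simp only [Finset.mem_erase] at hx
        rw [hsupp x i hx.2.1 hx.1, zero_mul]
      rw [Fin.rev_rev, add_zero, hskew i (Fin.rev i)]
      have hir' := hir.symm
      by_cases hp : (i : ℕ) < m
      · have hp' : ¬ ((Fin.rev i : Fin (2 * m)) : ℕ) < m := by have := hrev i; omega
        simp only [hR, of_apply, if_pos hp, if_neg hp', Fin.rev_rev, if_true, if_neg hir, if_neg hir']
        by_cases h0 : f i = 0
        · simp [h0, hne i]
        · simp [h0, hne i]
      · have hp' : ((Fin.rev i : Fin (2 * m)) : ℕ) < m := by have := hrev i; omega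
        simp only [hR, of_apply, if_pos hp', if_neg hp, Fin.rev_rev, if_true, if_neg hir, if_neg hir']
        by_cases h0 : f (Fin.rev i) = 0
        · simp [h0, hne i]
        · simp [h0, hne i]
  · rw [← vecMul_vecMul, ← hf]
    have hi' : ¬ ((Fin.rev i : Fin (2 * m)) : ℕ) < m := by have := hrev i; omega
    have hne' : i ≠ Fin.rev i := fun e => hi' (by rw [← e]; exact hi)
    rw [vecMul, dotProduct, ← Finset.add_sum_erase _ _ (Finset.mem_univ i),
      ← Finset.add_sum_erase _ _ (Finset.mem_erase.2 ⟨hne'.symm, Finset.mem_univ _⟩), Finset.sum_eq_zero]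
    · simp only [hR, of_apply, if_pos hi, if_true, if_neg hne'.symm]
      by_cases h0 : f i = 0
      · simp [h0]
      · simp [h0]; ring
    · intro x hx
      simp only [Finset.mem_erase] at hx
      rw [hsupp x i hx.2.1 hx.1, mul_zero]

/-- The change of basis placing the first vector at a given position. -/
theorem exists_place {G : Matrix (Fin (k + 1)) (Fin (k + 1)) F} (B : Matrix (Fin k) (Fin k) F) (hB : IsUnit B.det)
    (p : Fin (k + 1)) (hG : ∀ i : Fin k, G 0 i.succ = 0) :
    ∃ C : Matrix (Fin (k + 1)) (Fin (k + 1)) F, IsUnit C.det ∧ (Cᵀ * G * C) p p = G 0 0 ∧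
      (∀ j, (Cᵀ * G * C) p (p.succAbove j) = 0) ∧
      (∀ i, (Cᵀ * G * C) (p.succAbove i) p = ((fun l : Fin k => G l.succ 0) ᵥ* B) i) ∧
      ∀ i j, (Cᵀ * G * C) (p.succAbove i) (p.succAbove j) = (Bᵀ * G.submatrix Fin.succ Fin.succ * B) i j := by
  classical
  obtain ⟨C₀, hC₀⟩ : ∃ C₀ : Matrix (Fin (k + 1)) (Fin (k + 1)) F,
      C₀ = Matrix.of (Fin.cons (Fin.cons 1 0) fun i => Fin.cons 0 (B i)) := ⟨_, rfl⟩
  obtain ⟨σ, hσ⟩ : ∃ σ : Fin (k + 1) ≃ Fin (k + 1), σ = (finSuccEquiv' p).trans (finSuccEquiv k).symm := ⟨_, rfl⟩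
  have hσp : σ p = 0 := by simp [hσ]
  have hσs : ∀ i, σ (p.succAbove i) = i.succ := fun i => by simp [hσ]
  refine ⟨C₀.submatrix id σ, ?_, ?_⟩
  · rw [det_permute']
    refine ((Units.isUnit _).map (Int.castRingHom F)).mul ?_
    have : C₀.det = B.det := by
      rw [det_succ_row_zero, Fin.sum_univ_succ]
      simp [hC₀, Fin.succAbove_zero]
      rfl
    rw [this]; exact hB
  have e : (C₀.submatrix id σ)ᵀ * G * C₀.submatrix id σ = (C₀ᵀ * G * C₀).submatrix σ σ := by
    ext i j
    simp [Matrix.mul_apply]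
  rw [e]
  refine ⟨?_, fun j => ?_, fun i => ?_, fun i j => ?_⟩ <;> simp only [submatrix_apply, hσp, hσs]
  · simp [Matrix.mul_apply, Fin.sum_univ_succ, hC₀]
  · simp [Matrix.mul_apply, Fin.sum_univ_succ, hC₀, hG]
  · simp [Matrix.mul_apply, Fin.sum_univ_succ, hC₀, vecMul, dotProduct, mul_comm]
  · simp [Matrix.mul_apply, Fin.sum_univ_succ, hC₀]

/-- An invertible form that is not alternating. -/
theorem exists_shp : ∀ (k : ℕ) (G : Matrix (Fin k) (Fin k) F), G.det ≠ 0 → (∃ x, x ⬝ᵥ G *ᵥ x ≠ 0) →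
    ∃ (h : ℕ) (B : Matrix (Fin k) (Fin k) F), IsUnit B.det ∧ Shp h (Bᵀ * G * B) := by
  intro k
  induction k with
  | zero =>
    rintro G - ⟨x, hx⟩
    exact absurd (by simp [dotProduct]) hx
  | succ k ih =>
    intro G hG hx
    obtain ⟨x, hx⟩ := hx
    obtain ⟨B, hB, hBx, hcol⟩ := exists_split (G := Gᵀ) (v := x) (by rwa [dot_transpose])
    obtain ⟨G', hG'⟩ : ∃ G', G' = Bᵀ * G * B := ⟨_, rfl⟩
    have hrow : ∀ i : Fin k, G' 0 i.succ = 0 := fun i => by
      rw [← hcol i, hG', show Bᵀ * Gᵀ * B = (Bᵀ * G * B)ᵀ by simp [Matrix.mul_assoc], transpose_apply]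
    have h00 : G' 0 0 ≠ 0 := by
      have : G' 0 0 = x ⬝ᵥ G *ᵥ x := by
        rw [← hBx, ← form_congr, hG']
        simp
      rw [this]; exact hx
    have hG'd : G'.det ≠ 0 := by
      rw [hG', det_mul, det_mul, det_transpose]
      exact mul_ne_zero (mul_ne_zero hB.ne_zero hG) hB.ne_zero
    obtain ⟨H, hH⟩ : ∃ H : Matrix (Fin k) (Fin k) F, H = G'.submatrix Fin.succ Fin.succ := ⟨_, rfl⟩
    have hHd : H.det ≠ 0 := fun h0 => by
      refine hG'd ?_
      rw [det_succ_row_zero, Finset.sum_eq_single (0 : Fin (k + 1))]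
      · simp [Fin.succAbove_zero, ← hH, h0]
      · intro i _ hi
        obtain ⟨i, rfl⟩ := Fin.exists_succ_eq.2 hi
        simp [hrow i]
      · simp
    suffices H : ∃ (h : ℕ) (C : Matrix (Fin (k + 1)) (Fin (k + 1)) F), IsUnit C.det ∧ Shp h (Cᵀ * G' * C) by
      obtain ⟨h, C, hC, hs⟩ := H
      refine ⟨h, B * C, by rw [det_mul]; exact hB.mul hC, ?_⟩
      rw [show (B * C)ᵀ * G * (B * C) = Cᵀ * G' * C by rw [hG', transpose_mul]; simp only [Matrix.mul_assoc]]
      exact hs
    by_cases hn : ∃ y, y ⬝ᵥ H *ᵥ y ≠ 0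
    · obtain ⟨h, B₂, hB₂, hk, hs⟩ := ih H hHd hn
      obtain ⟨C, hC, e00, e0, -, eH⟩ := exists_place B₂ hB₂ (Fin.last k) hrow
      simp only [Fin.succAbove_last, ← hH] at e0 eH
      refine ⟨h, C, hC, by omega, fun i j => ?_⟩
      induction j using Fin.lastCases with
      | last =>
        refine ⟨fun _ h2 => absurd h2 (by simp only [Fin.val_last]; omega), fun h1 => absurd h1 (by simp only [Fin.val_last]; omega),
          fun _ => ⟨fun h1 => absurd h1 (by simp only [Fin.val_last]; omega), fun h1 => ?_⟩⟩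
        rw [show i = Fin.last k from Fin.ext h1, e00]
        exact h00
      | cast j =>
        induction i using Fin.lastCases with
        | last =>
          rw [e0]
          simp only [Fin.val_last, Fin.val_castSucc]
          refine ⟨fun _ _ => ⟨fun _ => trivial, fun h1 => ?_⟩, fun _ => ⟨fun _ => trivial, fun h1 => ?_⟩,
            fun _ => ⟨fun _ => trivial, fun h1 => ?_⟩⟩ <;> omega
        | cast i =>
          rw [eH]
          simpa only [Fin.val_castSucc] using hs i j
    · push Not at hn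
      obtain ⟨m, B₂, rfl, hB₂, hA, hkill⟩ := exists_anti_kill hHd hn (fun l => G' l.succ 0)
      obtain ⟨C, hC, e00, e0, ec, eH⟩ := exists_place B₂ hB₂ ⟨m, by omega⟩ hrow
      rw [← hH] at eH
      refine ⟨m, C, hC, by omega, fun i j => ?_⟩
      have hv : ∀ q : Fin (2 * m), ((Fin.succAbove (⟨m, by omega⟩ : Fin (2 * m + 1)) q : Fin (2 * m + 1)) : ℕ) =
          if (q : ℕ) < m then (q : ℕ) else (q : ℕ) + 1 := fun q => by
        simp only [Fin.succAbove, Fin.lt_def, Fin.val_castSucc]
        split_ifs <;> simp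
      induction j using (⟨m, by omega⟩ : Fin (2 * m + 1)).succAboveCases with
      | x =>
        refine ⟨fun h1 => absurd rfl h1, fun _ => ⟨fun h1 => ?_, fun h1 => ?_⟩, fun h1 => absurd h1 (by dsimp only; omega)⟩
        · induction i using (⟨m, by omega⟩ : Fin (2 * m + 1)).succAboveCases with
          | x => rcases h1 with h1 | h1 <;> (dsimp only at h1; omega)
          | p i =>
            rw [ec]
            rw [hv] at h1
            split_ifs at h1 with hi
            · exact hkill i hi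
            · omega
        · rw [show i = ⟨m, by omega⟩ from Fin.ext h1, e00]
          exact h00
      | p j =>
        have hj : ((Fin.succAbove (⟨m, by omega⟩ : Fin (2 * m + 1)) j : Fin (2 * m + 1)) : ℕ) ≠ m := by
          rw [hv]; split_ifs <;> omega
        refine ⟨fun _ _ => ?_, fun h1 => absurd h1 hj, fun h1 => absurd h1 (by omega)⟩
        induction i using (⟨m, by omega⟩ : Fin (2 * m + 1)).succAboveCases with
        | x =>
          rw [e0]
          refine ⟨fun _ => rfl, fun h1 => ?_⟩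
          exfalso
          simp only at h1
          omega
        | p i =>
          rw [eH]
          refine ⟨fun h1 => (hA i j).1 fun h2 => h1 ?_, fun h1 => (hA i j).2 ?_⟩
          · rw [hv, hv]; split_ifs <;> omega
          · rw [hv, hv] at h1
            split_ifs at h1 <;> omega

end CfsgLib.OmegaEvenComm
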