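import Cfsg.Agent.Lib.Classical.OmegaEvenComm.Scalar

/-!
# Every element of the commutator subgroup of an even dimensional orthogonal group is a commutator
-/

set_option autoImplicit false
set_option linter.unusedSectionVars false
set_option linter.unusedSimpArgs false

namespace CfsgLib.OmegaEvenComm

open Matrix CfsgLib.SUComm CfsgLib.Classical CfsgLib.Classical.Spin

variable {F : Type*} [Field F] [Fintype F] {α α' β : Type} [Fintype α] [DecidableEq α] [Fintype α'] [DecidableEq α']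
  [Fintype β] [DecidableEq β] {A : Matrix β β F}

theorem renG_symm (hA : IsUnit (gB A).det) (σ : α' ≃ α) (g : Grp A α') : renG hA σ (renG hA σ.symm g) = g := by
  refine toM_injective ?_
  rw [toM_renG, toM_renG, submatrix_submatrix]
  ext i j
  rcases i with i | i | i <;> rcases j with j | j | j <;> simp [renE]

theorem IsMax.ren (hA : IsUnit (gB A).det) (σ : α' ≃ α) {g : Grp A α} (h : IsMax g) : IsMax (renG hA σ g) := by
  intro x
  rw [← renG_symm hA σ x, ← map_inv, ← map_mul, ← map_mul, toM_renG, toM_renG, gblk_submatrix_ren,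
    gblk_submatrix_ren, rank_submatrix, rank_submatrix]
  exact h _

theorem toM_renG_scalar (hA : IsUnit (gB A).det) (σ : α' ≃ α) {g : Grp A α} {l : F} (e : toM g = l • 1) :
    toM (renG hA σ g) = l • 1 := by
  rw [toM_renG, e, ← submatrix_one_equiv (α := F) (renE σ β)]
  rfl

/-- A maximal conjugate, in the coordinates of its rank. -/
theorem exists_split_max (hA : IsUnit (gB A).det) {n : ℕ} {g : Grp A (Fin n)} (hg : g ∈ commutator (Grp A (Fin n))) :
    (∃ g' : Grp A (Fin n), g' ∈ commutator (Grp A (Fin n)) ∧ IsUnit (gblk (toM g')).det ∧ (IsC g' → IsC g)) ∨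
    ∃ (k r : ℕ) (g' : Grp A (Fin k ⊕ Fin r)), n = k + r ∧ 0 < r ∧ g' ∈ commutator (Grp A (Fin k ⊕ Fin r)) ∧
      IsMax g' ∧ (gblk (toM g')).rank = k ∧ (IsC g' → IsC g) := by
  obtain ⟨x, hx⟩ := exists_isMax g
  obtain ⟨g₁, hg₁⟩ : ∃ g₁, g₁ = x * g * x⁻¹ := ⟨_, rfl⟩
  have hm : g₁ ∈ commutator (Grp A (Fin n)) := hg₁ ▸ Subgroup.Normal.conj_mem inferInstance g hg x
  rw [← hg₁] at hx
  have back : IsC g₁ → IsC g := fun h => IsC.of_conj (z := x) (hg₁ ▸ h)
  have hkn : (gblk (toM g₁)).rank ≤ n := (Matrix.rank_le_card_width _).trans (by simp)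
  obtain ⟨k, hk⟩ : ∃ k, (gblk (toM g₁)).rank = k := ⟨_, rfl⟩
  rw [hk] at hkn
  rcases Nat.eq_or_lt_of_le hkn with rfl | hlt
  · exact Or.inl ⟨g₁, hm, isUnit_det_of_rank hk, back⟩
  obtain ⟨r, rfl⟩ : ∃ r, n = k + r := ⟨n - k, by omega⟩
  refine Or.inr ⟨k, r, renG hA finSumFinEquiv g₁, rfl, by omega, map_commutator_mem _ hm, hx.ren hA _, ?_,
    fun h => back (IsC.of_ren hA _ h)⟩
  rw [toM_renG, gblk_submatrix_ren, rank_submatrix, hk]

/-- The case of a kernel of dimension at least two, up to a scalar. -/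
theorem exists_scalar_shape (hA : IsUnit (gB A).det) (han : Aniso A) {k r : ℕ} (hr : 2 ≤ r)
    {g : Grp A (Fin k ⊕ Fin r)} (hmax : IsMax g) (hrk : (gblk (toM g)).rank = k)
    (hg : g ∈ commutator (Grp A (Fin k ⊕ Fin r))) :
    ∃ (g₂ : Grp A (Fin k ⊕ Fin r)) (g₀ : Grp A (Fin k)) (l : F), l * l = 1 ∧
      g₂ ∈ commutator (Grp A (Fin k ⊕ Fin r)) ∧ (k = 0 → toM g₂ = l • 1) ∧
      toM g₂ = emb (toM g₀) (l • (1 : Matrix (Fin r) (Fin r) F)) (l • 1) ∧
      IsUnit (gblk (toM g₀)).det ∧ (IsC g₂ → IsC g) := by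
  have hcard : Fintype.card (Fin k ⊕ Fin r) = k + r := by simp
  obtain ⟨l, hl⟩ := max_scalar hA han hmax (by rw [hrk, hcard]; omega)
  obtain ⟨B, hB, had⟩ := exists_adapted hA han hrk hl
  obtain ⟨z, hz⟩ : ∃ z, z = mkG hA (lev B⁻¹ 1) := ⟨_, rfl⟩
  rw [← hz] at had
  have hr1 : (gblk (toM (z * g * z⁻¹))).rank = (gblk (toM g)).rank := hz ▸ rank_conj_lev hA hB g
  have hmax₁ := hmax.of_conj z hr1
  obtain ⟨U, g₀, hll, he, hG⟩ := exists_emb hA han hmax₁ hr had
  refine ⟨_, g₀, l, hll, Subgroup.Normal.conj_mem inferInstance _ (Subgroup.Normal.conj_mem inferInstance g hg z) U,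
    fun hk => ?_, he, hG, fun h => IsC.of_conj (z := z) (IsC.of_conj (z := U) h)⟩
  subst hk
  refine eq_smul_of_zero hA han (by omega) (hmax₁.of_conj U ?_) he hll
  rw [hr1, hrk, he, (parts_emb _ _ _).1, Subsingleton.elim (gblk (toM g₀)) 0, fromBlocks_zero, Matrix.rank_zero]

theorem emb_parts_shape {k r : ℕ} {g : Grp A (Fin k ⊕ Fin r)} {g₀ : Grp A (Fin k)} {R R' : Matrix (Fin r) (Fin r) F}
    (e : toM g = emb (toM g₀) R R') :
    gblk (toM g) = fromBlocks (gblk (toM g₀)) 0 0 0 ∧ corner (toM g) = fromBlocks (corner (toM g₀)) 0 0 R := by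
  rw [e]
  exact ⟨(parts_emb _ _ _).1, (parts_emb _ _ _).2.1⟩

/-! ### Plus type -/

theorem isC_neg_plus [IsEmpty β] (hA : IsUnit (gB A).det) (h2 : (2 : F) ≠ 0) {n : ℕ} (hn : 4 ≤ n) {g : Grp A (Fin n)}
    (e : toM g = (-1 : F) • 1) (hg : g ∈ commutator (Grp A (Fin n))) : IsC g := by
  rcases Nat.even_or_odd n with he | ⟨m, rfl⟩
  · exact isC_neg_even hA h2 (by omega) he e
  obtain ⟨D, θ, hΩ, hlev, -⟩ := exists_cls (α := Fin (2 * m + 1)) hA (by simp; omega)
  have hsq : IsSquare (-1 : F) := by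
    have hu : IsUnit ((-1 : F) • (1 : Matrix (Fin (2 * m + 1)) (Fin (2 * m + 1)) F)).det := by
      rw [det_smul, det_one, mul_one]; exact isUnit_one.neg.pow _
    have hi : ((-1 : F) • (1 : Matrix (Fin (2 * m + 1)) (Fin (2 * m + 1)) F))⁻¹ = (-1 : F) • 1 :=
      inv_eq_right_inv (by simp [smul_smul])
    have hgl : g = mkG hA (lev ((-1 : F) • (1 : Matrix (Fin (2 * m + 1)) (Fin (2 * m + 1)) F)) 1) :=
      toM_injective (by
        rw [toM_mkG hA (isom_lev hu (midIso_one A)), e, lev, hi]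
        ext (i | i | i) (j | j | j) <;>
          first | exact isEmptyElim i | exact isEmptyElim j | (simp [blk, Matrix.one_apply] <;> split_ifs <;> simp))
    have h := ((hΩ g).1 hg).2
    rw [hgl, (hlev _ hu).2, sqSign_eq_one] at h
    rw [det_smul, det_one, mul_one, Fintype.card_fin, Odd.neg_one_pow ⟨m, rfl⟩] at h
    exact h
  obtain ⟨i, hi⟩ := hsq
  refine IsC.of_hyp hA finSumFinEquiv (α' := Fin (2 * m)) ?_
  refine isC_neg_mid isUnit_gB_hypA h2 (by omega) ⟨m, by omega⟩ (w := ![1, 1]) (z := ![i, -i]) ?_ ?_ ?_ ?_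
  · rw [hypA_quad]; simp
  · rw [hypA_quad, hypA_quad]; simp; linear_combination hi
  · simp [gB, hypA, mulVec, dotProduct, Fin.sum_univ_two]
  · rw [toM_hypG, e, ← submatrix_one_equiv (α := F) (hypE (β := β) finSumFinEquiv)]
    rfl

/-- Plus type. -/
theorem isC_plus [IsEmpty β] (hA : IsUnit (gB A).det) {n : ℕ} (hn : 4 ≤ n) {g : Grp A (Fin n)}
    (hg : g ∈ commutator (Grp A (Fin n))) : IsC g := by
  have han : Aniso A := fun w _ => Subsingleton.elim _ _
  rcases exists_split_max hA hg with ⟨g', hg', hu, back⟩ | ⟨k, r, g', rfl, hr, hg', hmax, hrk, back⟩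
  · refine back (isC_full hA cls2_of_isEmpty two_of_isEmpty (by omega) (Or.inr ?_) hu hg')
    refine even_of_shape (r := 0) (g := renG hA (Equiv.sumEmpty (Fin n) (Fin 0)) g') (G := gblk (toM g')) (u := 0)
      (a := corner (toM g')) (b := 0) (c := 0) (d := 1) hA (by omega) (map_commutator_mem _ hg') ?_ ?_ hu (by simp)
    · rw [toM_renG, gblk_submatrix_ren]
      ext (i | i) (j | j)
      · simp
      all_goals first | exact i.elim0 | exact j.elim0
    · rw [toM_renG, corner_submatrix_ren]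
      ext (i | i) (j | j)
      · simp
      all_goals first | exact i.elim0 | exact j.elim0
  refine back ?_
  rcases Nat.lt_or_ge r 2 with hr1 | hr2
  · obtain rfl : r = 1 := by omega
    rcases eq_or_ne (Fintype.card F) 2 with hF | hF
    · exact isC_one_two hA hF (by omega) (by omega) hrk hg'
    · exact isC_one_hyp hA hF (by omega) hrk hg'
  obtain ⟨g₂, g₀, l, hll, hg₂, hk0, he, hG, back₂⟩ := exists_scalar_shape hA han hr2 hmax hrk hg'
  refine back₂ ?_
  rcases Nat.eq_zero_or_pos k with rfl | hk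
  · rcases mul_self_eq_one_iff.1 hll with rfl | rfl
    · rw [show g₂ = 1 from toM_injective (by rw [hk0 rfl, one_smul, toM_one])]
      exact IsC.one
    rcases eq_or_ne (2 : F) 0 with h2 | h2
    · rw [show g₂ = 1 from toM_injective (by
        rw [hk0 rfl, show (-1 : F) = 1 by linear_combination -h2, one_smul, toM_one])]
      exact IsC.one
    · refine IsC.of_ren hA finSumFinEquiv.symm ?_
      exact isC_neg_plus hA h2 hn (toM_renG_scalar hA _ (hk0 rfl)) (map_commutator_mem _ hg₂)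
  obtain ⟨h1, h3⟩ := emb_parts_shape he
  have hev : Even k := even_of_shape hA (by omega) hg₂ h1 h3 hG (by
    rw [det_smul, det_one, mul_one]
    exact isUnit_iff_ne_zero.2 (pow_ne_zero _ (left_ne_zero_of_mul_eq_one hll)))
  by_cases hx : l = 1 ∨ Even r ∨ ¬IsSquare (-1 : F)
  · exact isC_split hA cls2_of_isEmpty two_of_isEmpty odd2_of_isEmpty hk hr2 (Or.inr hev) hll (fun _ => hx) he hG hg₂
  · push Not at hx
    obtain ⟨hl1, hrodd, hsq⟩ := hx
    obtain rfl : l = -1 := (mul_self_eq_one_iff.1 hll).resolve_left hl1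
    have h2 : (2 : F) ≠ 0 := fun h => hl1 (by linear_combination -h)
    exact isC_split_hyp hA h2 hsq hk hr2 (Nat.not_even_iff_odd.1 hrodd) he hG hg₂

/-! ### Minus type -/

variable {a b : F}

theorem isC_neg_minus (h : ∀ x : F, x * x + a * x + b ≠ 0) (h2 : (2 : F) ≠ 0) {n : ℕ} (hn : 3 ≤ n)
    {g : Grp (elA a b) (Fin n)} (e : toM g = (-1 : F) • 1) (hg : g ∈ commutator (Grp (elA a b) (Fin n))) : IsC g := by
  have hA := isUnit_gB_elA h
  obtain ⟨c, hc⟩ : ∃ c, c = b - a / 2 * (a / 2) := ⟨_, rfl⟩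
  have hqw : (![1, 0] : Fin 2 → F) ⬝ᵥ elA a b *ᵥ ![1, 0] = 1 := by rw [elA_quad]; simp
  have hqz : (![-(a / 2), 1] : Fin 2 → F) ⬝ᵥ elA a b *ᵥ ![-(a / 2), 1] = c := by
    rw [elA_quad, hc]; simp; field_simp; ring
  have hc0 : c ≠ 0 := fun e => one_ne_zero (α := F) (congrFun (aniso_elA h _ (hqz.trans e)) 1)
  have hnc : ¬IsSquare (-c) := by
    rintro ⟨y, hy⟩
    refine h (y - a / 2) ?_
    have : a / 2 * 2 = a := div_mul_cancel₀ a h2
    linear_combination (y - a / 2) * (-1) * this - hy - hc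
  have ho : (![1, 0] : Fin 2 → F) ⬝ᵥ gB (elA a b) *ᵥ ![-(a / 2), 1] = 0 := by
    simp [gB, elA, mulVec, dotProduct, Fin.sum_univ_two]; field_simp; ring
  obtain ⟨D, θ, hΩ, hlev, hmid, -⟩ := exists_cls (α := Fin n) hA (by simpa using hn)
  have hw0 : (![1, 0] : Fin 2 → F) ⬝ᵥ elA a b *ᵥ ![1, 0] ≠ 0 := by rw [hqw]; exact one_ne_zero
  have hz0 : (![-(a / 2), 1] : Fin 2 → F) ⬝ᵥ elA a b *ᵥ ![-(a / 2), 1] ≠ 0 := by rw [hqz]; exact hc0
  obtain ⟨-, hrr⟩ := orth_pair h2 hw0 hz0 ho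
  have hu : IsUnit ((-1 : F) • (1 : Matrix (Fin n) (Fin n) F)).det := by
    rw [det_smul, det_one, mul_one]; exact isUnit_one.neg.pow _
  have hi : ((-1 : F) • (1 : Matrix (Fin n) (Fin n) F))⁻¹ = (-1 : F) • 1 := inv_eq_right_inv (by simp [smul_smul])
  have h1u : IsUnit (1 : Matrix (Fin n) (Fin n) F).det := by simp
  have hgl : g = mkG hA (lev ((-1 : F) • (1 : Matrix (Fin n) (Fin n) F)) 1) *
      (mkG hA (lev 1 (midRefl (elA a b) ![1, 0])) * mkG hA (lev 1 (midRefl (elA a b) ![-(a / 2), 1]))) :=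
    toM_injective (by
      rw [toM_mul, toM_mul, toM_mkG hA (isom_lev hu (midIso_one _)), toM_mkG hA (isom_lev h1u (midIso_midRefl _ hw0)),
        toM_mkG hA (isom_lev h1u (midIso_midRefl _ hz0)), lev_mul, lev_mul, e, Matrix.one_mul, Matrix.mul_one,
        Matrix.one_mul, hrr, lev, hi]
      ext (i | i | i) (j | j | j) <;> simp [blk, Matrix.one_apply] <;> split_ifs <;> simp)
  have hθ := ((hΩ g).1 hg).2
  rw [hgl, map_mul, map_mul, (hlev _ hu).2, (hmid _ hw0).2, (hmid _ hz0).2, hqw, hqz, sqSign_one, one_mul,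
    det_smul, det_one, mul_one, Fintype.card_fin] at hθ
  rcases Nat.even_or_odd n with he | ho'
  · rw [he.neg_one_pow, sqSign_one, one_mul, sqSign_eq_one] at hθ
    obtain ⟨r, hr⟩ := hθ
    have hr0 : r ≠ 0 := fun e => hc0 (by rw [hr, e, mul_zero])
    refine isC_neg_mid hA h2 (by obtain ⟨p, hp⟩ := he; omega) he (w := ![1, 0]) (z := r⁻¹ • ![-(a / 2), 1]) hw0 ?_ ?_ e
    · rw [mulVec_smul, dotProduct_smul, smul_dotProduct, hqz, hqw, hr, smul_eq_mul, smul_eq_mul]
      field_simp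
    · rw [mulVec_smul, dotProduct_smul, ho, smul_zero]
  · rw [ho'.neg_one_pow, ← sqSign_mul (neg_ne_zero.2 one_ne_zero) hc0, sqSign_eq_one, neg_one_mul] at hθ
    exact absurd hθ hnc

/-- Minus type. -/
theorem isC_minus (h : ∀ x : F, x * x + a * x + b ≠ 0) {n : ℕ} (hn : 3 ≤ n) {g : Grp (elA a b) (Fin n)}
    (hg : g ∈ commutator (Grp (elA a b) (Fin n))) : IsC g := by
  have hA := isUnit_gB_elA h
  have han := aniso_elA h
  have hc2 := cls2_of_aniso han
  have hT := two_elA h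
  have hev : ∀ k : ℕ, (∃ w : Fin 2 → F, w ⬝ᵥ elA a b *ᵥ w ≠ 0) ∨ Even k := fun _ =>
    Or.inl ⟨![1, 0], by rw [elA_quad]; simp⟩
  rcases exists_split_max hA hg with ⟨g', hg', hu, back⟩ | ⟨k, r, g', rfl, hr, hg', hmax, hrk, back⟩
  · exact back (isC_full hA hc2 hT hn (hev _) hu hg')
  refine back ?_
  rcases Nat.lt_or_ge r 2 with hr1 | hr2
  · obtain rfl : r = 1 := by omega
    obtain ⟨l, hl⟩ := max_eigen hA han hmax (by rw [hrk]; simp)
    obtain ⟨B, hB, had⟩ := exists_adapted hA han hrk hl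
    refine IsC.of_conj (z := mkG hA (lev B⁻¹ 1)) ?_
    refine isC_adapted hA hc2 hT (by omega) le_rfl hn (hev _) (Or.inr ?_) (fun hw => ?_) had
      (Subgroup.Normal.conj_mem inferInstance g' hg' _)
    · rintro rfl
      obtain ⟨G, a₁, a₂, d₁, -, h1, h3, h4⟩ := had
      have hy := eq_zero_of_blocks (mkG hA (lev B⁻¹ 1) * g' * (mkG hA (lev B⁻¹ 1))⁻¹)
        (y := (Pi.single (Sum.inr 0) 1 : Fin k ⊕ Fin 1 → F))
        (by rw [h3]; funext i; rcases i with i | i <;> simp)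
        (by rw [h4]; funext i; simp)
        (by rw [h1]; funext i; rcases i with i | i <;> simp)
      simpa using congrFun hy (Sum.inr 0)
    · exact absurd (hw ![1, 0]) (by rw [elA_quad]; simp)
  obtain ⟨g₂, g₀, l, hll, hg₂, hk0, he, hG, back₂⟩ := exists_scalar_shape hA han hr2 hmax hrk hg'
  refine back₂ ?_
  rcases Nat.eq_zero_or_pos k with rfl | hk
  · rcases mul_self_eq_one_iff.1 hll with rfl | rfl
    · rw [show g₂ = 1 from toM_injective (by rw [hk0 rfl, one_smul, toM_one])]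
      exact IsC.one
    rcases eq_or_ne (2 : F) 0 with h2 | h2
    · rw [show g₂ = 1 from toM_injective (by
        rw [hk0 rfl, show (-1 : F) = 1 by linear_combination -h2, one_smul, toM_one])]
      exact IsC.one
    · refine IsC.of_ren hA finSumFinEquiv.symm ?_
      exact isC_neg_minus h h2 hn (toM_renG_scalar hA _ (hk0 rfl)) (map_commutator_mem _ hg₂)
  exact isC_split hA hc2 hT (odd2_elA h) hk hr2 (hev _) hll
    (fun hw => absurd (hw ![1, 0]) (by rw [elA_quad]; simp)) he hG hg₂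

/-! ### The bridge -/

/-- Commutators transfer along an isometry of forms. -/
theorem exists_commutator_of_equiv (hC : ∀ {g : Grp A α}, g ∈ commutator (Grp A α) → IsC g) {ι : Type} [Fintype ι]
    [DecidableEq ι] (e : ι ≃ Idx α β) (f : (ι → F) → F) (hf : ∀ v, f v = qG A α (v ∘ e.symm))
    (g : Cfsg.Omega F f) : ∃ a b : Cfsg.Omega F f, g = a * b * a⁻¹ * b⁻¹ := by
  obtain ⟨Q, hQ⟩ : ∃ Q : QuadraticForm F (ι → F), Q = (qG A α).comp (LinearMap.funLeft F F e.symm) := ⟨_, rfl⟩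
  obtain rfl : f = ⇑Q := funext fun v => by rw [hf, hQ]; rfl
  let E : (ι → F) ≃ₗ[F] (Idx α β → F) := LinearEquiv.funCongrLeft F F e.symm
  let φ : Cfsg.isometryGroup F ⇑Q ≃* Grp A α :=
    ((isoEquiv Q).trans (qAutCongr E (Q' := qG A α) fun v => by rw [hQ]; rfl)).trans (isoEquiv (qG A α)).symm
  obtain ⟨x, hx, y, hy, he⟩ := hC (g := φ g.1) (map_commutator_mem φ.toMonoidHom g.2)
  refine ⟨⟨φ.symm x, map_commutator_mem φ.symm.toMonoidHom hx⟩, ⟨φ.symm y, map_commutator_mem φ.symm.toMonoidHom hy⟩,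
    Subtype.ext (φ.injective ?_)⟩
  simp only [Subgroup.coe_mul, Subgroup.coe_inv, map_mul, map_inv, MulEquiv.apply_symm_apply]
  exact he

/-- Plus type, in the coordinates of `quadFormPlus`. -/
theorem exists_commutator_plus {n : ℕ} (hn : 4 ≤ n) (g : Cfsg.Omega F (Cfsg.quadFormPlus n F)) :
    ∃ a b : Cfsg.Omega F (Cfsg.quadFormPlus n F), g = a * b * a⁻¹ * b⁻¹ := by
  refine exists_commutator_of_equiv (A := (0 : Matrix (Fin 0) (Fin 0) F)) (α := Fin n)
    (fun h => isC_plus (by rw [Matrix.det_isEmpty]; exact isUnit_one) hn h)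
    (Equiv.sumCongr (Equiv.refl _) (Equiv.emptySum (Fin 0) (Fin n)).symm) _ (fun v => ?_) g
  rw [← elim_parts (v ∘ _), qG_elim]
  simp [Cfsg.quadFormPlus, dotProduct]

/-- Minus type, in the coordinates of `quadFormMinus`. -/
theorem exists_commutator_minus {n : ℕ} (hn : 3 ≤ n) {a b : F}
    (hab : ∀ z₁ z₂ : F, z₁ ^ 2 + a * z₁ * z₂ + b * z₂ ^ 2 = 0 → z₁ = 0 ∧ z₂ = 0)
    (g : Cfsg.Omega F (Cfsg.quadFormMinus n F a b)) :
    ∃ x y : Cfsg.Omega F (Cfsg.quadFormMinus n F a b), g = x * y * x⁻¹ * y⁻¹ := by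
  have h : ∀ x : F, x * x + a * x + b ≠ 0 := fun x e => one_ne_zero (α := F) (hab x 1 (by linear_combination e)).2
  refine exists_commutator_of_equiv (A := elA a b) (α := Fin n) (fun h' => isC_minus h hn h')
    ((Equiv.sumAssoc _ _ _).trans (Equiv.sumCongr (Equiv.refl _) (Equiv.sumComm _ _))) _ (fun v => ?_) g
  rw [← elim_parts (v ∘ _), qG_elim, elA_quad]
  simp [Cfsg.quadFormMinus, dotProduct]
  ring

end CfsgLib.OmegaEvenComm
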