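import Cfsg.Agent.Lib.Classical.OmegaEvenComm.Engine
import Cfsg.Agent.Lib.Classical.OmegaComm.Units

/-!
# Irreducible matrices fixing no bilinear form

`Nsr M` says that the characteristic polynomial of `M` does not vanish at `M⁻¹`: it is not self-reciprocal.
-/

set_option autoImplicit false
set_option linter.unusedSectionVars false
set_option linter.unusedSimpArgs false

namespace CfsgLib.OmegaEvenComm

open Matrix Polynomial CfsgLib.Classical CfsgLib.FGS.SLComm

variable {F : Type*} [Field F] {α β γ : Type} [Fintype α] [DecidableEq α] [Fintype β] [DecidableEq β]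

/-- The characteristic polynomial is invertible at the inverse. -/
def Nsr (M : Matrix α α F) : Prop := IsUnit (aeval M⁻¹ M.charpoly)

/-- A rectangular semiconjugation respects polynomials. -/
theorem aeval_semiconj_rect {A : Matrix β β F} {C : Matrix α α F} {S : Matrix β α F} (e : A * S = S * C)
    (h : F[X]) : aeval A h * S = S * aeval C h := by
  induction h using Polynomial.induction_on' with
  | add p q hp hq => rw [map_add, map_add, Matrix.add_mul, Matrix.mul_add, hp, hq]
  | monomial n c =>
    have hn : A ^ n * S = S * C ^ n := by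
      induction n with
      | zero => simp
      | succ n ih => rw [pow_succ, Matrix.mul_assoc, e, ← Matrix.mul_assoc, ih, Matrix.mul_assoc, ← pow_succ]
    rw [aeval_monomial, aeval_monomial, ← Algebra.smul_def, ← Algebra.smul_def, Matrix.smul_mul, Matrix.mul_smul,
      hn]

theorem eq_zero_of_semiconj {A : Matrix β β F} {C : Matrix α α F} {S : Matrix β α F} (e : A * S = S * C)
    (hu : IsUnit (aeval A C.charpoly)) : S = 0 := by
  have h := aeval_semiconj_rect e C.charpoly
  rw [aeval_self_charpoly, Matrix.mul_zero] at h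
  obtain ⟨u, hu⟩ := hu
  calc S = (↑u⁻¹ * ↑u : Matrix β β F) * S := by rw [Units.inv_mul, Matrix.one_mul]
    _ = 0 := by rw [Matrix.mul_assoc, hu, h, Matrix.mul_zero]

theorem Nsr.transpose {M : Matrix α α F} (h : Nsr M) : Nsr Mᵀ := by
  rw [Nsr, charpoly_transpose, ← transpose_nonsing_inv,
    show aeval (M⁻¹)ᵀ M.charpoly = (aeval M⁻¹ M.charpoly)ᵀ from ?_]
  · rw [isUnit_iff_isUnit_det, det_transpose, ← isUnit_iff_isUnit_det]
    exact h
  · rw [aeval_eq_sum_range, aeval_eq_sum_range, transpose_sum]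
    exact Finset.sum_congr rfl fun i _ => by rw [transpose_smul, transpose_pow]

/-- No invariant bilinear form. -/
theorem Nsr.fixed {M : Matrix α α F} (h : Nsr M) (hM : IsUnit M.det) {w : Matrix α α F} (hw : Mᵀ * w * M = w) :
    w = 0 := by
  have hsw : Mᵀ * w = w * M⁻¹ := by
    conv_rhs => rw [← hw]
    rw [Matrix.mul_assoc _ M, mul_nonsing_inv _ hM, Matrix.mul_one]
  have hz := aeval_semiconj_rect hsw M.charpoly
  rw [← charpoly_transpose, aeval_self_charpoly, Matrix.zero_mul, charpoly_transpose] at hz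
  obtain ⟨u, hu⟩ := h
  calc w = w * (↑u * ↑u⁻¹ : Matrix α α F) := by rw [Units.mul_inv, Matrix.mul_one]
    _ = 0 := by rw [← Matrix.mul_assoc, hu, ← hz, Matrix.zero_mul]

theorem Nsr.fixed' {M : Matrix α α F} (h : Nsr M) (hM : IsUnit M.det) {w : Matrix α α F} (hw : M * w * Mᵀ = w) :
    w = 0 :=
  h.transpose.fixed (by rwa [det_transpose]) (by rwa [transpose_transpose])

/-- An irreducible matrix whose determinant is not one. -/
theorem nsr_of_det {M : Matrix α α F} (hirr : Irreducible M.charpoly) (hdeg : 2 ≤ Fintype.card α)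
    (hdet : M.det ≠ 1) (hM : IsUnit M.det) : Nsr M := by
  obtain ⟨h, hh⟩ : ∃ h, h = M.charpoly := ⟨_, rfl⟩
  haveI : Fact (Irreducible h) := ⟨hh ▸ hirr⟩
  haveI : Nonempty α := Fintype.card_pos_iff.1 (by omega)
  have hev : ∀ c : F, h.eval c ≠ 0 := fun c => eval_ne_zero_of_irreducible (hh ▸ hirr)
    (by rw [hh, charpoly_natDegree_eq_dim]; exact hdeg) c
  let φ : AdjoinRoot h →ₐ[F] Matrix α α F := OmegaComm.rootHom M h (by rw [hh, aeval_self_charpoly])
  have hroot : φ (AdjoinRoot.root h) = M := OmegaComm.rootHom_root _ _ _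
  have hroot0 : AdjoinRoot.root h ≠ 0 := fun h0 => by
    rw [h0, map_zero] at hroot
    rw [← hroot, det_zero] at hM
    exact hM.ne_zero rfl
  have hinv : φ (AdjoinRoot.root h)⁻¹ = M⁻¹ :=
    (inv_eq_right_inv (by rw [← hroot, ← map_mul, mul_inv_cancel₀ hroot0, map_one])).symm
  rw [Nsr, ← hh, ← hinv, aeval_algHom_apply]
  refine (isUnit_iff_ne_zero.2 fun h0 => ?_).map φ
  have hmin : minpoly F M⁻¹ = h := by
    have hd : minpoly F M⁻¹ ∣ h := minpoly.dvd F _ (by rw [← hinv, aeval_algHom_apply, h0, map_zero])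
    have hint : IsIntegral F M⁻¹ := Matrix.isIntegral _
    rcases (hh ▸ hirr : Irreducible h).dvd_iff.1 hd with hu | ha
    · exact absurd hu (minpoly.not_isUnit F _)
    · exact eq_of_monic_of_associated (minpoly.monic hint) (hh ▸ charpoly_monic M) ha.symm
  have hchar : M⁻¹.charpoly = h := by
    have hd := Matrix.minpoly_dvd_charpoly M⁻¹
    rw [hmin] at hd
    exact (eq_of_monic_of_dvd_of_natDegree_le (hh ▸ charpoly_monic M) (charpoly_monic _) hd
      (by rw [hh, charpoly_natDegree_eq_dim, charpoly_natDegree_eq_dim]))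
  have key : ∀ c : F, c * c = 1 → h.eval c = (-c) ^ Fintype.card α * M.det⁻¹ * h.eval c := fun c hc => by
    have e1 : h.eval c = (scalar α c - M⁻¹).det := by rw [← hchar, Matrix.eval_charpoly]
    have e3 : scalar α c - M⁻¹ = ((-c) • M⁻¹) * (scalar α c - M) := by
      rw [show scalar α c = c • 1 from (smul_one_eq_diagonal c).symm, Matrix.mul_sub, Matrix.mul_smul,
        Matrix.mul_one, Matrix.smul_mul, nonsing_inv_mul _ hM, smul_smul, mul_neg, hc]
      module
    conv_lhs => rw [e1, e3, det_mul, det_smul, det_nonsing_inv, Ring.inverse_eq_inv', ← Matrix.eval_charpoly, ← hh]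
  have k1 := mul_right_cancel₀ (hev 1) ((one_mul (h.eval 1)).trans (key 1 (one_mul 1)))
  have k2 := mul_right_cancel₀ (hev (-1)) ((one_mul _).trans (key (-1) (by ring)))
  rw [neg_neg, one_pow, one_mul] at k2
  exact hdet (inv_eq_one.1 k2.symm)

/-- A primitive element of a field with more than four elements is not conjugate to its inverse. -/
theorem no_algEquiv_inv {K : Type*} [Field K] [Algebra F K] [Fintype K] (hK : 5 ≤ Fintype.card K) {a : Kˣ}
    (ha : ∀ x : Kˣ, x ∈ Subgroup.zpowers a) (σ : K ≃ₐ[F] K) : σ (a : K) ≠ (a : K)⁻¹ := by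
  classical
  intro h
  have hall : ∀ x : K, x ≠ 0 → σ x = x⁻¹ := fun x hx => by
    obtain ⟨n, hn⟩ := ha (Units.mk0 x hx)
    have : ((a ^ n : Kˣ) : K) = x := by rw [show a ^ n = Units.mk0 x hx from hn]; rfl
    rw [← this, Units.val_zpow_eq_zpow_val, map_zpow₀, h, _root_.inv_zpow]
  have hq : ∀ x : K, x ≠ 0 → x ≠ -1 → x ^ 2 + x + 1 = 0 := fun x hx hx1 => by
    have hx2 : x + 1 ≠ 0 := fun e => hx1 (eq_neg_of_add_eq_zero_left e)
    have e := map_add σ x 1
    rw [hall _ hx2, hall _ hx, map_one] at e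
    field_simp at e
    linear_combination -e
  obtain ⟨s, hs⟩ : ∃ s : Finset K, s = Finset.univ.filter fun x => x ≠ 0 ∧ x ≠ -1 := ⟨_, rfl⟩
  have hsub : s ⊆ ((X : K[X]) ^ 2 + X + 1).roots.toFinset := fun x hx => by
    rw [hs, Finset.mem_filter] at hx
    have hne : ((X : K[X]) ^ 2 + X + 1) ≠ 0 := fun e => by
      have := congrArg (fun p : K[X] => p.coeff 2) e
      simp [coeff_X, coeff_one] at this
    rw [Multiset.mem_toFinset, mem_roots hne, IsRoot]
    simpa using hq x hx.2.1 hx.2.2
  have hcard : Fintype.card K ≤ s.card + 2 := by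
    rw [← Finset.card_univ]
    have : (Finset.univ : Finset K) ⊆ s ∪ {0, -1} := fun x _ => by
      rw [hs, Finset.mem_union, Finset.mem_filter, Finset.mem_insert, Finset.mem_singleton]
      tauto
    refine (Finset.card_le_card this).trans ((Finset.card_union_le _ _).trans ?_)
    have := Finset.card_le_two (a := (0 : K)) (b := -1)
    omega
  have h2 : ((X : K[X]) ^ 2 + X + 1).roots.toFinset.card ≤ 2 := by
    refine (Multiset.toFinset_card_le _).trans ((card_roots' _).trans ?_)
    compute_degree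
  have := Finset.card_le_card hsub
  omega

/-- A generator of the multiplicative group has full degree over the field with two elements. -/
theorem degree_generator [Finite F] (h2 : Nat.card F = 2) {K : Type*} [Field K] [Algebra F K] [Finite K] {m : ℕ}
    (hK : Module.finrank F K = m) (hm : 3 ≤ m) {b : Kˣ} (hb : ∀ x : Kˣ, x ∈ Subgroup.zpowers b) :
    (minpoly F (b : K)).natDegree = m := by
  haveI : Module.Finite F K := Module.Finite.of_finite
  obtain ⟨d, hd⟩ : ∃ d, d = (minpoly F (b : K)).natDegree := ⟨_, rfl⟩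
  have hpos : 0 < d := hd ▸ minpoly.natDegree_pos (IsIntegral.of_finite F _)
  have hp : (b : K) ^ 2 ^ d = b := by
    have := pow_natDegree_minpoly (F := F) (b : K)
    rwa [h2, ← hd] at this
  have hdm : d ∣ m := hd ▸ hK ▸ minpoly.degree_dvd (IsIntegral.of_finite F _)
  have hord : orderOf b = 2 ^ m - 1 := by
    rw [orderOf_eq_card_of_forall_mem_zpowers hb, Nat.card_units, Module.natCard_eq_pow_finrank (K := F), hK, h2]
  have h1 : b ^ (2 ^ d - 1) = 1 := by
    refine mul_right_cancel (b := b) ?_
    rw [one_mul, ← pow_succ, Nat.sub_add_cancel (Nat.one_le_pow _ _ (by norm_num))]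
    exact Units.ext (by simpa using hp)
  have hle := Nat.le_of_dvd (Nat.sub_pos_of_lt (Nat.one_lt_pow (by omega) (by norm_num)))
    (orderOf_dvd_of_pow_eq_one h1)
  rw [hord] at hle
  rw [← hd]
  refine le_antisymm (Nat.le_of_dvd (by omega) hdm) ?_
  by_contra hlt
  have h3 := Nat.pow_lt_pow_right (a := 2) (by norm_num) (not_le.1 hlt)
  have h4 : 1 ≤ 2 ^ d := Nat.one_le_pow _ _ (by norm_num)
  omega

set_option maxHeartbeats 1000000 in
/-- The data over two elements. -/
theorem exists_alpha_two [Fintype F] (h2 : Nat.card F = 2) {m : ℕ} (hm : 3 ≤ m) :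
    ∃ D : Alpha F m, LinearEquiv.det D.α = 1 ∧ Irreducible D.h ∧ D.h.natDegree = m ∧
      Nsr (LinearMap.toMatrix' (D.α : Module.End F (Fin m → F))) := by
  classical
  obtain ⟨p, _⟩ := CharP.exists F
  haveI : Fact p.Prime := ⟨(CharP.char_is_prime_or_zero F p).resolve_right fun h0 => by
    subst h0
    haveI := CharP.charP_to_charZero F
    exact not_finite F⟩
  haveI : NeZero m := ⟨by omega⟩
  let K := FiniteField.Extension F p m
  have hK : Module.finrank F K = m := FiniteField.finrank_extension F p m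
  haveI : Finite K := inferInstance
  haveI : Module.Finite F K := Module.Finite.of_finite
  haveI := Fintype.ofFinite K
  have hKc : Fintype.card K = 2 ^ m := by
    rw [← Nat.card_eq_fintype_card, Module.natCard_eq_pow_finrank (K := F), hK, h2]
  have h8 : 5 ≤ Fintype.card K := by
    rw [hKc]
    exact le_trans (by norm_num) (Nat.pow_le_pow_right (by norm_num) hm)
  obtain ⟨a, ha⟩ := IsCyclic.exists_generator (α := Kˣ)
  have hdeg : ∀ b : Kˣ, (∀ x : Kˣ, x ∈ Subgroup.zpowers b) → (minpoly F (b : K)).natDegree = m :=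
    fun b hb => degree_generator h2 hK hm hb
  let e : K ≃ₗ[F] (Fin m → F) := (Module.finBasisOfFinrankEq F K hK).equivFun
  let σ : K ≃ₗ[F] K := (FiniteField.Extension.frob F p m).toLinearEquiv
  have hσ : conjE σ (mulE F a) = mulE F (a ^ Nat.card F) := by
    refine LinearEquiv.ext fun x => ?_
    change FiniteField.Extension.frob F p m ((a : K) * (FiniteField.Extension.frob F p m).symm x) = _
    rw [map_mul, AlgEquiv.apply_symm_apply, FiniteField.Extension.frob_apply]
    simp
  set t : Kˣ := a / a ^ Nat.card F with ht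
  have hta : t = a⁻¹ := by rw [ht, h2, pow_two, div_eq_iff_eq_mul, ← mul_assoc, inv_mul_cancel, one_mul]
  have hθ : conjE e (mulE F a) * (conjE (conjE e σ) (conjE e (mulE F a)))⁻¹ = conjE e (mulE F t) := by
    have h1 : conjE (conjE e σ) (conjE e (mulE F a)) = conjE e (conjE σ (mulE F a)) :=
      LinearEquiv.ext fun x => by simp [conjE]
    rw [h1, hσ, ← conjE_inv, ← conjE_mul]
    congr 1
    refine LinearEquiv.ext fun x => ?_
    change (a : K) * (((a ^ Nat.card F)⁻¹ : Kˣ) * x) = (t : K) * x
    rw [← mul_assoc, ← Units.val_mul, ← div_eq_mul_inv]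
  have hli : LinearIndependent F fun j : Fin m =>
      ((conjE e (mulE F a) * (conjE (conjE e σ) (conjE e (mulE F a)))⁻¹) ^ (j : ℕ)) (e 1) := by
    rw [hθ]
    have hp : ∀ j : ℕ, ((conjE e (mulE F t)) ^ j) (e 1) = e ((t : K) ^ j) := by
      intro j
      induction j with
      | zero => simp
      | succ j ih =>
        rw [pow_succ', LinearEquiv.mul_apply, ih]
        simp [pow_succ']
    simp only [hp]
    have h0 := linearIndependent_pow (K := F) (t : K)
    have hd : (minpoly F (t : K)).natDegree = m := hdeg t fun x => by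
      rw [hta, Subgroup.zpowers_inv]; exact ha x
    have h1 := (h0.comp (Fin.cast hd.symm) (Fin.cast_injective _)).map' e.toLinearMap e.ker
    simpa [Function.comp_def] using h1
  have hα : ((conjE e (mulE F a) : (Fin m → F) ≃ₗ[F] Fin m → F) : Module.End F (Fin m → F)) =
      e.conjAlgEquiv F (Algebra.lmul F K (a : K)) := rfl
  have hkill : aeval (conjE e (mulE F a) : Module.End F (Fin m → F)) (minpoly F (a : K)) = 0 := by
    rw [hα, aeval_algEquiv, AlgHom.coe_comp, Function.comp_apply, aeval_algHom_apply, minpoly.aeval,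
      map_zero, map_zero]
  refine ⟨⟨conjE e (mulE F a), conjE e σ, e 1, hli, minpoly F (a : K), hkill⟩, ?_,
    minpoly.irreducible (IsIntegral.of_finite F _), hdeg a ha, ?_⟩
  · apply Units.ext
    obtain ⟨x, hx⟩ : ∃ x, x = ((LinearEquiv.det (conjE e (mulE F a)) : Fˣ) : F) := ⟨_, rfl⟩
    have hF : ∀ y : F, y ≠ 0 → y = 1 := fun y hy => by
      haveI : Fintype F := Fintype.ofFinite F
      have := FiniteField.pow_card_sub_one_eq_one y hy
      rwa [← Nat.card_eq_fintype_card, h2, show 2 - 1 = 1 from rfl, pow_one] at this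
    rw [Units.val_one]
    exact hF _ (Units.ne_zero _)
  · obtain ⟨ψ, hψ⟩ : ∃ ψ : K →ₐ[F] Matrix (Fin m) (Fin m) F,
        ψ = (LinearMap.toMatrixAlgEquiv' : _ ≃ₐ[F] _).toAlgHom.comp
          ((e.conjAlgEquiv F).toAlgHom.comp (Algebra.lmul F K)) := ⟨_, rfl⟩
    have hM : LinearMap.toMatrix' ((conjE e (mulE F a) : (Fin m → F) ≃ₗ[F] Fin m → F) : Module.End F (Fin m → F)) =
        ψ (a : K) := by
      rw [hψ]; rfl
    rw [hM]
    have hchar : (ψ (a : K)).charpoly = minpoly F (a : K) := by
      have hinj : Function.Injective ψ := by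
        haveI : Nonempty (Fin m) := ⟨⟨0, by omega⟩⟩
        exact ψ.toRingHom.injective
      have hmp : minpoly F (ψ (a : K)) = minpoly F (a : K) := minpoly.algHom_eq ψ hinj _
      have hd := Matrix.minpoly_dvd_charpoly (ψ (a : K))
      rw [hmp] at hd
      exact (eq_of_monic_of_dvd_of_natDegree_le (minpoly.monic (IsIntegral.of_finite F _)) (charpoly_monic _) hd
        (by rw [hdeg a ha, charpoly_natDegree_eq_dim, Fintype.card_fin]))
    have hinv : (ψ (a : K))⁻¹ = ψ ((a : K)⁻¹) :=
      inv_eq_right_inv (by rw [← map_mul, mul_inv_cancel₀ a.ne_zero, map_one])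
    rw [Nsr, hchar, hinv, aeval_algHom_apply]
    refine (isUnit_iff_ne_zero.2 fun h0 => ?_).map ψ
    have hconj : minpoly F (a : K)⁻¹ = minpoly F (a : K) :=
      eq_of_monic_of_associated (minpoly.monic (IsIntegral.of_finite F _)) (minpoly.monic (IsIntegral.of_finite F _))
        (associated_of_dvd_dvd (minpoly.dvd F _ h0)
          ((minpoly.irreducible (IsIntegral.of_finite F _)).dvd_symm
            (minpoly.irreducible (IsIntegral.of_finite F _)) (minpoly.dvd F _ h0)))
    obtain ⟨τ, hτ⟩ := (isConjRoot_iff_exists_algEquiv (K := F) (x := (a : K)⁻¹) (y := (a : K))).1 hconj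
    exact no_algEquiv_inv h8 ha τ hτ

end CfsgLib.OmegaEvenComm
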