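import Cfsg.Agent.Lib.Classical.OmegaEvenComm.Ren

/-!
# Middle planes
-/

set_option autoImplicit false
set_option linter.unusedSectionVars false
set_option linter.unusedSimpArgs false

namespace CfsgLib.OmegaEvenComm

open Matrix CfsgLib.SUComm

variable {F : Type*} [Field F] {A : Matrix (Fin 2) (Fin 2) F}

/-- A nonzero displacement by an isometry is a reflection vector. -/
theorem midRefl_displace (han : Aniso A) {x y : Fin 2 → F} (hq : y ⬝ᵥ A *ᵥ y = x ⬝ᵥ A *ᵥ x) (hne : y ≠ x) :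
    (y - x) ⬝ᵥ A *ᵥ (y - x) ≠ 0 ∧ midRefl A (y - x) *ᵥ x = y := by
  have hd : (y - x) ⬝ᵥ A *ᵥ (y - x) ≠ 0 := fun h => hne (sub_eq_zero.1 (han _ h))
  refine ⟨hd, ?_⟩
  have e : x ⬝ᵥ gB A *ᵥ (y - x) = -((y - x) ⬝ᵥ A *ᵥ (y - x)) := by
    simp only [dot_gB, mulVec_sub, dotProduct_sub, sub_dotProduct]
    linear_combination hq
  rw [midRefl_mulVec, e, mul_neg, inv_mul_cancel₀ hd]
  simp

theorem cls2_of_aniso (han : Aniso A) : Cls2 A := by
  intro e he
  obtain ⟨w, hw⟩ : ∃ w : Fin 2 → F, w = Pi.single 0 1 := ⟨_, rfl⟩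
  obtain ⟨u, hu⟩ : ∃ u : Fin 2 → F, u = Pi.single 1 1 := ⟨_, rfl⟩
  have fixw : ∀ f : Matrix (Fin 2) (Fin 2) F, MidIso A f → f *ᵥ w = w →
      f = 1 ∨ ∃ d : Fin 2 → F, d ⬝ᵥ A *ᵥ d ≠ 0 ∧ f = midRefl A d := by
    intro f hf hfw
    rcases eq_or_ne (f *ᵥ u) u with h | h
    · left
      refine Matrix.ext_of_mulVec_single fun i => ?_
      fin_cases i
      · show f *ᵥ Pi.single 0 1 = 1 *ᵥ Pi.single 0 1
        rw [one_mulVec, ← hw, hfw]
      · show f *ᵥ Pi.single 1 1 = 1 *ᵥ Pi.single 1 1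
        rw [one_mulVec, ← hu, h]
    · right
      obtain ⟨hd, hx⟩ := midRefl_displace han (hf.quad u) h
      refine ⟨_, hd, Matrix.ext_of_mulVec_single fun i => ?_⟩
      fin_cases i
      · have hpol : w ⬝ᵥ gB A *ᵥ (f *ᵥ u - u) = 0 := by
          have h1 := hf.quad (w + u)
          rw [mulVec_add, hfw] at h1
          have h2 := hf.quad u
          simp only [mulVec_add, dotProduct_add, add_dotProduct, mulVec_sub, dotProduct_sub, dot_gB,
            sub_dotProduct] at h1 h2 ⊢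
          linear_combination h1 - h2
        show f *ᵥ Pi.single 0 1 = midRefl A _ *ᵥ Pi.single 0 1
        rw [← hw, hfw, midRefl_mulVec, hpol, mul_zero, zero_smul, sub_zero]
      · show f *ᵥ Pi.single 1 1 = midRefl A _ *ᵥ Pi.single 1 1
        rw [← hu, hx]
  rcases eq_or_ne (e *ᵥ w) w with h | h
  · rcases fixw e he h with rfl | ⟨d, hd, rfl⟩
    · exact Or.inl rfl
    · exact Or.inr (Or.inl ⟨d, hd, rfl⟩)
  · obtain ⟨hd, hx⟩ := midRefl_displace han (he.quad w) h
    obtain ⟨r, hr⟩ : ∃ r, r = midRefl A (e *ᵥ w - w) := ⟨_, rfl⟩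
    have hrr : r * r = 1 := hr ▸ midRefl_mul_self A hd
    have hrw : (r * e) *ᵥ w = w := by
      rw [← hr] at hx
      rw [← mulVec_mulVec]
      conv_rhs => rw [← one_mulVec w, ← hrr, ← mulVec_mulVec, hx]
    have hee : e = r * (r * e) := by rw [← Matrix.mul_assoc, hrr, Matrix.one_mul]
    rcases fixw (r * e) ((hr ▸ midIso_midRefl A hd).mul he) hrw with h1 | ⟨d', hd', h1⟩
    · exact Or.inr (Or.inl ⟨_, hd, by rw [← hr]; conv_lhs => rw [hee, h1, Matrix.mul_one]⟩)
    · exact Or.inr (Or.inr ⟨_, d', hd, hd', by rw [← hr]; conv_lhs => rw [hee, h1]⟩)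

/-! ### The hyperbolic plane -/

theorem midRefl_hypA {t : F} (ht : t ≠ 0) : midRefl (hypA F) ![1, -t] = !![0, t⁻¹; t, 0] := by
  rw [midRefl, hypA_quad]
  ext i j
  fin_cases i <;> fin_cases j <;>
    simp [gB, hypA, vecMulVec, mulVec, dotProduct, Fin.sum_univ_two, Matrix.one_apply, ht]

theorem hypA_quad_vec {t : F} (ht : t ≠ 0) : ![1, -t] ⬝ᵥ hypA F *ᵥ ![1, -t] ≠ 0 := by
  rw [hypA_quad]; simpa using ht

theorem cls2_hypA : Cls2 (hypA F) := by
  intro e he
  have h0 := he.quad ![1, 0]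
  have h1 := he.quad ![0, 1]
  have h2 := he.quad ![1, 1]
  simp only [hypA_quad] at h0 h1 h2
  simp [mulVec, dotProduct, Fin.sum_univ_two] at h0 h1 h2
  have hs : ∀ a b c d : F, e = !![a, b; c, d] → a * c = 0 → b * d = 0 → (a + b) * (c + d) = 1 →
      e = 1 ∨ (∃ w : Fin 2 → F, w ⬝ᵥ hypA F *ᵥ w ≠ 0 ∧ e = midRefl (hypA F) w) ∨
        ∃ w u : Fin 2 → F, w ⬝ᵥ hypA F *ᵥ w ≠ 0 ∧ u ⬝ᵥ hypA F *ᵥ u ≠ 0 ∧
          e = midRefl (hypA F) w * midRefl (hypA F) u := by
    intro a b c d hE hac hbd hs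
    rcases eq_or_ne a 0 with rfl | ha
    · have hb : b ≠ 0 := fun h => by simp [h] at hs
      obtain rfl : d = 0 := (mul_eq_zero.1 hbd).resolve_left hb
      have hc : c ≠ 0 := fun h => by simp [h] at hs
      refine Or.inr (Or.inl ⟨![1, -c], hypA_quad_vec hc, ?_⟩)
      rw [midRefl_hypA hc, hE, show b = c⁻¹ from eq_inv_of_mul_eq_one_left (by simpa using hs)]
    · obtain rfl : c = 0 := (mul_eq_zero.1 hac).resolve_left ha
      have hd : d ≠ 0 := fun h => by simp [h] at hs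
      obtain rfl : b = 0 := (mul_eq_zero.1 hbd).resolve_right hd
      refine Or.inr (Or.inr ⟨![1, -d], ![1, -1], hypA_quad_vec hd, hypA_quad_vec one_ne_zero, ?_⟩)
      rw [midRefl_hypA hd, midRefl_hypA one_ne_zero, hE,
        show a = d⁻¹ from eq_inv_of_mul_eq_one_left (by simpa using hs)]
      ext i j
      fin_cases i <;> fin_cases j <;> simp [Matrix.mul_apply, Fin.sum_univ_two]
  exact hs (e 0 0) (e 0 1) (e 1 0) (e 1 1) (eta_fin_two e) (by grind) (by grind) (by grind)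

variable [Fintype F]

theorem odd2_hypA (hF : 4 ≤ Fintype.card F) : Odd2 (hypA F) := by
  classical
  intro h2
  obtain ⟨t, ht⟩ : ∃ t : F, t ∉ ({0, 1, -1} : Finset F) := by
    by_contra h
    push Not at h
    have := Finset.card_le_card (s := (Finset.univ : Finset F)) (t := {0, 1, -1}) fun x _ => h x
    have := Finset.card_le_three (a := (0 : F)) (b := 1) (c := -1)
    rw [Finset.card_univ] at *
    omega
  simp only [Finset.mem_insert, Finset.mem_singleton, not_or] at ht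
  obtain ⟨t0, t1, t2⟩ := ht
  refine ⟨!![t⁻¹, 0; 0, t], Or.inr ⟨![1, -t], ![1, -1], hypA_quad_vec t0, hypA_quad_vec one_ne_zero, ?_⟩, ?_, ?_⟩
  · rw [midRefl_hypA t0, midRefl_hypA one_ne_zero]
    ext i j
    fin_cases i <;> fin_cases j <;> simp [Matrix.mul_apply, Fin.sum_univ_two]
  · rw [isUnit_iff_ne_zero, det_fin_two]
    simp [Matrix.one_apply, sub_eq_zero, t1, inv_eq_one]
  · rw [isUnit_iff_ne_zero, det_fin_two]
    simp [Matrix.one_apply, add_eq_zero_iff_eq_neg, t2, inv_eq_iff_eq_inv]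

/-! ### The anisotropic plane -/

/-- The normalised anisotropic plane. -/
def elA (a b : F) : Matrix (Fin 2) (Fin 2) F := !![1, a; 0, b]

theorem elA_quad (a b : F) (w : Fin 2 → F) :
    w ⬝ᵥ elA a b *ᵥ w = w 0 * w 0 + a * w 0 * w 1 + b * w 1 * w 1 := by
  simp [elA, dotProduct, mulVec, Fin.sum_univ_two]; ring

theorem aniso_elA {a b : F} (h : ∀ x : F, x * x + a * x + b ≠ 0) : Aniso (elA a b) := by
  intro w hw
  rw [elA_quad] at hw
  rcases eq_or_ne (w 1) 0 with h1 | h1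
  · rw [h1] at hw
    have h0 : w 0 = 0 := mul_self_eq_zero.1 (by linear_combination hw)
    funext i; fin_cases i <;> simp [h0, h1]
  · refine absurd ?_ (h (w 0 / w 1))
    field_simp
    linear_combination hw

theorem disc_elA {a b : F} (h : ∀ x : F, x * x + a * x + b ≠ 0) : 4 * b - a * a ≠ 0 := by
  intro e
  by_cases h2 : (2 : F) = 0
  · obtain ⟨x, hx⟩ := FiniteField.isSquare_of_char_two (F := F) (by
      haveI : CharP F 2 := CharTwo.of_one_ne_zero_of_two_eq_zero one_ne_zero h2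
      exact ringChar.eq F 2) b
    have ha : a = 0 := mul_self_eq_zero.1 (by linear_combination -e + 2 * b * h2)
    exact h x (by rw [ha, hx]; linear_combination x * x * h2)
  · exact h (-(a / 2)) (by field_simp; linear_combination e)

theorem isUnit_gB_elA {a b : F} (h : ∀ x : F, x * x + a * x + b ≠ 0) : IsUnit (gB (elA a b)).det := by
  rw [isUnit_iff_ne_zero]
  have := disc_elA h
  intro e
  apply this
  simp [gB, elA, det_fin_two] at e
  linear_combination e

theorem odd2_elA {a b : F} (h : ∀ x : F, x * x + a * x + b ≠ 0) : Odd2 (elA a b) := by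
  intro h2
  obtain ⟨s, hP⟩ : ∃ s : F, 2 * s + a ≠ 0 := by
    by_cases ha : a = 0
    · exact ⟨1, by rw [ha]; simpa using h2⟩
    · exact ⟨0, by simpa using ha⟩
  have hw : (![1, 0] : Fin 2 → F) ⬝ᵥ elA a b *ᵥ ![1, 0] = 1 := by rw [elA_quad]; simp
  have hu : (![s, 1] : Fin 2 → F) ⬝ᵥ elA a b *ᵥ ![s, 1] = s * s + a * s + b := by rw [elA_quad]; simp
  have hq := h s
  have hm : midRefl (elA a b) ![1, 0] * midRefl (elA a b) ![s, 1] =
      !![-1 + (2 * s + a) * (2 * s + a - s) / (s * s + a * s + b),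
          -a + (2 * s + a) * 0 + (a * s + 2 * b) * (2 * s + a - s) / (s * s + a * s + b);
         -((2 * s + a) / (s * s + a * s + b)), 1 - (a * s + 2 * b) / (s * s + a * s + b)] := by
    rw [midRefl, midRefl, hw, hu]
    ext i j
    fin_cases i <;> fin_cases j <;>
      simp [gB, elA, vecMulVec, mulVec, dotProduct, Fin.sum_univ_two, Matrix.one_apply, Matrix.mul_apply] <;>
      field_simp <;> ring
  refine ⟨_, Or.inr ⟨![1, 0], ![s, 1], by rw [hw]; exact one_ne_zero, by rw [hu]; exact hq, rfl⟩, ?_, ?_⟩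
  · rw [hm, isUnit_iff_ne_zero, det_fin_two]
    simp [Matrix.one_apply]
    intro e
    field_simp at e
    apply disc_elA h
    grind
  · rw [hm, isUnit_iff_ne_zero, det_fin_two]
    simp [Matrix.one_apply]
    intro e
    field_simp at e
    apply hP
    grind

theorem two_elA {a b : F} (h : ∀ x : F, x * x + a * x + b ≠ 0) : Two (elA a b) := by
  intro hF
  have hb : b = 1 := eq_one_of_card_two hF fun e => h 0 (by simp [e])
  have h2 : (2 : F) = 0 := by
    have := FiniteField.cast_card_eq_zero F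
    rw [hF] at this
    exact_mod_cast this
  have ha : a = 1 := eq_one_of_card_two hF fun e => h 1 (by rw [e, hb]; linear_combination h2)
  subst ha hb
  have hw : (![1, 0] : Fin 2 → F) ⬝ᵥ elA 1 1 *ᵥ ![1, 0] = 1 := by rw [elA_quad]; simp
  have hu : (![0, 1] : Fin 2 → F) ⬝ᵥ elA 1 1 *ᵥ ![0, 1] = 1 := by rw [elA_quad]; simp
  refine Or.inr ⟨![1, 0], ![0, 1], by rw [hw]; exact one_ne_zero, by rw [hu]; exact one_ne_zero, ?_⟩
  rw [midRefl, midRefl, hw, hu]
  ext i j
  fin_cases i <;> fin_cases j <;>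
    simp [gB, elA, vecMulVec, mulVec, dotProduct, Fin.sum_univ_two, Matrix.one_apply, Matrix.mul_apply] <;> grind

end CfsgLib.OmegaEvenComm
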