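import Cfsg.Agent.Lib.Classical.OmegaEvenComm.Frame
import Cfsg.Agent.Lib.Classical.OmegaComm.Rank

/-!
# The rank of the lower left block

With an anisotropic middle form, an element whose lower left block has maximal rank in its conjugacy class is
scalar on the kernel of that block, except possibly for a kernel of dimension one and no middle.
-/

set_option autoImplicit false
set_option linter.unusedSectionVars false
set_option linter.unusedSimpArgs false

namespace CfsgLib.OmegaEvenComm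

open Matrix CfsgLib.SUComm
open CfsgLib.OmegaComm (exists_col exists_dual_vec proj proj_mul_mul rank_lt_of_range rank_proj_eq form_congr)

variable {F : Type*} [Field F] {α β : Type} [Fintype α] [DecidableEq α] [Fintype β] [DecidableEq β]
variable {A : Matrix β β F}

/-- The middle form is anisotropic. -/
def Aniso (A : Matrix β β F) : Prop := ∀ w : β → F, w ⬝ᵥ A *ᵥ w = 0 → w = 0

variable (A) in
/-- The polar matrix. -/
def polM (α : Type) [DecidableEq α] : Mat F α β := blk 0 0 1 0 (gB A) 0 1 0 0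

theorem dot_polM (p w : Idx α β → F) :
    p ⬝ᵥ polM A α *ᵥ w = (∑ i, p (.inl i) * w (.inr (.inr i))) +
      (p ∘ Sum.inr ∘ Sum.inl) ⬝ᵥ gB A *ᵥ (w ∘ Sum.inr ∘ Sum.inl) + ∑ i, p (.inr (.inr i)) * w (.inl i) := by
  simp [dotProduct, mulVec, Fintype.sum_sum_type, polM, blk, Matrix.one_apply, Finset.mul_sum, add_assoc]

theorem isom_polM {M : Mat F α β} (hM : Isom A M) : Mᵀ * polM A α * M = polM A α := by
  obtain ⟨h, -⟩ := alt_iff.1 ((isom_iff A).1 hM)
  have e : polM A α = qA A α + (qA A α)ᵀ := by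
    rw [qA, transpose_blk]
    ext (x | x | x) (y | y | y) <;> simp [polM, blk, gB, Matrix.one_apply, eq_comm]
  rw [transpose_sub, transpose_mul, transpose_mul, transpose_transpose] at h
  rw [e, Matrix.mul_add, Matrix.add_mul, ← sub_eq_zero]
  rw [← sub_eq_zero] at h
  rw [← h]
  simp only [Matrix.mul_assoc]
  abel

theorem polM_inv {M N : Mat F α β} (hM : Isom A M) (h : M * N = 1) : polM A α * N = Mᵀ * polM A α := by
  conv_lhs => rw [← isom_polM hM]
  rw [Matrix.mul_assoc, h, Matrix.mul_one]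

theorem dot_eq {M : Mat F α β} (hM : Isom A M) (p w : Idx α β → F) :
    (M *ᵥ p) ⬝ᵥ polM A α *ᵥ (M *ᵥ w) = p ⬝ᵥ polM A α *ᵥ w := by
  rw [← form_congr, isom_polM hM]

section Blocks

variable (M : Mat F α β)

theorem gblk_apply (i l : α) : gblk M i l = M (.inr (.inr i)) (.inl l) := rfl

theorem dblk_apply (u : β) (l : α) : dblk M u l = M (.inr (.inl u)) (.inl l) := rfl

theorem corner_apply (i l : α) : corner M i l = M (.inl i) (.inl l) := rfl

theorem mulVec_corner (y : α → F) :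
    M *ᵥ Sum.elim y 0 = Sum.elim (corner M *ᵥ y) (Sum.elim (dblk M *ᵥ y) (gblk M *ᵥ y)) := by
  funext k
  rcases k with k | k | k <;>
    simp [mulVec, dotProduct, Fintype.sum_sum_type, gblk_apply, dblk_apply, corner_apply]

end Blocks

/-- The rank is maximal among the conjugates. -/
def IsMax (g : Grp A α) : Prop := ∀ x : Grp A α, (gblk (toM (x * g * x⁻¹))).rank ≤ (gblk (toM g)).rank

theorem exists_isMax (g : Grp A α) : ∃ x : Grp A α, IsMax (x * g * x⁻¹) := by
  classical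
  let p : ℕ → Prop := fun k => ∃ x : Grp A α, (gblk (toM (x * g * x⁻¹))).rank = k
  have hb : ∀ {k}, p k → k ≤ Fintype.card α := fun {k} ⟨P, hk⟩ => hk ▸ Matrix.rank_le_card_width _
  have h0 : p (gblk (toM g)).rank := ⟨1, by simp⟩
  obtain ⟨P, e⟩ := Nat.findGreatest_spec (P := p) (hb h0) h0
  refine ⟨P, fun Q => ?_⟩
  rw [e, show Q * (P * g * P⁻¹) * Q⁻¹ = Q * P * g * (Q * P)⁻¹ by group]
  have : p (gblk (toM (Q * P * g * (Q * P)⁻¹))).rank := ⟨Q * P, rfl⟩
  exact Nat.le_findGreatest (hb this) this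

theorem IsMax.of_conj {g : Grp A α} (x : Grp A α) (h : IsMax g)
    (hr : (gblk (toM (x * g * x⁻¹))).rank = (gblk (toM g)).rank) : IsMax (x * g * x⁻¹) := fun y => by
  rw [show y * (x * g * x⁻¹) * y⁻¹ = y * x * g * (y * x)⁻¹ by group, hr]
  exact h _

/-! ### Neighbours -/

variable (A) in
/-- The vector replacing the basis vector `x`. -/
def nbVec (x : α) (w : β → F) : Idx α β → F :=
  Sum.elim (Pi.single x (-(w ⬝ᵥ A *ᵥ w))) (Sum.elim w (Pi.single x 1))

variable (A) in
/-- The isometry moving to a neighbour. -/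
def nbM (x : α) (w : β → F) : Mat F α β :=
  upp A (Matrix.of fun b l => if l = x then w b else 0) (Matrix.single x x (-(w ⬝ᵥ A *ᵥ w))) * flipM x

theorem isom_nbM (x : α) (w : β → F) : Isom A (nbM A x w) := by
  refine (isom_upp (fun v => ?_)).mul (isom_flipM A x)
  have e : (Matrix.of fun b l => if l = x then w b else 0 : Matrix β α F) *ᵥ v = v x • w := by
    funext b; simp [mulVec, dotProduct, mul_comm]
  have e2 : v ⬝ᵥ Matrix.single x x (-(w ⬝ᵥ A *ᵥ w)) *ᵥ v = -(w ⬝ᵥ A *ᵥ w) * (v x * v x) := by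
    rw [single_mulVec]
    simp [dotProduct, Function.update_apply]
    ring
  rw [add_mulVec, dotProduct_add, e2, ← mulVec_mulVec, ← mulVec_mulVec, dotProduct_mulVec v (Matrix.of _)ᵀ,
    vecMul_transpose, e]
  simp only [mulVec_smul, dotProduct_smul, smul_dotProduct, smul_eq_mul]
  ring

theorem nbM_col (x : α) (w : β → F) (l : α) :
    nbM A x w *ᵥ Pi.single (.inl l) 1 = if l = x then nbVec A x w else Pi.single (.inl l) 1 := by
  rw [nbM, ← mulVec_mulVec]
  have : (flipM x : Mat F α β) *ᵥ Pi.single (.inl l) 1 =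
      if l = x then Pi.single (.inr (.inr x)) 1 else Pi.single (.inl l) 1 := by
    funext i
    rw [flipM_mulVec]
    split_ifs with h <;> simp [Pi.single_apply, Equiv.swap_apply_def, h] <;> (repeat' split_ifs) <;> simp_all
  rw [this]
  split_ifs with h
  · funext i
    rcases i with i | i | i <;>
      simp [nbVec, upp, blk, Matrix.single_apply, Pi.single_apply, Matrix.one_apply, eq_comm]
  · funext i
    rcases i with i | i | i <;> simp [upp, blk, Pi.single_apply, Matrix.one_apply]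

/-- The neighbour as a group element. -/
noncomputable def nbG (hA : IsUnit (gB A).det) (x : α) (w : β → F) : Grp A α := mkG hA (nbM A x w)

theorem gblk_conj_apply (g P : Grp A α) (i l : α) :
    gblk (toM (P⁻¹ * g * P)) i l =
      (toM P *ᵥ Pi.single (.inl i) 1) ⬝ᵥ polM A α *ᵥ (toM g *ᵥ (toM P *ᵥ Pi.single (.inl l) 1)) := by
  have h : polM A α * toM (P⁻¹ * g * P) = (toM P)ᵀ * (polM A α * toM g) * toM P := by
    rw [toM_mul, toM_mul, ← Matrix.mul_assoc, ← Matrix.mul_assoc, polM_inv (isom_toM P) (toM_mul_inv P)]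
    simp only [Matrix.mul_assoc]
  rw [mulVec_mulVec (M := polM A α), ← form_congr, ← h]
  simp [polM, Matrix.mul_apply, blk, Fintype.sum_sum_type, Matrix.one_apply, gblk_apply]

theorem gblk_nb (hA : IsUnit (gB A).det) (g : Grp A α) (x : α) (w : β → F) (i l : α) :
    gblk (toM ((nbG hA x w)⁻¹ * g * nbG hA x w)) i l =
      (if i = x then nbVec A x w else Pi.single (.inl i) 1) ⬝ᵥ polM A α *ᵥ
        (toM g *ᵥ (if l = x then nbVec A x w else Pi.single (.inl l) 1)) := by
  rw [gblk_conj_apply, nbG, toM_mkG hA (isom_nbM x w), nbM_col, nbM_col]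

theorem gblk_nb_of_ne (hA : IsUnit (gB A).det) (g : Grp A α) (x : α) (w : β → F) {i l : α} (hi : i ≠ x)
    (hl : l ≠ x) : gblk (toM ((nbG hA x w)⁻¹ * g * nbG hA x w)) i l = gblk (toM g) i l := by
  rw [gblk_nb, if_neg hi, if_neg hl, dot_polM, gblk_apply]
  simp [Pi.single_apply, Function.comp_def]

theorem gblk_nb_row (hA : IsUnit (gB A).det) (g : Grp A α) (x : α) (w : β → F) {l : α} (hl : l ≠ x) :
    gblk (toM ((nbG hA x w)⁻¹ * g * nbG hA x w)) x l =
      -(w ⬝ᵥ A *ᵥ w) * gblk (toM g) x l + w ⬝ᵥ gB A *ᵥ (fun u => dblk (toM g) u l) + corner (toM g) x l := by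
  rw [gblk_nb, if_pos rfl, if_neg hl, dot_polM, gblk_apply, corner_apply]
  simp [nbVec, Pi.single_apply, Function.comp_def, dblk_apply]

/-! ### Kernel vectors -/

theorem corner_rel (g : Grp A α) :
    Alt ((corner (toM g))ᵀ * gblk (toM g) + (dblk (toM g))ᵀ * A * dblk (toM g)) := by
  obtain ⟨a, b, c, d, e, f, g₀, h, i, hg⟩ := exists_blk (toM g)
  have hI : Isom A (blk a b c d e f g₀ h i) := hg ▸ isom_toM g
  rw [hg, corner_blk, gblk_blk, dblk_blk]
  exact hI.rel.1

theorem dblk_mulVec_ker (han : Aniso A) (g : Grp A α) {y : α → F} (hy : gblk (toM g) *ᵥ y = 0) :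
    dblk (toM g) *ᵥ y = 0 := by
  refine han _ ?_
  have e := corner_rel g y
  rw [add_mulVec, dotProduct_add, ← mulVec_mulVec, hy, mulVec_zero, dotProduct_zero, zero_add, ← mulVec_mulVec,
    ← mulVec_mulVec, dotProduct_mulVec, vecMul_transpose] at e
  exact e

theorem corner_mem_left_ker (g : Grp A α) {y : α → F} (hy : gblk (toM g) *ᵥ y = 0)
    (hd : dblk (toM g) *ᵥ y = 0) : (corner (toM g) *ᵥ y) ᵥ* gblk (toM g) = 0 := by
  obtain ⟨e, -⟩ := alt_iff.1 (corner_rel g)
  have e' := congrArg (fun X => X *ᵥ y) e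
  simp only [transpose_add, transpose_mul, transpose_transpose, add_mulVec, neg_mulVec, ← mulVec_mulVec, hy, hd,
    mulVec_zero, add_zero, neg_zero, mulVec_transpose] at e'
  exact e'

theorem eq_zero_of_blocks (g : Grp A α) {y : α → F} (ha : corner (toM g) *ᵥ y = 0)
    (hd : dblk (toM g) *ᵥ y = 0) (hg : gblk (toM g) *ᵥ y = 0) : y = 0 := by
  obtain ⟨w, hw⟩ : ∃ w : Idx α β → F, w = Sum.elim y 0 := ⟨_, rfl⟩
  have hMw : toM g *ᵥ w = 0 := by
    rw [hw, mulVec_corner, ha, hd, hg]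
    funext k; rcases k with k | k | k <;> rfl
  have : w = 0 := by rw [← one_mulVec w, ← toM_inv_mul g, ← mulVec_mulVec, hMw, mulVec_zero]
  funext i
  simpa [hw] using congrFun this (.inl i)

theorem conj_lev_parts (hA : IsUnit (gB A).det) {B : Matrix α α F} (hB : IsUnit B.det) (g : Grp A α) :
    corner (toM (mkG hA (lev B⁻¹ 1) * g * (mkG hA (lev B⁻¹ 1))⁻¹)) = B⁻¹ * corner (toM g) * B ∧
      gblk (toM (mkG hA (lev B⁻¹ 1) * g * (mkG hA (lev B⁻¹ 1))⁻¹)) = Bᵀ * gblk (toM g) * B ∧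
      dblk (toM (mkG hA (lev B⁻¹ 1) * g * (mkG hA (lev B⁻¹ 1))⁻¹)) = dblk (toM g) * B := by
  obtain ⟨a, b, c, d, e, f, g₀, h, i, hg⟩ := exists_blk (toM g)
  rw [toM_conj_lev hA hB, hg, conj_lev_blk hB]
  simp

theorem rank_conj_lev (hA : IsUnit (gB A).det) {B : Matrix α α F} (hB : IsUnit B.det) (g : Grp A α) :
    (gblk (toM (mkG hA (lev B⁻¹ 1) * g * (mkG hA (lev B⁻¹ 1))⁻¹))).rank = (gblk (toM g)).rank := by
  rw [(conj_lev_parts hA hB g).2.1, rank_mul_eq_left_of_isUnit_det _ _ hB,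
    rank_mul_eq_right_of_isUnit_det _ _ (by rwa [det_transpose])]

/-- A kernel vector must be sent into the hyperplane. -/
theorem max_corner_zero (hA : IsUnit (gB A).det) {g : Grp A α} (hmax : IsMax g) {x : α} {y s r : α → F}
    (hy : gblk (toM g) *ᵥ y = 0) (hyx : y x = 0) (hs : gblk (toM g) *ᵥ s = 0) (hsx : s x ≠ 0)
    (hr : r ᵥ* gblk (toM g) = 0) (hrx : r x ≠ 0) : (corner (toM g) *ᵥ y) x = 0 := by
  by_contra hne
  obtain ⟨g', hg'⟩ : ∃ g', g' = gblk (toM ((nbG hA x (0 : β → F))⁻¹ * g * nbG hA x 0)) := ⟨_, rfl⟩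
  have hm : g'.rank ≤ (gblk (toM g)).rank := by
    have := hmax (nbG hA x (0 : β → F))⁻¹
    rwa [inv_inv, ← hg'] at this
  have hv : g' *ᵥ y = (corner (toM g) *ᵥ y) x • Pi.single x 1 := by
    funext i
    simp only [mulVec, dotProduct, Pi.smul_apply, smul_eq_mul]
    rcases eq_or_ne i x with rfl | hi
    · rw [Pi.single_eq_same, mul_one]
      refine Finset.sum_congr rfl fun l _ => ?_
      rcases eq_or_ne l i with rfl | hl
      · simp [hyx]
      · rw [hg', gblk_nb_row hA g i 0 hl]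
        simp
    · rw [Pi.single_eq_of_ne hi, mul_zero]
      refine Eq.trans (Finset.sum_congr rfl fun l _ => ?_) (congrFun hy i)
      rcases eq_or_ne l x with rfl | hl
      · simp [hyx]
      · rw [hg', gblk_nb_of_ne hA g x 0 hi hl]
  have hπ : proj F x * g' * proj F x = proj F x * gblk (toM g) * proj F x := by
    ext i l
    rw [proj_mul_mul, proj_mul_mul]
    by_cases h : i = x ∨ l = x
    · rw [if_pos h, if_pos h]
    · rw [if_neg h, if_neg h, hg']
      push Not at h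
      exact gblk_nb_of_ne hA g x 0 h.1 h.2
  have h1 := rank_lt_of_range x y hne hv
  rw [hπ] at h1
  have h3 := rank_proj_eq x hs hsx hr hrx
  omega

/-- Two kernels of dimension at least two: scalar. -/
theorem max_scalar (hA : IsUnit (gB A).det) (han : Aniso A) {g : Grp A α} (hmax : IsMax g)
    (hk : (gblk (toM g)).rank + 2 ≤ Fintype.card α) :
    ∃ l : F, ∀ y, gblk (toM g) *ᵥ y = 0 → corner (toM g) *ᵥ y = l • y := by
  classical
  obtain ⟨G, hG⟩ : ∃ G, G = gblk (toM g) := ⟨_, rfl⟩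
  have hkd : 2 ≤ Module.finrank F (LinearMap.ker G.mulVecLin) := by
    have := G.mulVecLin.finrank_range_add_finrank_ker
    rw [Module.finrank_pi] at this
    rw [← hG] at hk
    change G.rank + _ = _ at this
    omega
  rw [← hG]
  have hcoll : ∀ y, G *ᵥ y = 0 → ∃ c : F, corner (toM g) *ᵥ y = c • y := by
    intro y hy
    by_cases hy0 : y = 0
    · exact ⟨0, by simp [hy0]⟩
    by_contra hcon
    push Not at hcon
    obtain ⟨y₁, hy₁, hy₁y⟩ : ∃ y₁, G *ᵥ y₁ = 0 ∧ ∀ c : F, y₁ ≠ c • y := by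
      by_contra h
      push Not at h
      have hle : LinearMap.ker G.mulVecLin ≤ Submodule.span F {y} := fun v hv => by
        obtain ⟨c, hc⟩ := h v (LinearMap.mem_ker.1 hv)
        exact Submodule.mem_span_singleton.2 ⟨c, hc.symm⟩
      have := Submodule.finrank_mono hle
      rw [finrank_span_singleton hy0] at this
      omega
    obtain ⟨p, hpy, hpz, hp1⟩ : ∃ p : α → F, p ⬝ᵥ y = 0 ∧ p ⬝ᵥ (corner (toM g) *ᵥ y) ≠ 0 ∧ p ⬝ᵥ y₁ ≠ 0 := by
      obtain ⟨p, hp, hpz⟩ := exists_dual_vec hcon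
      obtain ⟨q, hq, hq1⟩ := exists_dual_vec hy₁y
      by_cases h : p ⬝ᵥ y₁ = 0
      · by_cases h' : q ⬝ᵥ (corner (toM g) *ᵥ y) = 0
        · exact ⟨p + q, by rw [add_dotProduct, hp, hq, add_zero], by rwa [add_dotProduct, h', add_zero],
            by rwa [add_dotProduct, h, zero_add]⟩
        · exact ⟨q, hq, h', hq1⟩
      · exact ⟨p, hp, hpz, h⟩
    obtain ⟨x⟩ : Nonempty α := Fintype.card_pos_iff.1 (by omega)
    obtain ⟨A', hA', hAp⟩ := exists_col (z := p) (fun h => hpz (by rw [h, zero_dotProduct])) x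
    obtain ⟨C, hC⟩ : ∃ C, C = (A'ᵀ)⁻¹ := ⟨_, rfl⟩
    have hAt : IsUnit (A'ᵀ).det := by rwa [det_transpose]
    have hCu : IsUnit C.det := hC ▸ isUnit_nonsing_inv_det _ hAt
    have hCi : C⁻¹ = A'ᵀ := by rw [hC, nonsing_inv_nonsing_inv _ hAt]
    have hx : ∀ v, (C⁻¹ *ᵥ v) x = p ⬝ᵥ v := fun v => by
      rw [hCi, ← hAp]
      simp [mulVec, dotProduct, Pi.single_apply]
    have hCC : ∀ v, C *ᵥ (C⁻¹ *ᵥ v) = v := fun v => by rw [mulVec_mulVec, mul_nonsing_inv _ hCu, one_mulVec]
    obtain ⟨hc', hg', -⟩ := conj_lev_parts hA hCu g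
    have hmax' := hmax.of_conj _ (rank_conj_lev hA hCu g)
    obtain ⟨N, hN⟩ : ∃ N, N = mkG hA (lev C⁻¹ 1) * g * (mkG hA (lev C⁻¹ 1))⁻¹ := ⟨_, rfl⟩
    rw [← hN] at hc' hg' hmax'
    have hker : ∀ v, G *ᵥ v = 0 → gblk (toM N) *ᵥ (C⁻¹ *ᵥ v) = 0 := fun v hv => by
      rw [hg', ← hG, ← mulVec_mulVec, hCC, ← mulVec_mulVec, hv, mulVec_zero]
    have hz : corner (toM N) *ᵥ (C⁻¹ *ᵥ y) = C⁻¹ *ᵥ (corner (toM g) *ᵥ y) := by
      rw [hc', ← mulVec_mulVec, hCC, ← mulVec_mulVec]
    have hr := corner_mem_left_ker N (hker y hy) (dblk_mulVec_ker han N (hker y hy))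
    rw [hz] at hr
    have := max_corner_zero hA hmax' (hker y hy) (by rw [hx, hpy]) (hker y₁ hy₁) (by rw [hx]; exact hp1) hr
      (by rw [hx]; exact hpz)
    rw [hz, hx] at this
    exact hpz this
  obtain ⟨y₀, hy₀, hne⟩ := Submodule.exists_mem_ne_zero_of_ne_bot (p := LinearMap.ker G.mulVecLin)
    (fun h => by rw [h, finrank_bot] at hkd; omega)
  have hy₀' : G *ᵥ y₀ = 0 := LinearMap.mem_ker.1 hy₀
  obtain ⟨l, hl⟩ := hcoll y₀ hy₀'
  refine ⟨l, fun y hy => ?_⟩
  by_cases hdep : ∃ c : F, y = c • y₀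
  · obtain ⟨c, rfl⟩ := hdep
    rw [mulVec_smul, hl, smul_comm]
  push Not at hdep
  obtain ⟨c, hc⟩ := hcoll y hy
  obtain ⟨c', hc'⟩ := hcoll (y + y₀) (by rw [mulVec_add, hy, hy₀', add_zero])
  rw [mulVec_add, hc, hl, smul_add] at hc'
  have h1 : (c - c') • y = (c' - l) • y₀ := by
    rw [← sub_eq_zero]
    calc (c - c') • y - (c' - l) • y₀ = (c • y + l • y₀) - (c' • y + c' • y₀) := by module
      _ = 0 := by rw [hc', sub_self]
  have hcc : c = c' := by
    by_contra h
    refine hdep ((c - c')⁻¹ * (c' - l)) ?_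
    rw [← smul_smul, ← h1, smul_smul, inv_mul_cancel₀ (sub_ne_zero.2 h), one_smul]
  rw [hcc, sub_self, zero_smul] at h1
  rcases smul_eq_zero.1 h1.symm with h | h
  · rw [hc, hcc, sub_eq_zero.1 h]
  · exact absurd h hne

/-- The quadratic function of a neighbour is not identically zero. -/
theorem exists_ne_quad (hA : IsUnit (gB A).det) [Nonempty β] (L : (β → F) →ₗ[F] F) (C₀ : F) :
    ∃ w : β → F, -(w ⬝ᵥ A *ᵥ w) + L w + C₀ ≠ 0 := by
  by_contra h
  push Not at h
  have h0 := h 0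
  simp at h0
  subst h0
  have hL : ∀ w : β → F, w ⬝ᵥ A *ᵥ w = L w := fun w => by
    have := h w
    linear_combination -this
  have hB : gB A = 0 := by
    ext i j
    have e := hL (Pi.single i 1 + Pi.single j 1)
    simp only [map_add, mulVec_add, dotProduct_add, add_dotProduct] at e
    have e' : (Pi.single i 1 : β → F) ⬝ᵥ gB A *ᵥ Pi.single j 1 = 0 := by
      rw [dot_gB]; linear_combination e - hL (Pi.single i 1) - hL (Pi.single j 1)
    simpa using e'
  rw [hB, det_zero] at hA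
  exact hA.ne_zero rfl

/-- A kernel of dimension one and a nonempty middle: an eigenvector. -/
theorem max_eigen (hA : IsUnit (gB A).det) (han : Aniso A) [Nonempty β] {g : Grp A α} (hmax : IsMax g)
    (hk : (gblk (toM g)).rank + 1 = Fintype.card α) :
    ∃ l : F, ∀ y, gblk (toM g) *ᵥ y = 0 → corner (toM g) *ᵥ y = l • y := by
  classical
  have hkd : Module.finrank F (LinearMap.ker (gblk (toM g)).mulVecLin) = 1 := by
    have := (gblk (toM g)).mulVecLin.finrank_range_add_finrank_ker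
    rw [Module.finrank_pi] at this
    change (gblk (toM g)).rank + _ = _ at this
    omega
  obtain ⟨⟨s₀, hs₀⟩, hs₀ne, hall⟩ := finrank_eq_one_iff'.1 hkd
  have hgen : ∀ y, gblk (toM g) *ᵥ y = 0 → ∃ c : F, y = c • s₀ := fun y hy => by
    obtain ⟨c, hc⟩ := hall ⟨y, LinearMap.mem_ker.2 hy⟩
    exact ⟨c, (congrArg Subtype.val hc).symm⟩
  have hs₀' : gblk (toM g) *ᵥ s₀ = 0 := LinearMap.mem_ker.1 hs₀
  suffices h : ∃ c : F, corner (toM g) *ᵥ s₀ = c • s₀ by
    obtain ⟨l, hl⟩ := h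
    refine ⟨l, fun y hy => ?_⟩
    obtain ⟨c, rfl⟩ := hgen y hy
    rw [mulVec_smul, hl, smul_comm]
  by_contra hcon
  push Not at hcon
  obtain ⟨p, hp, hpz⟩ := exists_dual_vec hcon
  obtain ⟨x⟩ : Nonempty α := Fintype.card_pos_iff.1 (by omega)
  obtain ⟨A', hA', hAp⟩ := exists_col (z := p) (fun h => hpz (by rw [h, zero_dotProduct])) x
  obtain ⟨C, hC⟩ : ∃ C, C = (A'ᵀ)⁻¹ := ⟨_, rfl⟩
  have hAt : IsUnit (A'ᵀ).det := by rwa [det_transpose]
  have hCu : IsUnit C.det := hC ▸ isUnit_nonsing_inv_det _ hAt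
  have hCi : C⁻¹ = A'ᵀ := by rw [hC, nonsing_inv_nonsing_inv _ hAt]
  have hx : ∀ v, (C⁻¹ *ᵥ v) x = p ⬝ᵥ v := fun v => by
    rw [hCi, ← hAp]
    simp [mulVec, dotProduct, Pi.single_apply]
  have hCC : ∀ v, C *ᵥ (C⁻¹ *ᵥ v) = v := fun v => by rw [mulVec_mulVec, mul_nonsing_inv _ hCu, one_mulVec]
  have hCC' : ∀ v, C⁻¹ *ᵥ (C *ᵥ v) = v := fun v => by rw [mulVec_mulVec, nonsing_inv_mul _ hCu, one_mulVec]
  obtain ⟨hc', hg', -⟩ := conj_lev_parts hA hCu g
  have hmax' := hmax.of_conj _ (rank_conj_lev hA hCu g)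
  obtain ⟨N, hN⟩ : ∃ N, N = mkG hA (lev C⁻¹ 1) * g * (mkG hA (lev C⁻¹ 1))⁻¹ := ⟨_, rfl⟩
  rw [← hN] at hmax' hc' hg'
  have hNr : (gblk (toM N)).rank + 1 = Fintype.card α := by rw [hN, rank_conj_lev hA hCu g, hk]
  obtain ⟨s, hs⟩ : ∃ s, s = C⁻¹ *ᵥ s₀ := ⟨_, rfl⟩
  have hgs : gblk (toM N) *ᵥ s = 0 := by rw [hg', hs, ← mulVec_mulVec, hCC, ← mulVec_mulVec, hs₀', mulVec_zero]
  have hds : dblk (toM N) *ᵥ s = 0 := dblk_mulVec_ker han N hgs
  have hsx : s x = 0 := by rw [hs, hx, hp]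
  obtain ⟨r, hr⟩ : ∃ r, r = corner (toM N) *ᵥ s := ⟨_, rfl⟩
  have hrx : r x ≠ 0 := by
    rw [hr, hc', hs, ← mulVec_mulVec, hCC, ← mulVec_mulVec, hx]; exact hpz
  have hrg : r ᵥ* gblk (toM N) = 0 := hr ▸ corner_mem_left_ker N hgs hds
  have hone : ∀ v, gblk (toM N) *ᵥ v = 0 → ∃ c : F, v = c • s := fun v hv => by
    rw [hg', ← mulVec_mulVec, ← mulVec_mulVec] at hv
    obtain ⟨c, hc⟩ := hgen (C *ᵥ v) (by
      have := congrArg (fun w => (Cᵀ)⁻¹ *ᵥ w) hv
      simpa [mulVec_mulVec, nonsing_inv_mul _ (show IsUnit (Cᵀ).det by rwa [det_transpose]), ← Matrix.mul_assoc]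
        using this)
    exact ⟨c, by rw [hs, ← mulVec_smul, ← hc, hCC']⟩
  obtain ⟨l, hl, hlx⟩ : ∃ l : α → F, l ᵥ* gblk (toM N) = Pi.single x 1 ∧ l x = 0 := by
    let φ : (α → F) →ₗ[F] F := dotProductBilin F F s
    have hle : LinearMap.range (gblk (toM N))ᵀ.mulVecLin ≤ LinearMap.ker φ := by
      rintro v ⟨w, rfl⟩
      rw [LinearMap.mem_ker]
      show s ⬝ᵥ (gblk (toM N))ᵀ *ᵥ w = 0
      rw [dotProduct_mulVec, vecMul_transpose, hgs, zero_dotProduct]
    have hs0 : s ≠ 0 := fun h => hs₀ne (Subtype.ext (by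
      show s₀ = 0
      have e := hCC s₀
      rw [← hs, h, mulVec_zero] at e
      exact e.symm))
    have hr1 : 0 < Module.finrank F (LinearMap.range φ) := by
      obtain ⟨i, hi⟩ := Function.ne_iff.1 hs0
      refine Module.finrank_pos_iff_exists_ne_zero.2 ⟨⟨φ (Pi.single i 1), _, rfl⟩, fun h => hi ?_⟩
      simpa [φ] using congrArg Subtype.val h
    have h1 := φ.finrank_range_add_finrank_ker
    rw [Module.finrank_pi] at h1
    have heq := Submodule.eq_of_le_of_finrank_le hle (by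
      change _ ≤ (gblk (toM N))ᵀ.rank
      rw [rank_transpose]; omega)
    obtain ⟨l₀, hl₀⟩ : Pi.single x 1 ∈ LinearMap.range (gblk (toM N))ᵀ.mulVecLin := by
      rw [heq, LinearMap.mem_ker]
      show s ⬝ᵥ Pi.single x 1 = 0
      simp [hsx]
    refine ⟨l₀ - (l₀ x / r x) • r, ?_, by simp [hrx]⟩
    rw [sub_vecMul, smul_vecMul, hrg, smul_zero, sub_zero, ← mulVec_transpose]
    exact hl₀
  obtain ⟨L, hL⟩ : ∃ L : (β → F) →ₗ[F] F,
      L = dotProductBilin F F (fun u => ∑ i, l i * toM N (.inr (.inr i)) (.inr (.inl u))) := ⟨_, rfl⟩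
  obtain ⟨C₀, hC₀⟩ : ∃ C₀, C₀ = ∑ i, l i * toM N (.inr (.inr i)) (.inr (.inr x)) := ⟨_, rfl⟩
  have hlg : (∑ i, l i * gblk (toM N) i x) = 1 := by simpa [vecMul, dotProduct] using congrFun hl x
  have hq : ∀ w : β → F, (∑ i, l i * gblk (toM ((nbG hA x w)⁻¹ * N * nbG hA x w)) i x) =
      -(w ⬝ᵥ A *ᵥ w) + L w + C₀ := by
    intro w
    have e : ∀ i, l i * gblk (toM ((nbG hA x w)⁻¹ * N * nbG hA x w)) i x =
        -(w ⬝ᵥ A *ᵥ w) * (l i * gblk (toM N) i x) + ∑ u, l i * toM N (.inr (.inr i)) (.inr (.inl u)) * w u +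
          l i * toM N (.inr (.inr i)) (.inr (.inr x)) := by
      intro i
      rcases eq_or_ne i x with rfl | hi
      · simp [hlx]
      · have ev : (toM N *ᵥ nbVec A x w) (.inr (.inr i)) = -(w ⬝ᵥ A *ᵥ w) * gblk (toM N) i x +
            ∑ u, toM N (.inr (.inr i)) (.inr (.inl u)) * w u + toM N (.inr (.inr i)) (.inr (.inr x)) := by
          have e3 : ∀ z : Idx α β → F, (toM N *ᵥ z) (.inr (.inr i)) = ∑ j, toM N (.inr (.inr i)) j * z j :=
            fun z => rfl
          rw [e3, Fintype.sum_sum_type, Fintype.sum_sum_type]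
          simp only [nbVec, Sum.elim_inl, Sum.elim_inr, Pi.single_apply, mul_ite, mul_zero, mul_one,
            Finset.sum_ite_eq', Finset.mem_univ, if_true, gblk_apply]
          ring
        rw [gblk_nb, if_neg hi, if_pos rfl, dot_polM]
        simp only [Pi.single_apply, ite_mul, one_mul, zero_mul, Sum.inl.injEq, reduceCtorEq, if_false,
          Finset.sum_ite_eq', Finset.mem_univ, if_true, Function.comp_def, Finset.sum_const_zero, add_zero]
        rw [show (fun _ : β => (0 : F)) = 0 from rfl, zero_dotProduct, add_zero, ev, mul_add, mul_add, Finset.mul_sum]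
        simp only [mul_assoc]
        ring
    rw [Finset.sum_congr rfl fun i _ => e i, Finset.sum_add_distrib, Finset.sum_add_distrib, ← Finset.mul_sum,
      hlg, ← hC₀, mul_one, hL, Finset.sum_comm]
    congr 2
    show _ = dotProductBilin F F _ w
    simp [dotProductBilin, dotProduct, Finset.sum_mul]
  obtain ⟨w, hw⟩ := exists_ne_quad hA L C₀
  obtain ⟨g', hg''⟩ : ∃ g', g' = gblk (toM ((nbG hA x w)⁻¹ * N * nbG hA x w)) := ⟨_, rfl⟩
  have hm : g'.rank ≤ (gblk (toM N)).rank := by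
    have := hmax' (nbG hA x w)⁻¹
    rwa [inv_inv, ← hg''] at this
  have hinj : ∀ v, g' *ᵥ v = 0 → v = 0 := by
    intro v hv
    have hrow : ∀ i, i ≠ x → (gblk (toM N) *ᵥ v) i + v x * (g' i x - gblk (toM N) i x) = 0 := by
      intro i hi
      have e := congrFun hv i
      simp only [mulVec, dotProduct, Pi.zero_apply] at e ⊢
      rw [← e, ← Finset.add_sum_erase _ _ (Finset.mem_univ x),
        ← Finset.add_sum_erase _ (fun l => g' i l * v l) (Finset.mem_univ x)]
      have : ∑ l ∈ Finset.univ.erase x, g' i l * v l = ∑ l ∈ Finset.univ.erase x, gblk (toM N) i l * v l :=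
        Finset.sum_congr rfl fun l hl => by rw [hg'', gblk_nb_of_ne hA N x w hi (Finset.mem_erase.1 hl).1]
      rw [this]
      ring
    have hvx : v x = 0 := by
      have e : ∑ i, l i * ((gblk (toM N) *ᵥ v) i + v x * (g' i x - gblk (toM N) i x)) = 0 :=
        Finset.sum_eq_zero fun i _ => by
          rcases eq_or_ne i x with rfl | hi
          · rw [hlx, zero_mul]
          · rw [hrow i hi, mul_zero]
      have e1 : ∑ i, l i * (gblk (toM N) *ᵥ v) i = v x := by
        show l ⬝ᵥ gblk (toM N) *ᵥ v = v x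
        rw [dotProduct_mulVec, hl, single_dotProduct, one_mul]
      have e2 : ∀ i, l i * (v x * (g' i x - gblk (toM N) i x)) =
          v x * (l i * g' i x) - v x * (l i * gblk (toM N) i x) := fun i => by ring
      rw [Finset.sum_congr rfl fun i _ => mul_add (l i) _ _, Finset.sum_add_distrib, e1,
        Finset.sum_congr rfl fun i _ => e2 i, Finset.sum_sub_distrib, ← Finset.mul_sum, ← Finset.mul_sum, hlg,
        hg'', hq w] at e
      exact (mul_eq_zero.1 (show v x * (-(w ⬝ᵥ A *ᵥ w) + L w + C₀) = 0 by linear_combination e)).resolve_right hw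
    have hgv : gblk (toM N) *ᵥ v = 0 := by
      funext i
      rcases eq_or_ne i x with rfl | hi
      · have e : r ⬝ᵥ gblk (toM N) *ᵥ v = 0 := by rw [dotProduct_mulVec, hrg, zero_dotProduct]
        rw [dotProduct, Finset.sum_eq_single i] at e
        · exact (mul_eq_zero.1 e).resolve_left hrx
        · intro j _ hj
          have := hrow j hj
          rw [hvx, zero_mul, add_zero] at this
          rw [this, mul_zero]
        · simp
      · have := hrow i hi
        rw [hvx, zero_mul, add_zero] at this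
        exact this
    obtain ⟨c, rfl⟩ := hone v hgv
    have e := congrFun hv x
    simp only [mulVec, dotProduct, Pi.zero_apply] at e
    have hsum : ∑ l, g' x l * (c • s) l = c * r x := by
      have h1 : ∀ l, g' x l * (c • s) l =
          c * (-(w ⬝ᵥ A *ᵥ w) * (gblk (toM N) x l * s l) +
            (∑ u, (w ᵥ* gB A) u * (dblk (toM N) u l * s l)) + corner (toM N) x l * s l) := fun l => by
        rcases eq_or_ne l x with rfl | hl
        · simp [hsx]
        · have hd : ∑ u, (w ᵥ* gB A) u * (dblk (toM N) u l * s l) =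
              (w ⬝ᵥ gB A *ᵥ fun u => dblk (toM N) u l) * s l := by
            rw [dotProduct_mulVec, dotProduct, Finset.sum_mul]
            simp only [mul_assoc]
          rw [hd, hg'', gblk_nb_row hA N x w hl, Pi.smul_apply, smul_eq_mul]
          ring
      rw [Finset.sum_congr rfl fun l _ => h1 l, ← Finset.mul_sum, Finset.sum_add_distrib, Finset.sum_add_distrib,
        ← Finset.mul_sum, Finset.sum_comm]
      have g1 : ∑ l, gblk (toM N) x l * s l = 0 := congrFun hgs x
      have g2 : ∀ u, ∑ l, dblk (toM N) u l * s l = 0 := fun u => congrFun hds u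
      simp only [← Finset.mul_sum, g1, g2, mul_zero, Finset.sum_const_zero, zero_add, hr]
      simp [mulVec, dotProduct]
    rw [hsum] at e
    rw [(mul_eq_zero.1 e).resolve_right hrx, zero_smul]
  have : g'.rank = Fintype.card α := by
    rw [Matrix.rank, LinearMap.finrank_range_of_inj, Module.finrank_pi]
    exact (injective_iff_map_eq_zero g'.mulVecLin).2 hinj
  omega

end CfsgLib.OmegaEvenComm
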