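import Cfsg.Agent.Lib.Classical.OmegaEvenComm.Tail

/-!
# Renamings, and moving one hyperbolic pair into the middle
-/

set_option autoImplicit false
set_option linter.unusedSectionVars false
set_option linter.unusedSimpArgs false

namespace CfsgLib.OmegaEvenComm

open Matrix CfsgLib.SUComm CfsgLib.Classical CfsgLib.Classical.Spin

variable {F : Type*} [Field F] {α α' β ρ : Type} [Fintype α] [DecidableEq α] [Fintype α'] [DecidableEq α']
  [Fintype β] [DecidableEq β] [Fintype ρ] [DecidableEq ρ] {A : Matrix β β F}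

/-- The hyperbolic plane. -/
def hypA (F : Type*) [Zero F] [One F] : Matrix (Fin 2) (Fin 2) F := !![0, 1; 0, 0]

theorem hypA_quad (w : Fin 2 → F) : w ⬝ᵥ hypA F *ᵥ w = w 0 * w 1 := by
  simp [hypA, dotProduct, mulVec, Fin.sum_univ_two]

theorem isUnit_gB_hypA : IsUnit (gB (hypA F)).det := by
  simp [gB, hypA, det_fin_two]

/-- A renaming of the hyperbolic pairs. -/
def renE (σ : α' ≃ α) (β : Type) : Idx α' β ≃ Idx α β := Equiv.sumCongr σ (Equiv.sumCongr (Equiv.refl β) σ)

theorem qG_ren (σ : α' ≃ α) (v : Idx α β → F) : qG A α' (v ∘ renE σ β) = qG A α v := by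
  conv_lhs => rw [← elim_parts (v ∘ renE σ β), qG_elim]
  conv_rhs => rw [← elim_parts v, qG_elim]
  refine congrArg₂ (· + ·) ?_ rfl
  exact Fintype.sum_equiv σ _ _ fun i => rfl

/-- The element in renamed coordinates. -/
noncomputable def renG (hA : IsUnit (gB A).det) (σ : α' ≃ α) : Grp A α →* Grp A α' :=
  tr hA (renE σ β) (qG_ren σ)

theorem toM_renG (hA : IsUnit (gB A).det) (σ : α' ≃ α) (g : Grp A α) :
    toM (renG hA σ g) = (toM g).submatrix (renE σ β) (renE σ β) := toM_tr hA _ _ g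

theorem gblk_submatrix_ren (σ : α' ≃ α) (M : Mat F α β) :
    gblk (M.submatrix (renE σ β) (renE σ β)) = (gblk M).submatrix σ σ := rfl

theorem corner_submatrix_ren (σ : α' ≃ α) (M : Mat F α β) :
    corner (M.submatrix (renE σ β) (renE σ β)) = (corner M).submatrix σ σ := rfl

theorem dblk_submatrix_ren (σ : α' ≃ α) (M : Mat F α β) :
    dblk (M.submatrix (renE σ β) (renE σ β)) = (dblk M).submatrix id σ := rfl

/-- The pair `σ (inr 0)` becomes the middle. -/
def hypE [IsEmpty β] (σ : α' ⊕ Fin 1 ≃ α) : Idx α' (Fin 2) ≃ Idx α β where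
  toFun := Sum.elim (fun i => .inl (σ (.inl i))) (Sum.elim
    (fun u => if u = 0 then .inl (σ (.inr 0)) else .inr (.inr (σ (.inr 0)))) fun i => .inr (.inr (σ (.inl i))))
  invFun := Sum.elim (fun j => Sum.elim (fun i => .inl i) (fun _ => .inr (.inl 0)) (σ.symm j)) (Sum.elim isEmptyElim
    fun j => Sum.elim (fun i => .inr (.inr i)) (fun _ => .inr (.inl 1)) (σ.symm j))
  left_inv x := by
    rcases x with i | u | i
    · simp
    · fin_cases u <;> simp
    · simp
  right_inv x := by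
    rcases x with j | u | j
    · obtain ⟨j, rfl⟩ := σ.surjective j
      rcases j with j | j
      · simp
      · simp [Subsingleton.elim j 0]
    · exact isEmptyElim u
    · obtain ⟨j, rfl⟩ := σ.surjective j
      rcases j with j | j
      · simp
      · simp [Subsingleton.elim j 0]

theorem qG_hyp [IsEmpty β] (σ : α' ⊕ Fin 1 ≃ α) (v : Idx α β → F) :
    qG (hypA F) α' (v ∘ hypE σ) = qG A α v := by
  conv_lhs => rw [← elim_parts (v ∘ hypE σ), qG_elim, hypA_quad]
  conv_rhs => rw [← elim_parts v, qG_elim]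
  simp only [dotProduct, Finset.univ_eq_empty, Finset.sum_empty, add_zero]
  rw [← Equiv.sum_comp σ, Fintype.sum_sum_type, Fin.sum_univ_one]
  simp [hypE]

/-- The element in the hyperbolic frame. -/
noncomputable def hypG [IsEmpty β] (σ : α' ⊕ Fin 1 ≃ α) : Grp A α →* Grp (hypA F) α' :=
  tr isUnit_gB_hypA (hypE σ) (qG_hyp σ)

theorem toM_hypG [IsEmpty β] (σ : α' ⊕ Fin 1 ≃ α) (g : Grp A α) :
    toM (hypG σ g) = (toM g).submatrix (hypE σ) (hypE σ) := toM_tr isUnit_gB_hypA _ _ g

theorem gblk_submatrix_hyp [IsEmpty β] (σ : α' ⊕ Fin 1 ≃ α) (M : Mat F α β) :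
    gblk (M.submatrix (hypE σ) (hypE σ)) = (gblk M).submatrix (fun i => σ (.inl i)) (fun i => σ (.inl i)) := rfl

variable [Fintype F]

theorem IsC.of_ren (hA : IsUnit (gB A).det) (σ : α' ≃ α) {g : Grp A α} (h : IsC (renG hA σ g)) : IsC g :=
  IsC.of_tr hA hA (renE σ β) (qG_ren σ) h

theorem IsC.of_hyp [IsEmpty β] (hA : IsUnit (gB A).det) (σ : α' ⊕ Fin 1 ≃ α) {g : Grp A α} (h : IsC (hypG σ g)) :
    IsC g :=
  IsC.of_tr hA isUnit_gB_hypA (hypE σ) (qG_hyp σ) h

/-! ### The middle forms -/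

theorem cls2_of_isEmpty [IsEmpty β] : Cls2 A := fun e _ => Or.inl (Subsingleton.elim _ _)

theorem two_of_isEmpty [IsEmpty β] : Two A := fun _ => Or.inl inferInstance

theorem odd2_of_isEmpty [IsEmpty β] : Odd2 A := fun _ =>
  ⟨1, Or.inl rfl, by rw [Matrix.det_isEmpty]; exact isUnit_one, by rw [Matrix.det_isEmpty]; exact isUnit_one⟩

theorem two_of_card_ne (h : Fintype.card F ≠ 2) : Two A := fun e => absurd e h

end CfsgLib.OmegaEvenComm
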