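import Cfsg.Agent.Lib.Classical.OmegaEvenComm.Cases

/-!
# A scalar on a large hyperbolic summand
-/

set_option autoImplicit false
set_option linter.unusedSectionVars false
set_option linter.unusedSimpArgs false

namespace CfsgLib.OmegaEvenComm

open Matrix CfsgLib.SUComm CfsgLib.Classical CfsgLib.Classical.Spin
open CfsgLib.OmegaComm (Tail tail_neg)

variable {F : Type*} [Field F] [Fintype F] {α β : Type} [Fintype α] [DecidableEq α] [Fintype β] [DecidableEq β]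
  {A : Matrix β β F}

theorem emb_ren_split {k e s : ℕ} (M : Mat F (Fin k) β) (l : F) :
    (emb M (l • (1 : Matrix (Fin (e + s)) (Fin (e + s)) F)) (l • 1)).submatrix
        (renE ((Equiv.sumAssoc _ _ _).trans (Equiv.sumCongr (Equiv.refl (Fin k)) finSumFinEquiv)) β)
        (renE ((Equiv.sumAssoc _ _ _).trans (Equiv.sumCongr (Equiv.refl (Fin k)) finSumFinEquiv)) β) =
      emb (emb M (l • (1 : Matrix (Fin e) (Fin e) F)) (l • 1)) (l • (1 : Matrix (Fin s) (Fin s) F)) (l • 1) := by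
  ext (((i | i) | i) | i | ((i | i) | i)) (((j | j) | j) | j | ((j | j) | j)) <;>
    simp [emb, embIdx, renE, Matrix.one_apply, Fin.ext_iff] <;> omega

/-- A scalar summand of dimension at least two. -/
theorem isC_split {k r : ℕ} (hA : IsUnit (gB A).det) (hc2 : Cls2 A) (hT : Two A) (hO : Odd2 A) (hk : 0 < k)
    (hr : 2 ≤ r) (hev : (∃ w : β → F, w ⬝ᵥ A *ᵥ w ≠ 0) ∨ Even k) {l : F} (hl : l * l = 1)
    (hbad : (∀ w : β → F, w ⬝ᵥ A *ᵥ w = 0) → l = 1 ∨ Even r ∨ ¬IsSquare (-1 : F))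
    {g : Grp A (Fin k ⊕ Fin r)} {g₀ : Grp A (Fin k)}
    (eg : toM g = emb (toM g₀) (l • (1 : Matrix (Fin r) (Fin r) F)) (l • 1)) (hG : IsUnit (gblk (toM g₀)).det)
    (hg : g ∈ commutator (Grp A (Fin k ⊕ Fin r))) : IsC g := by
  obtain ⟨e, s, rfl, he, hs, hsize, htail, hbad'⟩ : ∃ e s, r = e + s ∧ e ≤ 1 ∧ 0 < s ∧ (k + e = 2 → (2 : F) ≠ 0) ∧
      (l = 1 ∨ Even s) ∧ ((∀ w : β → F, w ⬝ᵥ A *ᵥ w = 0) → IsSquare (l ^ e) → l = 1 ∨ e = 0) := by
    rcases eq_or_ne l 1 with rfl | hl1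
    · by_cases hk2 : k = 2
      · exact ⟨1, r - 1, by omega, le_rfl, by omega, fun h => by omega, Or.inl rfl, fun _ _ => Or.inl rfl⟩
      · exact ⟨0, r, by omega, zero_le_one, by omega, fun h => absurd h (by omega), Or.inl rfl,
          fun _ _ => Or.inl rfl⟩
    · have hln : l = -1 := (mul_self_eq_one_iff.1 hl).resolve_left hl1
      have h2 : (2 : F) ≠ 0 := fun h => hl1 (by rw [hln]; linear_combination -h)
      rcases Nat.even_or_odd r with hr' | ⟨m, hm⟩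
      · exact ⟨0, r, by omega, zero_le_one, by omega, fun _ => h2, Or.inr hr', fun _ _ => Or.inr rfl⟩
      · refine ⟨1, r - 1, by omega, le_rfl, by omega, fun _ => h2, Or.inr ⟨m, by omega⟩, fun hw hsq => ?_⟩
        rcases hbad hw with h | ⟨m', hm'⟩ | h
        · exact absurd h hl1
        · omega
        · rw [pow_one, hln] at hsq
          exact absurd hsq h
  refine IsC.of_ren hA ((Equiv.sumAssoc _ _ _).trans (Equiv.sumCongr (Equiv.refl (Fin k)) finSumFinEquiv)) ?_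
  exact isC_tail (g₀ := g₀) hA hc2 hT hO hk hev he hs (by omega) hsize hl htail hbad'
    (by rw [toM_renG, eg, emb_ren_split]) hG (map_commutator_mem _ hg)

/-- The rearrangement that moves one scalar pair into the middle. -/
def hypSplit (k s : ℕ) : ((Fin k ⊕ Fin 0) ⊕ Fin s) ⊕ Fin 1 ≃ Fin k ⊕ Fin (s + 1) :=
  (Equiv.sumAssoc _ _ _).trans (Equiv.sumCongr (Equiv.sumEmpty (Fin k) (Fin 0)) finSumFinEquiv)

theorem emb_hyp_split [IsEmpty β] {k s : ℕ} (M : Mat F (Fin k) β) (l : F) :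
    (emb M (l • (1 : Matrix (Fin (s + 1)) (Fin (s + 1)) F)) (l • 1)).submatrix (hypE (hypSplit k s))
        (hypE (hypSplit k s)) =
      emb (emb ((emb M (l • (1 : Matrix (Fin 1) (Fin 1) F)) (l • 1)).submatrix (hypE (Equiv.refl (Fin k ⊕ Fin 1)))
        (hypE (Equiv.refl (Fin k ⊕ Fin 1)))) (l • (1 : Matrix (Fin 0) (Fin 0) F)) (l • 1))
        (l • (1 : Matrix (Fin s) (Fin s) F)) (l • 1) := by
  ext (((i | i) | i) | i | ((i | i) | i)) (((j | j) | j) | j | ((j | j) | j))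
  all_goals try exact i.elim0
  all_goals try exact j.elim0
  all_goals try fin_cases i
  all_goals try fin_cases j
  all_goals simp [emb, embIdx, hypE, hypSplit, Matrix.one_apply]
  all_goals simp [Fin.ext_iff] <;> omega

theorem isSquare_neg_one_card (h2 : (2 : F) ≠ 0) (h : IsSquare (-1 : F)) : 4 ≤ Fintype.card F := by
  by_contra hlt
  have h1 := Fintype.one_lt_card (α := F)
  have hne : Fintype.card F ≠ 2 := fun e => h2 (by
    have := FiniteField.cast_card_eq_zero F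
    rw [e] at this
    exact_mod_cast this)
  have h3 : Fintype.card F = 3 := by omega
  obtain ⟨x, hx⟩ := h
  have hx0 : x ≠ 0 := fun e => by simp [e] at hx
  have := FiniteField.pow_card_sub_one_eq_one x hx0
  rw [h3, show 3 - 1 = 2 from rfl] at this
  exact h2 (by linear_combination -this - hx)

/-- The exceptional parity: one scalar pair goes into the middle. -/
theorem isC_split_hyp [IsEmpty β] {k r : ℕ} (hA : IsUnit (gB A).det) (h2 : (2 : F) ≠ 0) (hsq : IsSquare (-1 : F))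
    (hk : 0 < k) (hr : 2 ≤ r) (hodd : Odd r) {g : Grp A (Fin k ⊕ Fin r)} {g₀ : Grp A (Fin k)}
    (eg : toM g = emb (toM g₀) ((-1 : F) • (1 : Matrix (Fin r) (Fin r) F)) ((-1 : F) • 1))
    (hG : IsUnit (gblk (toM g₀)).det) (hg : g ∈ commutator (Grp A (Fin k ⊕ Fin r))) : IsC g := by
  obtain ⟨m, hm⟩ := hodd
  obtain ⟨s, rfl⟩ : ∃ s, r = s + 1 := ⟨2 * m, hm⟩
  have hq := isSquare_neg_one_card h2 hsq
  obtain ⟨M₁, hM₁⟩ : ∃ M₁, M₁ = emb (toM g₀) ((-1 : F) • (1 : Matrix (Fin 1) (Fin 1) F)) ((-1 : F) • 1) := ⟨_, rfl⟩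
  have hI : Isom A M₁ := by
    have := isom_emb (isom_toM g₀) (R := (-1 : F) • (1 : Matrix (Fin 1) (Fin 1) F)) (by simp)
    rw [hM₁]
    rwa [inv_eq_right_inv (B := (-1 : F) • (1 : Matrix (Fin 1) (Fin 1) F)) (by simp), transpose_smul,
      transpose_one] at this
  obtain ⟨g₁, hg₁⟩ : ∃ g₁, g₁ = hypG (Equiv.refl (Fin k ⊕ Fin 1)) (mkG hA M₁) := ⟨_, rfl⟩
  have hg₁m : toM g₁ = M₁.submatrix (hypE (Equiv.refl (Fin k ⊕ Fin 1))) (hypE (Equiv.refl (Fin k ⊕ Fin 1))) := by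
    rw [hg₁, toM_hypG, toM_mkG hA hI]
  refine IsC.of_hyp hA (hypSplit k s) ?_
  refine isC_tail (g₀ := g₁) (e := 0) (l := (-1 : F)) isUnit_gB_hypA cls2_hypA (two_of_card_ne (by omega))
    (odd2_hypA hq) hk (Or.inl ⟨![1, -1], hypA_quad_vec one_ne_zero⟩) zero_le_one (by omega) (by omega) (fun _ => h2)
    (by simp) (Or.inr ⟨m, by omega⟩) (fun _ _ => Or.inr rfl) ?_ ?_ (map_commutator_mem _ hg)
  · rw [toM_hypG, eg, hg₁m, hM₁, emb_hyp_split]
  · rw [hg₁m, gblk_submatrix_hyp, hM₁, (parts_emb _ _ _).1]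
    exact hG

/-- A basis of a hyperplane and one vector off it. -/
theorem exists_ker_basis {k : ℕ} (f : (Fin k ⊕ Fin 1 → F) →ₗ[F] F) {y : Fin k ⊕ Fin 1 → F} (hfy : f y ≠ 0) :
    ∃ B : Matrix (Fin k ⊕ Fin 1) (Fin k ⊕ Fin 1) F, IsUnit B.det ∧ B *ᵥ Pi.single (.inr 0) 1 = y ∧
      ∀ (c : Fin k → F) (t : Fin 1 → F), f (B *ᵥ Sum.elim c t) = t 0 * f y := by
  classical
  have hker' : Module.finrank F (LinearMap.ker f) = k := by
    have h := f.finrank_range_add_finrank_ker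
    rw [LinearMap.range_eq_top.2 (LinearMap.surjective (fun e => hfy (by rw [e]; rfl))), finrank_top,
      Module.finrank_self, Module.finrank_pi, Fintype.card_sum, Fintype.card_fin, Fintype.card_fin] at h
    omega
  let b := Module.finBasisOfFinrankEq F (LinearMap.ker f) hker'
  obtain ⟨B, hB⟩ : ∃ B : Matrix (Fin k ⊕ Fin 1) (Fin k ⊕ Fin 1) F,
      B = Matrix.of fun i j => Sum.elim (fun c => (b c : Fin k ⊕ Fin 1 → F) i) (fun _ => y i) j := ⟨_, rfl⟩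
  have hBv : ∀ (c : Fin k → F) (t : Fin 1 → F), B *ᵥ Sum.elim c t =
      ((∑ i, c i • b i : LinearMap.ker f) : Fin k ⊕ Fin 1 → F) + t 0 • y := fun c t => by
    funext i
    simp [hB, mulVec, dotProduct, Fintype.sum_sum_type, Finset.sum_apply, mul_comm]
  refine ⟨B, ?_, by funext i; simp [hB, mulVec_single], fun c t => by
    rw [hBv, map_add, LinearMap.map_coe_ker, map_smul, zero_add, smul_eq_mul]⟩
  rw [isUnit_iff_ne_zero]
  intro h
  obtain ⟨u, hu0, hu⟩ := Matrix.exists_mulVec_eq_zero_iff.2 h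
  obtain ⟨c, t, rfl⟩ : ∃ c t, u = Sum.elim c t := ⟨_, _, (Sum.elim_comp_inl_inr u).symm⟩
  rw [hBv] at hu
  have ht : t 0 = 0 := by
    have := congrArg f hu
    rw [map_add, map_zero, LinearMap.map_coe_ker, map_smul, zero_add, smul_eq_mul] at this
    exact (mul_eq_zero.1 this).resolve_right hfy
  rw [ht, zero_smul, add_zero] at hu
  have hc : ∀ i, c i = 0 := Fintype.linearIndependent_iff.1 b.linearIndependent c (Subtype.ext hu)
  refine hu0 (funext fun i => ?_)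
  rcases i with i | i
  · exact hc i
  · rw [Subsingleton.elim i 0]; exact ht

/-- No middle, at least three elements, a kernel of dimension one. -/
theorem isC_one_hyp [IsEmpty β] {k : ℕ} (hA : IsUnit (gB A).det) (hF : Fintype.card F ≠ 2) (hk : 3 ≤ k)
    {g : Grp A (Fin k ⊕ Fin 1)} (hrk : (gblk (toM g)).rank = k) (hg : g ∈ commutator (Grp A (Fin k ⊕ Fin 1))) :
    IsC g := by
  classical
  have han : Aniso A := fun w _ => Subsingleton.elim _ _
  obtain ⟨Y, hYu, hY⟩ := exists_basis hrk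
  obtain ⟨y, hy⟩ : ∃ y, y = Y *ᵥ Pi.single (.inr 0) 1 := ⟨_, rfl⟩
  have hgy : gblk (toM g) *ᵥ y = 0 := hy ▸ hY 0
  obtain ⟨z, hz⟩ : ∃ z, z = corner (toM g) *ᵥ y := ⟨_, rfl⟩
  have hdy := dblk_mulVec_ker han g hgy
  have hzg : z ᵥ* gblk (toM g) = 0 := hz ▸ corner_mem_left_ker g hgy hdy
  have hy0 : y ≠ 0 := fun h => by
    have h1 := congrArg (fun v => Y⁻¹ *ᵥ v) (hy.symm.trans h)
    simp only [mulVec_mulVec, nonsing_inv_mul _ hYu, one_mulVec, mulVec_zero] at h1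
    have := congrFun h1 (Sum.inr 0)
    simp at this
  have hz0 : z ≠ 0 := fun h => hy0 (eq_zero_of_blocks g (hz ▸ h) hdy hgy)
  obtain ⟨f, hfy, hfz⟩ : ∃ f : (Fin k ⊕ Fin 1 → F) →ₗ[F] F, f y ≠ 0 ∧ f z ≠ 0 := by
    obtain ⟨i, hi⟩ := Function.ne_iff.1 hy0
    obtain ⟨j, hj⟩ := Function.ne_iff.1 hz0
    simp only [Pi.zero_apply] at hi hj
    by_cases h1 : z i = 0
    · by_cases h2 : y j = 0
      · obtain ⟨f, hf⟩ : ∃ f : (Fin k ⊕ Fin 1 → F) →ₗ[F] F,
            f = (LinearMap.proj i : (Fin k ⊕ Fin 1 → F) →ₗ[F] F) + LinearMap.proj j := ⟨_, rfl⟩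
        refine ⟨f, ?_, ?_⟩
        · rw [hf, LinearMap.add_apply, LinearMap.proj_apply, LinearMap.proj_apply, h2, add_zero]; exact hi
        · rw [hf, LinearMap.add_apply, LinearMap.proj_apply, LinearMap.proj_apply, h1, zero_add]; exact hj
      · exact ⟨LinearMap.proj j, by simpa using h2, by simpa using hj⟩
    · exact ⟨LinearMap.proj i, by simpa using hi, by simpa using h1⟩
  obtain ⟨B, hBu, hyB, hfB⟩ := exists_ker_basis f hfy
  obtain ⟨-, hcg, -⟩ := conj_lev_parts hA hBu g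
  obtain ⟨x, hx⟩ : ∃ x, x = mkG hA (lev B⁻¹ 1) := ⟨_, rfl⟩
  rw [← hx] at hcg
  obtain ⟨g', hg'⟩ : ∃ g', g' = x * g * x⁻¹ := ⟨_, rfl⟩
  rw [← hg'] at hcg
  have hgj : gblk (toM g') *ᵥ Pi.single (.inr 0) 1 = 0 := by
    rw [hcg, ← mulVec_mulVec, ← mulVec_mulVec, hyB, hgy, mulVec_zero]
  obtain ⟨c, t, hct⟩ : ∃ c t, B⁻¹ *ᵥ z = Sum.elim c t := ⟨_, _, (Sum.elim_comp_inl_inr _).symm⟩
  have hzB : B *ᵥ Sum.elim c t = z := by rw [← hct, mulVec_mulVec, mul_nonsing_inv _ hBu, one_mulVec]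
  have ht : t 0 ≠ 0 := fun e => hfz (by rw [← hzB, hfB, e, zero_mul])
  have hleft : Sum.elim c t ᵥ* gblk (toM g') = 0 := by
    rw [hcg, ← vecMul_vecMul, ← vecMul_vecMul, ← mulVec_transpose Bᵀ, transpose_transpose, hzB, hzg, zero_vecMul]
  obtain ⟨G, hG⟩ : ∃ G, G = (gblk (toM g')).toBlocks₁₁ := ⟨_, rfl⟩
  obtain ⟨X, hX⟩ : ∃ X : Matrix (Fin 1) (Fin k) F, X = Matrix.of fun _ j => -(t 0)⁻¹ * c j := ⟨_, rfl⟩
  have hg0 : gblk (toM g') = fromBlocks 1 0 X 0 * fromBlocks G 0 0 0 := by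
    rw [fromBlocks_multiply]
    ext (i | i) (j | j)
    · simp [hG, toBlocks₁₁]
    · simpa [mulVec_single, Subsingleton.elim j 0] using congrFun hgj (.inl i)
    · have h := congrFun hleft (.inl j)
      simp [vecMul, dotProduct, Fintype.sum_sum_type] at h
      simp [hG, hX, Matrix.mul_apply, toBlocks₁₁, Subsingleton.elim i 0, mul_assoc, ← Finset.mul_sum]
      field_simp
      linear_combination h
    · simpa [mulVec_single, Subsingleton.elim j 0] using congrFun hgj (.inr i)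
  have hGu : IsUnit G.det := by
    refine isUnit_det_of_rank (le_antisymm ((Matrix.rank_le_card_width G).trans (by simp)) ?_)
    have h1 : (gblk (toM g')).rank = k := by rw [hg', hx, rank_conj_lev hA hBu, hrk]
    rw [← rank_fromBlocks_zero (r := 1) G]
    rw [hg0] at h1
    exact h1.symm.le.trans (Matrix.rank_mul_le_right _ _)
  refine IsC.of_conj (z := x) ?_
  rw [← hg']
  refine IsC.of_hyp hA (Equiv.refl (Fin k ⊕ Fin 1)) (isC_full isUnit_gB_hypA cls2_hypA (two_of_card_ne hF) hk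
    (Or.inl ⟨![1, -1], hypA_quad_vec one_ne_zero⟩) ?_ (map_commutator_mem _ ?_))
  · rw [toM_hypG, gblk_submatrix_hyp]
    exact (show IsUnit ((gblk (toM g')).submatrix Sum.inl Sum.inl).det by rw [hG] at hGu; exact hGu)
  · exact hg' ▸ Subgroup.Normal.conj_mem inferInstance g hg x

/-! ### Minus one -/

/-- Minus one without middle, in even rank. -/
theorem isC_neg_even [IsEmpty β] {n : ℕ} (hA : IsUnit (gB A).det) (h2 : (2 : F) ≠ 0) (hn : 3 ≤ n) (he : Even n)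
    {g : Grp A (Fin n)} (e : toM g = (-1 : F) • 1) : IsC g := by
  obtain ⟨D, θ, hΩ, hlev, -⟩ := exists_cls (α := Fin n) hA (by simpa using hn)
  obtain ⟨R, R', hRu, hR'u, hsq, hsq', hRR⟩ := (tail_neg h2 he (by omega)).2 1 1 one_ne_zero one_ne_zero
  rw [one_mul] at hsq hsq'
  refine ⟨mkG hA (lev R 1), (hΩ _).2 ⟨(hlev R hRu).1, (hlev R hRu).2.trans (sqSign_eq_one.2 hsq)⟩,
    mkG hA (lev R' 1), (hΩ _).2 ⟨(hlev R' hR'u).1, (hlev R' hR'u).2.trans (sqSign_eq_one.2 hsq')⟩, ?_⟩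
  rw [eq_mul_inv_iff_mul_eq, eq_mul_inv_iff_mul_eq]
  refine toM_injective ?_
  rw [toM_mul, toM_mul, toM_mul, toM_mkG hA (isom_lev hRu (midIso_one A)), toM_mkG hA (isom_lev hR'u (midIso_one A)),
    e, Matrix.smul_mul, Matrix.one_mul, Matrix.smul_mul, lev_mul, lev_mul, ← hRR]
  have hu : IsUnit (R' * R).det := by rw [det_mul]; exact hR'u.mul hRu
  have hinv : ((-1 : F) • (R' * R))⁻¹ = (-1 : F) • (R' * R)⁻¹ :=
    inv_eq_right_inv (by rw [Matrix.smul_mul, Matrix.mul_smul, smul_smul, mul_nonsing_inv _ hu]; simp)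
  rw [lev, lev, hinv]
  ext (i | i | i) (j | j | j) <;> first | exact isEmptyElim i | exact isEmptyElim j | simp [blk]

theorem matrix_eq_of_basis {M N : Matrix (Fin 2) (Fin 2) F} {w z : Fin 2 → F}
    (hd : w 0 * z 1 - z 0 * w 1 ≠ 0) (hw : M *ᵥ w = N *ᵥ w) (hz : M *ᵥ z = N *ᵥ z) : M = N := by
  have h0 := congrFun hw 0
  have h1 := congrFun hw 1
  have h2 := congrFun hz 0
  have h3 := congrFun hz 1
  simp [mulVec, dotProduct, Fin.sum_univ_two] at h0 h1 h2 h3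
  ext i j
  refine mul_left_cancel₀ hd ?_
  fin_cases i <;> fin_cases j <;> simp only [Fin.zero_eta, Fin.mk_one, Fin.isValue] <;> grind

/-- An orthogonal pair of equal norms in a middle plane. -/
theorem orth_pair {A : Matrix (Fin 2) (Fin 2) F} (h2 : (2 : F) ≠ 0) {w z : Fin 2 → F} (hw : w ⬝ᵥ A *ᵥ w ≠ 0)
    (hz : z ⬝ᵥ A *ᵥ z ≠ 0) (ho : w ⬝ᵥ gB A *ᵥ z = 0) :
    w 0 * z 1 - z 0 * w 1 ≠ 0 ∧ midRefl A w * midRefl A z = -1 := by
  have hd : w 0 * z 1 - z 0 * w 1 ≠ 0 := by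
    intro h
    have key : ∀ i : Fin 2, z i • w = w i • z := fun i => by
      funext j
      fin_cases i <;> fin_cases j <;> simp <;> grind
    have hz' : ∀ i, z i = 0 := fun i => by
      have := congrArg (fun v => w ⬝ᵥ gB A *ᵥ v) (key i)
      simp only [mulVec_smul, dotProduct_smul, smul_eq_mul, ho, mul_zero] at this
      rw [dot_gB, ← two_mul, mul_eq_zero, mul_eq_zero] at this
      exact this.resolve_right (fun h' => h'.elim h2 hw)
    exact hz (by rw [show z = 0 from funext hz']; simp)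
  refine ⟨hd, matrix_eq_of_basis hd ?_ ?_⟩
  all_goals rw [← mulVec_mulVec, midRefl_mulVec, midRefl_mulVec, neg_mulVec, one_mulVec]
  · rw [ho, mul_zero, zero_smul, sub_zero, dot_gB A w w, ← two_mul, mul_left_comm, inv_mul_cancel₀ hw, mul_one]
    module
  · rw [sub_dotProduct, smul_dotProduct, dot_gB_comm A z w, ho, smul_eq_mul, mul_zero, sub_zero, mul_zero,
      zero_smul, sub_zero, dot_gB A z z, ← two_mul, mul_left_comm, inv_mul_cancel₀ hz, mul_one]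
    module

theorem flipM_commute {γ : Type} [Fintype γ] [DecidableEq γ] (d : F) {R : Matrix γ γ F} (hR : IsUnit R.det)
    (hd : d ≠ 0) (τ : Matrix β β F) :
    let B := fromBlocks (!![1, 0; 0, d] : Matrix (Fin 2) (Fin 2) F) 0 0 R
    (flipM (Sum.inl 0) : Mat F (Fin 2 ⊕ γ) β) * lev B τ = lev B τ * flipM (Sum.inl 0) := by
  intro B
  have hB : B⁻¹ = fromBlocks (!![1, 0; 0, d⁻¹] : Matrix (Fin 2) (Fin 2) F) 0 0 R⁻¹ := inv_eq_right_inv (by
    rw [fromBlocks_multiply, mul_nonsing_inv _ hR]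
    rw [← fromBlocks_one]
    simp only [Matrix.mul_zero, Matrix.zero_mul, add_zero, zero_add, fromBlocks_inj, and_true, true_and]
    ext i j
    fin_cases i <;> fin_cases j <;> simp [Matrix.mul_apply, Fin.sum_univ_two, hd])
  refine Matrix.ext_of_mulVec_single fun j => ?_
  obtain ⟨x, w, y, hv⟩ : ∃ x w y, (Pi.single j 1 : Idx (Fin 2 ⊕ γ) β → F) = Sum.elim x (Sum.elim w y) :=
    ⟨_, _, _, (elim_parts _).symm⟩
  rw [hv, ← mulVec_mulVec, ← mulVec_mulVec, lev_mulVec, flipM_mulVec, flipM_mulVec,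
    ← elim_parts (Sum.elim x (Sum.elim w y) ∘ _), lev_mulVec, hB, fromBlocks_transpose]
  funext i
  rcases i with (i | i) | i | (i | i)
  · fin_cases i <;>
      simp [B, Equiv.swap_apply_def, fromBlocks_mulVec, mulVec, dotProduct, Fin.sum_univ_two, Fintype.sum_sum_type]
  · simp [B, Equiv.swap_apply_def, fromBlocks_mulVec, mulVec, dotProduct, Fin.sum_univ_two, Fintype.sum_sum_type]
  · simp [B, Equiv.swap_apply_def, fromBlocks_mulVec, mulVec, dotProduct, Fin.sum_univ_two, Fintype.sum_sum_type]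
  · fin_cases i <;>
      simp [B, Equiv.swap_apply_def, fromBlocks_mulVec, mulVec, dotProduct, Fin.sum_univ_two, Fintype.sum_sum_type]
  · simp [B, Equiv.swap_apply_def, fromBlocks_mulVec, mulVec, dotProduct, Fin.sum_univ_two, Fintype.sum_sum_type]

/-- Minus one with a middle plane having an orthogonal pair of equal norms. -/
theorem isC_neg_mid {A : Matrix (Fin 2) (Fin 2) F} (hA : IsUnit (gB A).det) (h2 : (2 : F) ≠ 0) {n : ℕ} (hn : 4 ≤ n)
    (he : Even n) {w z : Fin 2 → F} (hw : w ⬝ᵥ A *ᵥ w ≠ 0) (hq : z ⬝ᵥ A *ᵥ z = w ⬝ᵥ A *ᵥ w)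
    (ho : w ⬝ᵥ gB A *ᵥ z = 0) {g : Grp A (Fin n)} (e : toM g = (-1 : F) • 1) : IsC g := by
  obtain ⟨m, rfl⟩ : ∃ m, n = 2 + m := ⟨n - 2, by omega⟩
  refine IsC.of_ren hA finSumFinEquiv ?_
  have e' : toM (renG hA (finSumFinEquiv (m := 2) (n := m)) g) = (-1 : F) • 1 := by
    rw [toM_renG, e, ← submatrix_one_equiv (α := F) (renE (finSumFinEquiv (m := 2) (n := m)) (Fin 2))]; rfl
  obtain ⟨g', hg'⟩ : ∃ g', g' = renG hA (finSumFinEquiv (m := 2) (n := m)) g := ⟨_, rfl⟩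
  rw [← hg'] at e' ⊢
  obtain ⟨D, θ, hΩ, hlev, hmid, hflip, -⟩ := exists_cls (α := Fin 2 ⊕ Fin m) hA (by simp; omega)
  have hm : Even m := by obtain ⟨p, hp⟩ := he; exact ⟨p - 1, by omega⟩
  obtain ⟨hd, -⟩ := orth_pair h2 hw (hq ▸ hw) ho
  have hwz : (w + z) ⬝ᵥ A *ᵥ (w + z) ≠ 0 := by
    rw [dot_gB] at ho
    rw [show (w + z) ⬝ᵥ A *ᵥ (w + z) = 2 * (w ⬝ᵥ A *ᵥ w) by
      simp only [mulVec_add, dotProduct_add, add_dotProduct]; linear_combination ho + hq]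
    exact mul_ne_zero h2 hw
  obtain ⟨σ, hσ⟩ : ∃ σ, σ = midRefl A w := ⟨_, rfl⟩
  obtain ⟨ρ, hρ⟩ : ∃ ρ, ρ = midRefl A (w + z) := ⟨_, rfl⟩
  have hσm : MidIso A σ := hσ ▸ midIso_midRefl A hw
  have hρm : MidIso A ρ := hρ ▸ midIso_midRefl A hwz
  have hσσ : σ * σ = 1 := hσ ▸ midRefl_mul_self A hw
  have hqs : (w + z) ⬝ᵥ A *ᵥ (w + z) = 2 * (w ⬝ᵥ A *ᵥ w) := by
    have h := ho
    rw [dot_gB] at h
    simp only [mulVec_add, dotProduct_add, add_dotProduct]; linear_combination h + hq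
  have act : σ *ᵥ w = -w ∧ σ *ᵥ z = z ∧ ρ *ᵥ w = -z ∧ ρ *ᵥ z = -w := by
    have hww : w ⬝ᵥ gB A *ᵥ w = 2 * (w ⬝ᵥ A *ᵥ w) := by rw [dot_gB, two_mul]
    have hzz : z ⬝ᵥ gB A *ᵥ z = 2 * (w ⬝ᵥ A *ᵥ w) := by rw [dot_gB, two_mul, hq]
    have hzw : z ⬝ᵥ gB A *ᵥ w = 0 := by rw [dot_gB_comm]; exact ho
    refine ⟨?_, ?_, ?_, ?_⟩
    · rw [hσ, midRefl_mulVec, hww, mul_left_comm, inv_mul_cancel₀ hw, mul_one]; module
    · rw [hσ, midRefl_mulVec, hzw, mul_zero, zero_smul, sub_zero]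
    · rw [hρ, midRefl_mulVec, hqs, mulVec_add, dotProduct_add, hww, ho, add_zero, inv_mul_cancel₀ (mul_ne_zero h2 hw)]
      module
    · rw [hρ, midRefl_mulVec, hqs, mulVec_add, dotProduct_add, hzz, hzw, zero_add, inv_mul_cancel₀ (mul_ne_zero h2 hw)]
      module
  have hanti : σ * (σ * ρ) = -(σ * ρ * σ) := by
    refine matrix_eq_of_basis hd ?_ ?_
    all_goals simp only [neg_mulVec, ← mulVec_mulVec, act.1, act.2.1, act.2.2.1, act.2.2.2, mulVec_neg, neg_neg]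
  obtain ⟨x₀, hx₀⟩ : ∃ x₀ : Fin 2 ⊕ Fin m, x₀ = Sum.inl 0 := ⟨_, rfl⟩
  obtain ⟨fl, hfl⟩ : ∃ fl : Grp A (Fin 2 ⊕ Fin m), fl = mkG hA (flipM x₀) := ⟨_, rfl⟩
  obtain ⟨c, hc, hcX⟩ := exists_sqSign (F := F)
    (z := sqSign (-1 : F) * (θ (mkG hA (lev (1 : Matrix (Fin 2 ⊕ Fin m) (Fin 2 ⊕ Fin m) F) σ)) * θ fl))
    (fun h => absurd h h2)
  obtain ⟨c', hc', hcY⟩ := exists_sqSign (F := F)
    (z := sqSign (-1 : F) * θ (mkG hA (lev (1 : Matrix (Fin 2 ⊕ Fin m) (Fin 2 ⊕ Fin m) F) (σ * ρ))))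
    (fun h => absurd h h2)
  obtain ⟨R, R', hRu, hR'u, hsq, hsq', hRR⟩ := (tail_neg h2 hm (by omega)).2 c c' hc hc'
  obtain ⟨P, hP⟩ : ∃ P : Matrix (Fin 2 ⊕ Fin m) (Fin 2 ⊕ Fin m) F,
      P = fromBlocks (!![0, 1; 1, 0] : Matrix (Fin 2) (Fin 2) F) 0 0 R := ⟨_, rfl⟩
  obtain ⟨Q, hQ⟩ : ∃ Q : Matrix (Fin 2 ⊕ Fin m) (Fin 2 ⊕ Fin m) F,
      Q = fromBlocks (!![1, 0; 0, -1] : Matrix (Fin 2) (Fin 2) F) 0 0 R' := ⟨_, rfl⟩
  have hPd : P.det = -1 * R.det := by rw [hP, det_fromBlocks_zero₂₁, det_fin_two_of]; simp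
  have hQd : Q.det = -1 * R'.det := by rw [hQ, det_fromBlocks_zero₂₁, det_fin_two_of]; simp
  have hPu : IsUnit P.det := by rw [hPd]; exact (isUnit_one.neg).mul hRu
  have hQu : IsUnit Q.det := by rw [hQd]; exact (isUnit_one.neg).mul hR'u
  have hPQ : P * Q = (-1 : F) • (Q * P) := by
    rw [hP, hQ, fromBlocks_multiply, fromBlocks_multiply, fromBlocks_smul, fromBlocks_inj]
    refine ⟨?_, by simp, by simp, ?_⟩
    · simp only [Matrix.zero_mul, Matrix.mul_zero, add_zero]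
      ext i j
      fin_cases i <;> fin_cases j <;> simp [Matrix.mul_apply, Fin.sum_univ_two]
    · simp only [Matrix.zero_mul, Matrix.mul_zero, zero_add]
      exact hRR.symm
  have hmS : ∀ {T : Matrix (Fin 2 ⊕ Fin m) (Fin 2 ⊕ Fin m) F} {t : Matrix (Fin 2) (Fin 2) F}, IsUnit T.det → MidIso A t →
      mkG hA (lev T t) = mkG hA (lev T 1) * mkG hA (lev 1 t) := fun {T t} hT ht => by
    rw [mkG_mul hA (isom_lev hT (midIso_one A)) (isom_lev (by simp) ht), lev_mul, Matrix.mul_one, Matrix.one_mul]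
  have h1u : IsUnit (1 : Matrix (Fin 2 ⊕ Fin m) (Fin 2 ⊕ Fin m) F).det := by simp
  have hσρ : mkG hA (lev (1 : Matrix (Fin 2 ⊕ Fin m) (Fin 2 ⊕ Fin m) F) (σ * ρ)) =
      mkG hA (lev 1 σ) * mkG hA (lev 1 ρ) := by
    rw [mkG_mul hA (isom_lev h1u hσm) (isom_lev h1u hρm), lev_mul, Matrix.one_mul]
  have hD1 : ∀ a : Multiplicative (ZMod 2), a * a = 1 := by decide
  refine ⟨mkG hA (lev P σ) * fl, (hΩ _).2 ⟨?_, ?_⟩, mkG hA (lev Q (σ * ρ)), (hΩ _).2 ⟨?_, ?_⟩, ?_⟩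
  · rw [hmS hPu hσm, map_mul, map_mul, (hlev P hPu).1, hσ, (hmid w hw).1, hfl, hflip, one_mul, hD1]
  · rw [hmS hPu hσm, map_mul, map_mul, (hlev P hPu).2, hPd, sqSign_mul (neg_ne_zero.2 one_ne_zero) hRu.ne_zero,
      sqSign_eq_of_square hc hRu.ne_zero hsq, hcX, mul_assoc, ← mul_assoc (sqSign (-1 : F)) (sqSign (-1 : F)),
      Int.units_mul_self, one_mul, Int.units_mul_self]
  · rw [hmS hQu (hσm.mul hρm), map_mul, (hlev Q hQu).1, hσρ, map_mul, hσ, hρ, (hmid w hw).1, (hmid _ hwz).1, one_mul,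
      hD1]
  · rw [hmS hQu (hσm.mul hρm), map_mul, (hlev Q hQu).2, hQd, sqSign_mul (neg_ne_zero.2 one_ne_zero) hR'u.ne_zero,
      sqSign_eq_of_square hc' hR'u.ne_zero hsq', hcY, ← mul_assoc (sqSign (-1 : F)) (sqSign (-1 : F)),
      Int.units_mul_self, one_mul, Int.units_mul_self]
  · rw [eq_mul_inv_iff_mul_eq, eq_mul_inv_iff_mul_eq]
    refine toM_injective ?_
    have hcomm : (flipM x₀ : Mat F (Fin 2 ⊕ Fin m) (Fin 2)) * lev Q (σ * ρ) = lev Q (σ * ρ) * flipM x₀ := by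
      rw [hx₀, hQ]
      exact flipM_commute (-1) hR'u (neg_ne_zero.2 one_ne_zero) _
    simp only [toM_mul, toM_mkG hA (isom_lev hPu hσm), toM_mkG hA (isom_lev hQu (hσm.mul hρm)), hfl,
      toM_mkG hA (isom_flipM A x₀), e']
    conv_rhs => rw [Matrix.mul_assoc, hcomm, ← Matrix.mul_assoc, lev_mul, hPQ, hanti]
    rw [Matrix.smul_mul, Matrix.one_mul, Matrix.smul_mul, ← Matrix.mul_assoc, lev_mul, ← Matrix.smul_mul]
    refine congrArg (· * _) ?_
    have hu : IsUnit (Q * P).det := by rw [det_mul]; exact hQu.mul hPu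
    have hinv : ((-1 : F) • (Q * P))⁻¹ = (-1 : F) • (Q * P)⁻¹ :=
      inv_eq_right_inv (by rw [Matrix.smul_mul, Matrix.mul_smul, smul_smul, mul_nonsing_inv _ hu]; simp)
    rw [lev, lev, hinv]
    ext (i | i | i) (j | j | j) <;> simp [blk]

end CfsgLib.OmegaEvenComm
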