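import Cfsg.Agent.Lib.Classical.OmegaEvenComm.Cells

/-!
# Cells of size at most three
-/

set_option autoImplicit false
set_option linter.unusedSectionVars false
set_option linter.unusedSimpArgs false

namespace CfsgLib.OmegaEvenComm

open Matrix Polynomial CfsgLib.Classical
open CfsgLib.OmegaComm (kry Cyc exists_comp2)

variable {F : Type*} [Field F] [Fintype F] {β : Type} [Fintype β] [DecidableEq β] {A : Matrix β β F}

/-- The cubic companion matrix. -/
def cubT (R : Type*) [Zero R] [One R] : Matrix (Fin 3) (Fin 3) R := !![0, 0, 1; 1, 0, 1; 0, 1, 0]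

/-- Its inverse over two elements. -/
def cubTi (R : Type*) [Zero R] [One R] : Matrix (Fin 3) (Fin 3) R := !![1, 1, 0; 0, 0, 1; 1, 0, 0]

theorem cubT_mul_cubTi : cubT (ZMod 2) * cubTi (ZMod 2) = 1 := by decide +kernel

theorem cub_witness : ∀ x y : ZMod 2, ∃ w : Matrix (Fin 3) (Fin 3) (ZMod 2) × Matrix (Fin 3) (Fin 3) (ZMod 2) ×
    Matrix (Fin 3) (Fin 3) (ZMod 2) × Matrix (Fin 3) (Fin 3) (ZMod 2),
    w.1 * w.2.1 = 1 ∧ w.2.2.1 * w.2.2.2 = 1 ∧
      !![0, 0, 1; 1, 0, x; 0, 1, y] = w.1 * cubT (ZMod 2) * w.2.1 * (w.2.2.1 * cubTi (ZMod 2) * w.2.2.2) := by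
  intro x y
  fin_cases x <;> fin_cases y
  · exact ⟨⟨!![0, 0, 1; 0, 1, 1; 1, 1, 0], !![1, 1, 1; 1, 1, 0; 1, 0, 0], !![0, 0, 1; 1, 1, 0; 0, 1, 1],
      !![1, 1, 1; 1, 0, 1; 1, 0, 0]⟩, by decide +kernel, by decide +kernel, by decide +kernel⟩
  · exact ⟨⟨!![0, 0, 1; 0, 1, 0; 1, 0, 0], !![0, 0, 1; 0, 1, 0; 1, 0, 0], !![0, 0, 1; 1, 1, 1; 0, 1, 1],
      !![0, 1, 1; 1, 0, 1; 1, 0, 0]⟩, by decide +kernel, by decide +kernel, by decide +kernel⟩
  · exact ⟨⟨!![0, 0, 1; 0, 1, 0; 1, 1, 1], !![1, 1, 1; 0, 1, 0; 1, 0, 0], !![0, 0, 1; 1, 0, 1; 0, 1, 0],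
      !![1, 1, 0; 0, 0, 1; 1, 0, 0]⟩, by decide +kernel, by decide +kernel, by decide +kernel⟩
  · exact ⟨⟨!![0, 0, 1; 0, 1, 0; 1, 0, 1], !![1, 0, 1; 0, 1, 0; 1, 0, 0], !![0, 0, 1; 1, 0, 0; 1, 1, 0],
      !![0, 1, 0; 0, 1, 1; 1, 0, 0]⟩, by decide +kernel, by decide +kernel, by decide +kernel⟩

theorem valid_cub (hF : Fintype.card F = 2) : Valid A (cubT F) (1 : Matrix β β F) := by
  have h2 : (2 : F) = 0 := by
    have := FiniteField.cast_card_eq_zero F
    rw [hF] at this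
    exact_mod_cast this
  have hdet : (cubT F).det = 1 := by simp [cubT, det_fin_three]
  have hd1 : (cubT F - 1).det = 1 := by
    simp [cubT, det_fin_three]
  have ht : ((cubT F)ᵀ - 1).det = 1 := by rw [← transpose_one, ← transpose_sub, det_transpose, hd1]
  have hmix : ∀ N : Matrix (Fin 3) (Fin 3) F, (N - 1).det = 1 → ∀ μ : Matrix β (Fin 3) F, μ * N = μ → μ = 0 :=
    fun N hN μ e => by
    have h0 : μ * (N - 1) = 0 := by rw [Matrix.mul_sub, Matrix.mul_one, e, sub_self]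
    calc μ = μ * ((N - 1) * (N - 1)⁻¹) := by rw [mul_nonsing_inv _ (by rw [hN]; exact isUnit_one), Matrix.mul_one]
      _ = 0 := by rw [← Matrix.mul_assoc, h0, Matrix.zero_mul]
  refine ⟨by rw [hdet]; exact isUnit_one, midIso_one A, fun K hK e => ?_, fun K hK e => ?_, fun μ e => ?_,
    fun μ e => ?_⟩
  iterate 2
    obtain ⟨h1, h0⟩ := alt_iff.1 hK
    have a := congrFun (congrFun h1 0) 1
    have b := congrFun (congrFun h1 0) 2
    have c := congrFun (congrFun h1 1) 2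
    have e01 := congrFun (congrFun e 0) 1
    have e02 := congrFun (congrFun e 0) 2
    have e12 := congrFun (congrFun e 1) 2
    simp [cubT, Matrix.mul_apply, Fin.sum_univ_three, h0, vecMul, dotProduct] at a b c e01 e02 e12
    have r : ∀ x : F, -x = x := fun x => by linear_combination (-x) * h2
    simp only [r] at a b c
    have z1 : K 0 1 = 0 := by grind
    have z2 : K 0 2 = 0 := by grind
    have z3 : K 1 2 = 0 := by grind
    ext i j
    fin_cases i <;> fin_cases j <;> simp [h0, z1, z2, z3] <;> grind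
  · rw [Matrix.one_mul] at e
    exact hmix _ ht μ e
  · rw [Matrix.one_mul] at e
    exact hmix _ hd1 μ e.symm

/-- Size three over two elements. -/
theorem cellFree_three_two (hF : Fintype.card F = 2) {a : Matrix (Fin 3) (Fin 3) F}
    (ha : a = 1 ∨ (Cyc a ∧ a.det = 1)) : CellFree A a := by
  haveI : Fact (Nat.Prime 2) := ⟨Nat.prime_two⟩
  haveI : CharP F 2 := charP_of_card_eq_prime hF
  have hdet : (cubT F).det = 1 := by simp [cubT, det_fin_three]
  have hlast : (((1 : Matrix β β F) = 1 ∧ IsSquare (cubT F).det) ∨ ∃ w u : β → F, w ⬝ᵥ A *ᵥ w ≠ 0 ∧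
      u ⬝ᵥ A *ᵥ u ≠ 0 ∧ (1 : Matrix β β F) = midRefl A w * midRefl A u ∧
        IsSquare ((cubT F).det * ((w ⬝ᵥ A *ᵥ w) * (u ⬝ᵥ A *ᵥ u)))) := Or.inl ⟨rfl, by rw [hdet]; exact IsSquare.one⟩
  have hZ : ∀ c : F, c ≠ 0 → ∃ Z : Matrix (Fin 3) (Fin 3) F, Z * cubT F = cubT F * Z ∧ Z.det = c := fun c hc =>
    ⟨1, by simp, by rw [det_one, eq_one_of_card_two hF hc]⟩
  rcases ha with rfl | ⟨⟨v, hv⟩, hd⟩
  · exact ⟨cubT F, 1, 1, 1, valid_cub hF, by simp, by simp,
      by simp [mul_nonsing_inv _ (show IsUnit (cubT F).det by rw [hdet]; exact isUnit_one)], hlast, hZ⟩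
  obtain ⟨K, hK⟩ : ∃ K, K = kry a v := ⟨_, rfl⟩
  rw [← hK] at hv
  obtain ⟨C, hC⟩ : ∃ C, C = K⁻¹ * a * K := ⟨_, rfl⟩
  have hcol : ∀ j i : Fin 3, (j : ℕ) < 2 → C i j = if (i : ℕ) = j + 1 then 1 else 0 := by
    intro j i hj
    obtain ⟨j', hj'⟩ : ∃ j' : Fin 3, (j' : ℕ) = j + 1 := ⟨⟨j + 1, by omega⟩, rfl⟩
    have e : (a * K) *ᵥ Pi.single j 1 = K *ᵥ Pi.single j' 1 := by
      funext l
      rw [← mulVec_mulVec, mulVec_single_one, mulVec_single_one]
      simp only [col_apply, hK, kry, of_apply, hj', pow_succ', ← mulVec_mulVec]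
      simp [mulVec, dotProduct]
    have e' : C *ᵥ Pi.single j 1 = Pi.single j' 1 := by
      rw [hC, Matrix.mul_assoc, ← mulVec_mulVec, e, mulVec_mulVec, nonsing_inv_mul _ hv, one_mulVec]
    have := congrFun e' i
    rw [mulVec_single_one, col_apply] at this
    rw [this]
    simp [Pi.single_apply, Fin.ext_iff, hj']
  have hC02 : C 0 2 = 1 := by
    have h : C.det = 1 := by
      rw [hC, det_mul, det_mul, hd, mul_one, ← det_mul, nonsing_inv_mul _ hv, det_one]
    rw [det_fin_three] at h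
    simp [hcol 0 _ (by decide : ((0 : Fin 3) : ℕ) < 2), hcol 1 _ (by decide : ((1 : Fin 3) : ℕ) < 2)] at h
    exact h
  obtain ⟨φ, hφ⟩ : ∃ φ : ZMod 2 →+* F, φ = ZMod.castHom dvd_rfl F := ⟨_, rfl⟩
  have hsurj : ∀ z : F, ∃ x, φ x = z := fun z => by
    rcases eq_or_ne z 0 with rfl | hz
    · exact ⟨0, map_zero _⟩
    · exact ⟨1, by rw [map_one, eq_one_of_card_two hF hz]⟩
  obtain ⟨x, hx⟩ := hsurj (C 1 2)
  obtain ⟨y, hy⟩ := hsurj (C 2 2)
  obtain ⟨⟨P, Pi, R, Ri⟩, hP, hR, hw⟩ := cub_witness x y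
  dsimp only at hP hR hw
  have hmap : ∀ M N : Matrix (Fin 3) (Fin 3) (ZMod 2), (M * N).map φ = M.map φ * N.map φ := fun M N =>
    Matrix.map_mul
  have hCm : C = (!![0, 0, 1; 1, 0, x; 0, 1, y] : Matrix (Fin 3) (Fin 3) (ZMod 2)).map φ := by
    ext i j
    fin_cases j
    · show C i 0 = _
      rw [hcol 0 i (by decide)]; fin_cases i <;> simp
    · show C i 1 = _
      rw [hcol 1 i (by decide)]; fin_cases i <;> simp
    · fin_cases i <;> simp [hC02, hx, hy]
  have hT : (cubT (ZMod 2)).map φ = cubT F := by ext i j; fin_cases i <;> fin_cases j <;> simp [cubT]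
  have hTi : (cubTi (ZMod 2)).map φ = (cubT F)⁻¹ := by
    rw [← hT]
    refine (inv_eq_right_inv ?_).symm
    rw [← hmap, cubT_mul_cubTi, Matrix.map_one _ φ.map_zero φ.map_one]
  have hPi : Pi.map φ = (P.map φ)⁻¹ := (inv_eq_right_inv (by
    rw [← hmap, hP, Matrix.map_one _ φ.map_zero φ.map_one])).symm
  have hRi : Ri.map φ = (R.map φ)⁻¹ := (inv_eq_right_inv (by
    rw [← hmap, hR, Matrix.map_one _ φ.map_zero φ.map_one])).symm
  have hPu : IsUnit (P.map φ).det := IsUnit.of_mul_eq_one _ (by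
    rw [← det_mul, ← hmap, hP, Matrix.map_one _ φ.map_zero φ.map_one, det_one])
  have hRu : IsUnit (R.map φ).det := IsUnit.of_mul_eq_one _ (by
    rw [← det_mul, ← hmap, hR, Matrix.map_one _ φ.map_zero φ.map_one, det_one])
  rw [hw, hmap, hmap, hmap, hmap, hmap, hT, hTi, hPi, hRi] at hCm
  refine ⟨cubT F, 1, K * P.map φ, K * R.map φ, valid_cub hF, by rw [det_mul]; exact hv.mul hPu,
    by rw [det_mul]; exact hv.mul hRu, ?_, hlast, hZ⟩
  have hKi : K * K⁻¹ = 1 := mul_nonsing_inv _ hv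
  have ha : a = K * C * K⁻¹ := by
    rw [hC]
    simp only [← Matrix.mul_assoc, hKi, Matrix.one_mul]
    rw [Matrix.mul_assoc, hKi, Matrix.mul_one]
  rw [ha, hCm, Matrix.mul_inv_rev, Matrix.mul_inv_rev]
  simp only [Matrix.mul_assoc]
  rw [← Matrix.mul_assoc K⁻¹ K, nonsing_inv_mul _ hv, Matrix.one_mul]

/-- Every trivial or cyclic corner of size at least three is a cell. -/
theorem cellFree_of (hA : IsUnit (gB A).det) (hT : Two A) {k : ℕ} (hk : 3 ≤ k) {a : Matrix (Fin k) (Fin k) F}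
    (ha : a = 1 ∨ (Cyc a ∧ a.det = 1)) : CellFree A a := by
  obtain ⟨m, rfl⟩ : ∃ m, k = m + 1 := ⟨k - 1, by omega⟩
  by_cases h : Fintype.card F = 2 ∧ m = 2
  · obtain ⟨hF, rfl⟩ := h
    exact cellFree_three_two hF ha
  · exact cellFree_big hA hT (by omega) (fun hF => by by_contra hlt; exact h ⟨hF, by omega⟩) ha

theorem valid_two (h2 : (2 : F) ≠ 0) : Valid A (!![0, 1; 1, 1] : Matrix (Fin 2) (Fin 2) F) (1 : Matrix β β F) := by
  have ht : (!![0, 1; 1, 1] : Matrix (Fin 2) (Fin 2) F)ᵀ = !![0, 1; 1, 1] := by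
    ext i j; fin_cases i <;> fin_cases j <;> simp
  have key : ∀ K : Matrix (Fin 2) (Fin 2) F, Alt K →
      (!![0, 1; 1, 1] : Matrix (Fin 2) (Fin 2) F) * K * !![0, 1; 1, 1] = K → K = 0 := by
    intro K hK e
    obtain ⟨h1, h0⟩ := alt_iff.1 hK
    have a := congrFun (congrFun h1 0) 1
    have e01 := congrFun (congrFun e 0) 1
    simp [Matrix.mul_apply, vecMul, dotProduct, Fin.sum_univ_two, h0] at a e01
    have z : K 0 1 = 0 := (mul_eq_zero.1 (show (2 : F) * K 0 1 = 0 by linear_combination -e01 + a)).resolve_left h2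
    ext i j
    fin_cases i <;> fin_cases j <;> simp [h0, z]
    linear_combination a - z
  have mix : ∀ μ : Matrix β (Fin 2) F, μ * (!![0, 1; 1, 1] : Matrix (Fin 2) (Fin 2) F) = μ → μ = 0 := fun μ e => by
    ext i j
    have e0 := congrFun (congrFun e i) 0
    have e1 := congrFun (congrFun e i) 1
    simp [Matrix.mul_apply, vecMul, dotProduct, Fin.sum_univ_two] at e0 e1
    fin_cases j
    · simpa using e1
    · simp; linear_combination e0 + e1
  refine ⟨?_, midIso_one A, fun K hK e => key K hK (by rwa [ht] at e), fun K hK e => key K hK (by rwa [ht] at e),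
    fun μ e => mix μ (by rwa [ht, Matrix.one_mul] at e), fun μ e => mix μ ?_⟩
  · rw [det_fin_two_of, isUnit_iff_ne_zero]; simp
  · rw [Matrix.one_mul] at e
    exact e.symm

theorem cell_one (hT : Two A) : Cell A (1 : Matrix (Fin 1) (Fin 1) F) := by
  classical
  have h1 : ∀ K : Matrix (Fin 1) (Fin 1) F, Alt K → K = 0 := fun K hK => by
    ext i j
    obtain rfl := Subsingleton.elim i j
    exact (alt_iff.1 hK).2 i
  suffices h : ∃ (t : F) (τ : Matrix β β F), t ≠ 0 ∧ Rot A τ ∧ MidIso A τ ∧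
      (∀ μ : Matrix β (Fin 1) F, t • (τ * μ) = μ → μ = 0) ∧ ∀ μ : Matrix β (Fin 1) F, τ * μ = t • μ → μ = 0 by
    obtain ⟨t, τ, ht, hrot, hτ, hu, hl⟩ := h
    have hTu : IsUnit (t • (1 : Matrix (Fin 1) (Fin 1) F)).det := by simp [ht]
    refine ⟨t • 1, τ, 1, 1, ⟨hTu, hτ, fun K hK _ => h1 K hK, fun K hK _ => h1 K hK, fun μ e => hu μ ?_,
      fun μ e => hl μ ?_⟩, hrot, by simp, by simp, ?_⟩
    · simpa using e
    · simpa using e
    · rw [inv_one, Matrix.mul_one, Matrix.one_mul, Matrix.mul_one, Matrix.one_mul, mul_nonsing_inv _ hTu]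
  rcases eq_or_ne (Fintype.card F) 2 with hF | hF
  · rcases hT hF with hβ | ⟨w, u, hw, hu, hτ⟩
    · exact ⟨1, 1, one_ne_zero, Or.inl rfl, midIso_one A, fun μ _ => Subsingleton.elim _ _,
        fun μ _ => Subsingleton.elim _ _⟩
    · obtain ⟨τ, hτdef⟩ : ∃ τ, τ = midRefl A w * midRefl A u := ⟨_, rfl⟩
      rw [← hτdef] at hτ
      have h2 : (2 : F) = 0 := by
        have := FiniteField.cast_card_eq_zero F
        rw [hF] at this
        exact_mod_cast this
      have key : ∀ μ : Matrix β (Fin 1) F, τ * μ = μ → μ = 0 := fun μ e => by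
        have := congrArg (fun X => X * μ) hτ
        simp only [Matrix.add_mul, Matrix.mul_assoc, e, Matrix.one_mul, Matrix.zero_mul] at this
        rw [← this, ← two_smul F μ, h2, zero_smul, zero_add]
      refine ⟨1, τ, one_ne_zero, Or.inr ⟨w, u, hw, hu, hτdef⟩,
        hτdef ▸ (midIso_midRefl A hw).mul (midIso_midRefl A hu), fun μ e => key μ (by simpa using e),
        fun μ e => key μ (by simpa using e)⟩
  · obtain ⟨t, ht⟩ : ∃ t : Fˣ, t ≠ 1 := by
      haveI : Nontrivial Fˣ := Fintype.one_lt_card_iff_nontrivial.1 (by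
        rw [Fintype.card_units]; have := Fintype.one_lt_card (α := F); omega)
      exact exists_ne 1
    have ht1 : (t : F) - 1 ≠ 0 := sub_ne_zero.2 fun e => ht (Units.ext e)
    refine ⟨t, 1, t.ne_zero, Or.inl rfl, midIso_one A, fun μ e => ?_, fun μ e => ?_⟩
    · rw [Matrix.one_mul, ← sub_eq_zero] at e
      nth_rw 2 [← one_smul F μ] at e
      rw [← sub_smul] at e
      exact (smul_eq_zero.1 e).resolve_left ht1
    · rw [Matrix.one_mul, eq_comm, ← sub_eq_zero] at e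
      nth_rw 2 [← one_smul F μ] at e
      rw [← sub_smul] at e
      exact (smul_eq_zero.1 e).resolve_left ht1

end CfsgLib.OmegaEvenComm
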