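import Cfsg.Agent.Lib.Classical.SUComm.Basic
import Cfsg.Agent.Lib.Classical.SpinorPlus

/-!
# Even orthogonal spaces with a middle block

`Idx α β = α ⊕ (β ⊕ α)` indexes two dual totally singular families and a middle block `β` whose quadratic form is
`w ↦ w ⬝ᵥ A *ᵥ w`. The form on the whole space is `(x, w, y) ↦ x ⬝ᵥ y + w ⬝ᵥ A *ᵥ w`. Everything works in every
characteristic.
-/

set_option autoImplicit false
set_option linter.unusedSectionVars false
set_option linter.unusedSimpArgs false

namespace CfsgLib.OmegaEvenComm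

open Matrix CfsgLib.SUComm CfsgLib.Classical CfsgLib.Classical.Spin

/-- The coordinates. -/
abbrev Idx (α β : Type) : Type := α ⊕ (β ⊕ α)

/-- Matrices on the space. -/
abbrev Mat (F : Type*) (α β : Type) := Matrix (Idx α β) (Idx α β) F

variable {F : Type*} [Field F] {α β : Type} [Fintype α] [DecidableEq α] [Fintype β] [DecidableEq β]

/-! ### Alternating matrices -/

/-- The associated quadratic form vanishes. -/
def Alt {ι : Type} [Fintype ι] (K : Matrix ι ι F) : Prop := ∀ v, v ⬝ᵥ K *ᵥ v = 0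

section Alt

variable {ι κ : Type} [Fintype ι] [DecidableEq ι] [Fintype κ] [DecidableEq κ]

theorem dot_transpose (K : Matrix ι ι F) (v : ι → F) : v ⬝ᵥ Kᵀ *ᵥ v = v ⬝ᵥ K *ᵥ v := by
  rw [dotProduct_mulVec, vecMul_transpose, dotProduct_comm]

theorem alt_iff {K : Matrix ι ι F} : Alt K ↔ Kᵀ = -K ∧ ∀ i, K i i = 0 := by
  constructor
  · intro h
    have hd : ∀ i, K i i = 0 := fun i => by simpa using h (Pi.single i 1)
    refine ⟨?_, hd⟩
    ext i j
    have := h (Pi.single i 1 + Pi.single j 1)
    simp [mulVec_add, dotProduct_add, add_dotProduct, hd] at this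
    rw [transpose_apply, Matrix.neg_apply]
    linear_combination this
  · rintro ⟨hs, hd⟩ v
    simp only [dotProduct, mulVec, Finset.mul_sum]
    rw [← Finset.sum_product']
    refine Finset.sum_involution (fun p _ => (p.2, p.1)) (fun p _ => ?_) (fun p _ hp => ?_)
      (fun p _ => by simp) (fun p _ => rfl)
    · have := congrFun (congrFun hs p.1) p.2
      rw [transpose_apply, Matrix.neg_apply] at this
      rw [this]; ring
    · intro e
      have e' : p.2 = p.1 := congrArg Prod.fst e
      exact hp (by rw [e', hd]; simp)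

theorem alt_zero : Alt (0 : Matrix ι ι F) := fun v => by simp

theorem Alt.add {K L : Matrix ι ι F} (hK : Alt K) (hL : Alt L) : Alt (K + L) := fun v => by
  rw [add_mulVec, dotProduct_add, hK, hL, add_zero]

theorem Alt.neg {K : Matrix ι ι F} (hK : Alt K) : Alt (-K) := fun v => by
  rw [neg_mulVec, dotProduct_neg, hK, neg_zero]

theorem Alt.smul {K : Matrix ι ι F} (c : F) (hK : Alt K) : Alt (c • K) := fun v => by
  rw [smul_mulVec, dotProduct_smul, hK, smul_zero]

theorem alt_sub_transpose (N : Matrix ι ι F) : Alt (N - Nᵀ) := fun v => by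
  rw [sub_mulVec, dotProduct_sub, dot_transpose, sub_self]

theorem alt_transpose {K : Matrix ι ι F} : Alt Kᵀ ↔ Alt K :=
  forall_congr' fun v => by rw [dot_transpose]

theorem Alt.conj {K : Matrix ι ι F} (hK : Alt K) (P : Matrix ι κ F) : Alt (Pᵀ * K * P) := fun v => by
  rw [← mulVec_mulVec, ← mulVec_mulVec, dotProduct_mulVec, vecMul_transpose]
  exact hK _

theorem Alt.congr {K L : Matrix ι ι F} (hK : Alt K) (h : ∀ v, v ⬝ᵥ K *ᵥ v = v ⬝ᵥ L *ᵥ v) : Alt L := fun v => by
  rw [← h, hK]

theorem alt_of_eq_zero {K : Matrix ι ι F} (h : K = 0) : Alt K := h ▸ alt_zero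

end Alt

theorem transpose_blk (a : Matrix α α F) (b : Matrix α β F) (c : Matrix α α F) (d : Matrix β α F)
    (e : Matrix β β F) (f : Matrix β α F) (g : Matrix α α F) (h : Matrix α β F) (i : Matrix α α F) :
    (blk a b c d e f g h i)ᵀ = blk aᵀ dᵀ gᵀ bᵀ eᵀ hᵀ cᵀ fᵀ iᵀ := by
  ext (x | x | x) (y | y | y) <;> simp [blk]

theorem sub_blk (a : Matrix α α F) (b : Matrix α β F) (c : Matrix α α F) (d : Matrix β α F) (e : Matrix β β F)
    (f : Matrix β α F) (g : Matrix α α F) (h : Matrix α β F) (i : Matrix α α F) (a' : Matrix α α F)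
    (b' : Matrix α β F) (c' : Matrix α α F) (d' : Matrix β α F) (e' : Matrix β β F) (f' : Matrix β α F)
    (g' : Matrix α α F) (h' : Matrix α β F) (i' : Matrix α α F) :
    blk a b c d e f g h i - blk a' b' c' d' e' f' g' h' i' =
      blk (a - a') (b - b') (c - c') (d - d') (e - e') (f - f') (g - g') (h - h') (i - i') := by
  ext (x | x | x) (y | y | y) <;> simp [blk]

theorem alt_blk {a : Matrix α α F} {b : Matrix α β F} {c : Matrix α α F} {d : Matrix β α F} {e : Matrix β β F}
    {f : Matrix β α F} {g : Matrix α α F} {h : Matrix α β F} {i : Matrix α α F} :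
    Alt (blk a b c d e f g h i) ↔
      Alt a ∧ Alt e ∧ Alt i ∧ d = -bᵀ ∧ g = -cᵀ ∧ h = -fᵀ := by
  simp only [alt_iff, transpose_blk, show ∀ a b c d e f g h i, -(blk a b c d e f g h i : Mat F α β) =
    blk (-a) (-b) (-c) (-d) (-e) (-f) (-g) (-h) (-i) from fun a b c d e f g h i => by
      ext (x | x | x) (y | y | y) <;> simp [blk], blk_inj]
  constructor
  · rintro ⟨⟨ha, hd, hg, hb, he, hh, hc, hf, hi⟩, hdiag⟩
    refine ⟨⟨ha, fun x => by simpa [blk] using hdiag (.inl x)⟩, ⟨he, fun x => by simpa [blk] using hdiag (.inr (.inl x))⟩,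
      ⟨hi, fun x => by simpa [blk] using hdiag (.inr (.inr x))⟩, ?_, ?_, ?_⟩
    · rw [hb, neg_neg]
    · rw [hc, neg_neg]
    · rw [hf, neg_neg]
  · rintro ⟨⟨ha, ha'⟩, ⟨he, he'⟩, ⟨hi, hi'⟩, hd, hg, hh⟩
    refine ⟨⟨ha, ?_, ?_, ?_, he, ?_, ?_, ?_, hi⟩, fun x => ?_⟩
    · rw [hd, transpose_neg, transpose_transpose]
    · rw [hg, transpose_neg, transpose_transpose]
    · rw [hd, neg_neg]
    · rw [hh, transpose_neg, transpose_transpose]
    · rw [hg, neg_neg]
    · rw [hh, neg_neg]
    · rcases x with x | x | x <;> simp [blk, ha', he', hi']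

/-! ### The form -/

variable (A : Matrix β β F)

/-- A matrix of the quadratic form. -/
def qA (α : Type) [DecidableEq α] : Mat F α β := blk 0 0 1 0 A 0 0 0 0

/-- The polar form of the middle block. -/
def gB : Matrix β β F := A + Aᵀ

@[simp] theorem gB_transpose : (gB A)ᵀ = gB A := by rw [gB, transpose_add, transpose_transpose, add_comm]

/-- The quadratic form of the whole space. -/
noncomputable def qG (α : Type) [Fintype α] [DecidableEq α] : QuadraticForm F (Idx α β → F) :=
  LinearMap.BilinMap.toQuadraticMap (Matrix.toLinearMap₂' F (qA A α))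

theorem qG_apply (v : Idx α β → F) : qG A α v = v ⬝ᵥ qA A α *ᵥ v :=
  Matrix.toLinearMap₂'_apply' _ _ _

theorem qG_elim (x : α → F) (w : β → F) (y : α → F) :
    qG A α (Sum.elim x (Sum.elim w y)) = x ⬝ᵥ y + w ⬝ᵥ A *ᵥ w := by
  rw [qG_apply]
  simp [qA, blk, dotProduct, mulVec, Fintype.sum_sum_type, Matrix.one_apply]

theorem elim_parts (v : Idx α β → F) :
    Sum.elim (v ∘ Sum.inl) (Sum.elim (v ∘ Sum.inr ∘ Sum.inl) (v ∘ Sum.inr ∘ Sum.inr)) = v := by
  funext i; rcases i with i | i | i <;> rfl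

theorem polarNondeg_qG (hA : IsUnit (gB A).det) : PolarNondeg (qG A α) := by
  intro v hv
  obtain ⟨x, w, y, rfl⟩ : ∃ x w y, v = Sum.elim x (Sum.elim w y) := ⟨_, _, _, (elim_parts v).symm⟩
  have hp : ∀ x' w' y', x ⬝ᵥ y' + x' ⬝ᵥ y + w ⬝ᵥ gB A *ᵥ w' = 0 := fun x' w' y' => by
    have h := hv (Sum.elim x' (Sum.elim w' y'))
    rw [QuadraticMap.polar, show Sum.elim x (Sum.elim w y) + Sum.elim x' (Sum.elim w' y') =
      Sum.elim (x + x') (Sum.elim (w + w') (y + y')) by funext i; rcases i with i | i | i <;> rfl,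
      qG_elim, qG_elim, qG_elim] at h
    have e : w ⬝ᵥ gB A *ᵥ w' = w ⬝ᵥ A *ᵥ w' + w' ⬝ᵥ A *ᵥ w := by
      rw [gB, add_mulVec, dotProduct_add, dotProduct_mulVec w Aᵀ, vecMul_transpose, dotProduct_comm (A *ᵥ w) w']
    rw [e]
    simp [mulVec_add, dotProduct_add, add_dotProduct] at h
    linear_combination h
  have hx : x = 0 := funext fun i => by simpa using hp 0 0 (Pi.single i 1)
  have hy : y = 0 := funext fun i => by simpa using hp (Pi.single i 1) 0 0
  have hw : w = 0 := by
    have h0 : w ᵥ* gB A = 0 := funext fun j => by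
      have := hp 0 (Pi.single j 1) 0
      rw [dotProduct_mulVec, dotProduct_single] at this
      simpa using this
    calc w = w ᵥ* (gB A * (gB A)⁻¹) := by rw [mul_nonsing_inv _ hA, vecMul_one]
      _ = 0 := by rw [← vecMul_vecMul, h0, zero_vecMul]
  subst hx hy hw
  funext i; rcases i with i | i | i <;> rfl

/-- `M` preserves the form. -/
def Isom (M : Mat F α β) : Prop := ∀ v, qG A α (M *ᵥ v) = qG A α v

theorem isom_iff {M : Mat F α β} : Isom A M ↔ Alt (Mᵀ * qA A α * M - qA A α) := by
  refine forall_congr' fun v => ?_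
  rw [qG_apply, qG_apply, sub_mulVec, dotProduct_sub, sub_eq_zero, ← mulVec_mulVec, ← mulVec_mulVec,
    dotProduct_mulVec v Mᵀ, vecMul_transpose]

theorem isom_one : Isom A (1 : Mat F α β) := fun v => by rw [one_mulVec]

variable {A}

theorem Isom.mul {M N : Mat F α β} (hM : Isom A M) (hN : Isom A N) : Isom A (M * N) := fun v => by
  rw [← mulVec_mulVec, hM, hN]

/-- The relations among the blocks of an isometry. -/
theorem Isom.rel {a : Matrix α α F} {b : Matrix α β F} {c : Matrix α α F} {d : Matrix β α F} {e : Matrix β β F}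
    {f : Matrix β α F} {g : Matrix α α F} {h : Matrix α β F} {i : Matrix α α F}
    (hM : Isom A (blk a b c d e f g h i)) :
    Alt (aᵀ * g + dᵀ * A * d) ∧ Alt (bᵀ * h + eᵀ * A * e - A) ∧ Alt (cᵀ * i + fᵀ * A * f) ∧
      aᵀ * h + dᵀ * gB A * e + gᵀ * b = 0 ∧ aᵀ * i + dᵀ * gB A * f + gᵀ * c = 1 ∧
      bᵀ * i + eᵀ * gB A * f + hᵀ * c = 0 := by
  rw [isom_iff, qA, transpose_blk, blk_mul, blk_mul, sub_blk, alt_blk] at hM
  simp only [Matrix.mul_zero, Matrix.zero_mul, Matrix.mul_one, add_zero, zero_add, sub_zero, transpose_add,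
    transpose_sub, transpose_mul, transpose_transpose, transpose_one, transpose_zero, neg_add_rev, neg_sub] at hM
  obtain ⟨h1, h2, h3, h4, h5, h6⟩ := hM
  refine ⟨by rwa [add_comm], by rwa [add_comm (bᵀ * h)], by rwa [add_comm], ?_, ?_, ?_⟩
  · have h4' := congrArg transpose h4
    simp only [transpose_add, transpose_mul, transpose_transpose, transpose_neg, ← Matrix.mul_assoc] at h4'
    rw [gB, Matrix.mul_add, Matrix.add_mul]
    linear_combination (norm := abel) h4'
  · have h5' := congrArg transpose h5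
    simp only [transpose_add, transpose_sub, transpose_mul, transpose_transpose, transpose_neg, transpose_one,
      ← Matrix.mul_assoc] at h5'
    rw [gB, Matrix.mul_add, Matrix.add_mul]
    linear_combination (norm := abel) h5'
  · have h6' := congrArg transpose h6
    simp only [transpose_add, transpose_mul, transpose_transpose, transpose_neg, ← Matrix.mul_assoc] at h6'
    rw [gB, Matrix.mul_add, Matrix.add_mul]
    linear_combination (norm := abel) h6'

/-! ### The elementary matrices -/

variable (A)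

/-- Upper unipotent. -/
def upp (μ : Matrix β α F) (K : Matrix α α F) : Mat F α β := blk 1 (-(μᵀ * gB A)) K 0 1 μ 0 0 1

/-- Lower unipotent. -/
def low (μ : Matrix β α F) (Y : Matrix α α F) : Mat F α β := blk 1 0 0 μ 1 0 Y (-(μᵀ * gB A)) 1

/-- Block diagonal. -/
noncomputable def lev (T : Matrix α α F) (e : Matrix β β F) : Mat F α β := blk T 0 0 0 e 0 0 0 (T⁻¹)ᵀ

/-- `e` preserves the middle form. -/
def MidIso (e : Matrix β β F) : Prop := Alt (eᵀ * A * e - A)

theorem midIso_one : MidIso A (1 : Matrix β β F) := alt_of_eq_zero (by simp)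

variable {A}

theorem MidIso.mul {e e' : Matrix β β F} (h : MidIso A e) (h' : MidIso A e') : MidIso A (e * e') := by
  rw [MidIso, show (e * e')ᵀ * A * (e * e') - A = e'ᵀ * (eᵀ * A * e - A) * e' + (e'ᵀ * A * e' - A) by
    simp only [transpose_mul, Matrix.mul_sub, Matrix.sub_mul, Matrix.mul_assoc]; abel]
  exact (h.conj e').add h'

theorem MidIso.quad {e : Matrix β β F} (h : MidIso A e) (w : β → F) :
    (e *ᵥ w) ⬝ᵥ A *ᵥ (e *ᵥ w) = w ⬝ᵥ A *ᵥ w := by
  have := h w
  rw [sub_mulVec, dotProduct_sub, sub_eq_zero, ← mulVec_mulVec, ← mulVec_mulVec, dotProduct_mulVec w eᵀ,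
    vecMul_transpose] at this
  exact this

theorem isom_upp {μ : Matrix β α F} {K : Matrix α α F} (h : Alt (K + μᵀ * A * μ)) : Isom A (upp A μ K) := by
  rw [isom_iff, upp, qA, transpose_blk, blk_mul, blk_mul, sub_blk, alt_blk]
  simp only [Matrix.mul_zero, Matrix.zero_mul, Matrix.mul_one, Matrix.one_mul, add_zero, zero_add, sub_zero,
    transpose_one, transpose_zero, sub_self, neg_zero]
  refine ⟨alt_zero, alt_zero, ?_, trivial, trivial, ?_⟩
  · refine h.congr fun v => ?_
    rw [add_mulVec, add_mulVec, dotProduct_add, dotProduct_add, dot_transpose, add_comm]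
  · simp only [gB, transpose_neg, transpose_add, transpose_mul, transpose_transpose, Matrix.mul_add, neg_add_rev,
      Matrix.add_mul]
    abel

theorem isom_low {μ : Matrix β α F} {Y : Matrix α α F} (h : Alt (Y + μᵀ * A * μ)) : Isom A (low A μ Y) := by
  rw [isom_iff, low, qA, transpose_blk, blk_mul, blk_mul, sub_blk, alt_blk]
  simp only [Matrix.mul_zero, Matrix.zero_mul, Matrix.mul_one, Matrix.one_mul, add_zero, zero_add, sub_zero,
    transpose_one, transpose_zero, sub_self, neg_zero]
  refine ⟨?_, alt_zero, alt_zero, ?_, trivial, trivial⟩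
  · rwa [add_comm]
  · simp only [gB, transpose_neg, transpose_add, transpose_mul, transpose_transpose, Matrix.mul_add, neg_add_rev,
      Matrix.add_mul]
    abel

theorem isom_lev {T : Matrix α α F} (hT : IsUnit T.det) {e : Matrix β β F} (he : MidIso A e) :
    Isom A (lev T e) := by
  rw [isom_iff, lev, qA, transpose_blk, blk_mul, blk_mul, sub_blk, alt_blk]
  have h1 : Tᵀ * (T⁻¹)ᵀ = 1 := by rw [← transpose_mul, nonsing_inv_mul _ hT, transpose_one]
  simp only [Matrix.mul_zero, Matrix.zero_mul, Matrix.mul_one, Matrix.one_mul, add_zero, zero_add, sub_zero,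
    transpose_zero, sub_self, h1, neg_zero, transpose_transpose]
  exact ⟨alt_zero, he, alt_zero, trivial, trivial, trivial⟩

theorem upp_mul (μ ν : Matrix β α F) (K L : Matrix α α F) :
    upp A μ K * upp A ν L = upp A (μ + ν) (K + L - μᵀ * gB A * ν) := by
  simp only [upp, blk_mul, blk_inj]
  refine ⟨?_, ?_, ?_, ?_, ?_, ?_, ?_, ?_, ?_⟩ <;> simp [transpose_add, Matrix.add_mul] <;> abel

theorem low_mul (μ ν : Matrix β α F) (Y Z : Matrix α α F) :
    low A μ Y * low A ν Z = low A (μ + ν) (Y + Z - μᵀ * gB A * ν) := by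
  simp only [low, blk_mul, blk_inj]
  refine ⟨?_, ?_, ?_, ?_, ?_, ?_, ?_, ?_, ?_⟩ <;> simp [transpose_add, Matrix.add_mul] <;> abel

@[simp] theorem upp_zero : upp A (0 : Matrix β α F) 0 = 1 := by simp [upp, blk_one]

@[simp] theorem low_zero : low A (0 : Matrix β α F) 0 = 1 := by simp [low, blk_one]

@[simp] theorem lev_one : (lev 1 1 : Mat F α β) = 1 := by simp [lev, blk_one]

theorem lev_mul (T T' : Matrix α α F) (e e' : Matrix β β F) :
    (lev T e : Mat F α β) * lev T' e' = lev (T * T') (e * e') := by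
  simp [lev, blk_mul, Matrix.mul_inv_rev, transpose_mul]

/-! ### The group -/

variable (A)

/-- The isometry group. -/
abbrev Grp (α : Type) [Fintype α] [DecidableEq α] := ↥(Cfsg.isometryGroup F ⇑(qG A α))

variable {A}

/-- The matrix of a group element. -/
def toM (g : Grp A α) : Mat F α β := ((g : GL (Idx α β) F) : Matrix (Idx α β) (Idx α β) F)

theorem toM_mul (g h : Grp A α) : toM (g * h) = toM g * toM h := rfl

@[simp] theorem toM_one : toM (1 : Grp A α) = 1 := rfl

theorem toM_injective : Function.Injective (toM : Grp A α → Mat F α β) := fun _ _ h =>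
  Subtype.ext (Units.ext h)

theorem isom_toM (g : Grp A α) : Isom A (toM g) := fun v => g.2 v v

open scoped _root_.Classical in
/-- The group element of an isometry matrix. -/
noncomputable def mkG (hA : IsUnit (gB A).det) (M : Mat F α β) : Grp A α :=
  if h : Isom A M then (exists_isometry_of_matrix (qG A α) (polarNondeg_qG A hA) M h).choose else 1

theorem toM_mkG (hA : IsUnit (gB A).det) {M : Mat F α β} (h : Isom A M) : toM (mkG hA M) = M := by
  rw [mkG, dif_pos h]
  exact (exists_isometry_of_matrix (qG A α) (polarNondeg_qG A hA) M h).choose_spec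

theorem mkG_mul (hA : IsUnit (gB A).det) {M N : Mat F α β} (hM : Isom A M) (hN : Isom A N) :
    mkG hA M * mkG hA N = mkG hA (M * N) := toM_injective (by
  rw [toM_mul, toM_mkG hA hM, toM_mkG hA hN, toM_mkG hA (hM.mul hN)])

@[simp] theorem mkG_one (hA : IsUnit (gB A).det) : mkG hA (1 : Mat F α β) = 1 :=
  toM_injective (by rw [toM_mkG hA (isom_one A), toM_one])

theorem toM_inv_mul (g : Grp A α) : toM g⁻¹ * toM g = 1 := by rw [← toM_mul, inv_mul_cancel, toM_one]

theorem toM_mul_inv (g : Grp A α) : toM g * toM g⁻¹ = 1 := by rw [← toM_mul, mul_inv_cancel, toM_one]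

theorem isUnit_det_toM (g : Grp A α) : IsUnit (toM g).det :=
  IsUnit.of_mul_eq_one _ (by rw [← det_mul, toM_mul_inv, det_one])

end CfsgLib.OmegaEvenComm
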