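import Cfsg.Agent.Lib.Classical.OmegaEvenComm.Rank

/-!
# Splitting off a hyperbolic space carrying a scalar
-/

set_option autoImplicit false
set_option linter.unusedSectionVars false
set_option linter.unusedSimpArgs false

namespace CfsgLib.OmegaEvenComm

open Matrix CfsgLib.SUComm CfsgLib.Classical CfsgLib.Classical.Spin
open CfsgLib.OmegaComm (proj proj_mul_mul)

variable {F : Type*} [Field F] {β : Type} [Fintype β] [DecidableEq β] {A : Matrix β β F} {k r : ℕ}

/-- The shape in adapted coordinates. -/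
def Adapted (g : Grp A (Fin k ⊕ Fin r)) (l : F) : Prop :=
  ∃ (G a₁ : Matrix (Fin k) (Fin k) F) (a₂ : Matrix (Fin r) (Fin k) F) (d₁ : Matrix β (Fin k) F),
    IsUnit G.det ∧ gblk (toM g) = fromBlocks G 0 0 0 ∧ corner (toM g) = fromBlocks a₁ 0 a₂ (l • 1) ∧
      dblk (toM g) = fromCols d₁ 0

/-- Coordinates adapted to the kernel. -/
theorem exists_basis {g : Matrix (Fin k ⊕ Fin r) (Fin k ⊕ Fin r) F} (hrk : g.rank = k) :
    ∃ B : Matrix (Fin k ⊕ Fin r) (Fin k ⊕ Fin r) F, IsUnit B.det ∧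
      ∀ j : Fin r, g *ᵥ (B *ᵥ Pi.single (.inr j) 1) = 0 := by
  classical
  let K := LinearMap.ker g.mulVecLin
  have hdim := g.mulVecLin.finrank_range_add_finrank_ker
  rw [Module.finrank_pi, Fintype.card_sum, Fintype.card_fin, Fintype.card_fin] at hdim
  change g.rank + _ = _ at hdim
  have hKr : Module.finrank F K = r := by
    show Module.finrank F (LinearMap.ker g.mulVecLin) = r
    omega
  obtain ⟨C, hC⟩ := Submodule.exists_isCompl K
  have hCk : Module.finrank F C = k := by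
    have := Submodule.finrank_add_eq_of_isCompl hC
    rw [Module.finrank_pi, Fintype.card_sum, Fintype.card_fin, Fintype.card_fin] at this
    omega
  let b : Module.Basis (Fin k ⊕ Fin r) F (Fin k ⊕ Fin r → F) :=
    ((Module.finBasisOfFinrankEq F C hCk).prod (Module.finBasisOfFinrankEq F K hKr)).map
      (Submodule.prodEquivOfIsCompl C K hC.symm)
  obtain ⟨B, hB⟩ : ∃ B, B = (Pi.basisFun F (Fin k ⊕ Fin r)).toMatrix b := ⟨_, rfl⟩
  have hcol : ∀ j, B *ᵥ Pi.single j 1 = b j := fun j => by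
    funext i
    simp [hB, mulVec_single, Module.Basis.toMatrix_apply]
  refine ⟨B, IsUnit.of_mul_eq_one _ (by
    rw [← det_mul, hB, Module.Basis.toMatrix_mul_toMatrix_flip, det_one]), fun j => ?_⟩
  rw [hcol]
  have : b (.inr j) = ((Module.finBasisOfFinrankEq F K hKr j : K) : Fin k ⊕ Fin r → F) := by simp [b]
  rw [this]
  exact LinearMap.mem_ker.1 (Submodule.coe_mem (p := K) _)

theorem rank_fromBlocks_zero (G : Matrix (Fin k) (Fin k) F) :
    (fromBlocks G (0 : Matrix (Fin k) (Fin r) F) 0 (0 : Matrix (Fin r) (Fin r) F)).rank = G.rank := by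
  rw [rank_fromBlocks_diag, Matrix.rank_zero, add_zero]

theorem isUnit_det_of_rank {G : Matrix (Fin k) (Fin k) F} (h : G.rank = k) : IsUnit G.det := by
  rw [isUnit_iff_ne_zero]
  intro h0
  obtain ⟨v, hv0, hv⟩ := Matrix.exists_mulVec_eq_zero_iff.2 h0
  have h1 := G.mulVecLin.finrank_range_add_finrank_ker
  rw [Module.finrank_fin_fun] at h1
  change G.rank + _ = _ at h1
  have : 0 < Module.finrank F (LinearMap.ker G.mulVecLin) :=
    (Module.finrank_pos_iff_exists_ne_zero (M := LinearMap.ker G.mulVecLin)).2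
      ⟨⟨v, LinearMap.mem_ker.2 hv⟩, fun h => hv0 (congrArg Subtype.val h)⟩
  omega

theorem exists_adapted (hA : IsUnit (gB A).det) (han : Aniso A) {g : Grp A (Fin k ⊕ Fin r)}
    (hrk : (gblk (toM g)).rank = k) {l : F} (hl : ∀ y, gblk (toM g) *ᵥ y = 0 → corner (toM g) *ᵥ y = l • y) :
    ∃ B : Matrix (Fin k ⊕ Fin r) (Fin k ⊕ Fin r) F, IsUnit B.det ∧
      Adapted (mkG hA (lev B⁻¹ 1) * g * (mkG hA (lev B⁻¹ 1))⁻¹) l := by
  obtain ⟨B, hBu, hbK⟩ := exists_basis hrk
  refine ⟨B, hBu, ?_⟩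
  obtain ⟨hca, hcg, hcd⟩ := conj_lev_parts hA hBu g
  obtain ⟨g', hg'⟩ : ∃ g', g' = mkG hA (lev B⁻¹ 1) * g * (mkG hA (lev B⁻¹ 1))⁻¹ := ⟨_, rfl⟩
  rw [← hg'] at hca hcg hcd ⊢
  have hgj : ∀ j : Fin r, gblk (toM g') *ᵥ Pi.single (.inr j) 1 = 0 := fun j => by
    rw [hcg, ← mulVec_mulVec, ← mulVec_mulVec, hbK, mulVec_zero]
  have haj : ∀ j : Fin r, corner (toM g') *ᵥ Pi.single (.inr j) 1 = l • Pi.single (.inr j) 1 := fun j => by
    rw [hca, ← mulVec_mulVec, ← mulVec_mulVec, hl _ (hbK j), mulVec_smul, mulVec_mulVec _ B⁻¹ B,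
      nonsing_inv_mul _ hBu, one_mulVec]
  have hdj : ∀ j : Fin r, dblk (toM g') *ᵥ Pi.single (.inr j) 1 = 0 := fun j => dblk_mulVec_ker han g' (hgj j)
  have hl0 : ∀ _j : Fin r, l ≠ 0 := fun j h => by
    have h1 := haj j
    rw [h, zero_smul] at h1
    have := congrFun (eq_zero_of_blocks g' h1 (hdj j) (hgj j)) (.inr j)
    simp at this
  have hrow : ∀ (i : Fin r) j, gblk (toM g') (.inr i) j = 0 := fun i j => by
    have h1 := corner_mem_left_ker g' (hgj i) (hdj i)
    rw [haj, smul_vecMul] at h1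
    have := congrFun ((smul_eq_zero.1 h1).resolve_left (hl0 i)) j
    simpa [single_vecMul] using this
  have hg : gblk (toM g') = fromBlocks (gblk (toM g')).toBlocks₁₁ 0 0 0 := by
    ext (i | i) (j | j)
    · simp [toBlocks₁₁]
    · simpa [mulVec_single] using congrFun (hgj j) (.inl i)
    · simpa using hrow i (.inl j)
    · simpa using hrow i (.inr j)
  refine ⟨(gblk (toM g')).toBlocks₁₁, (corner (toM g')).toBlocks₁₁, (corner (toM g')).toBlocks₂₁,
    (dblk (toM g')).toCols₁, ?_, hg, ?_, ?_⟩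
  · have hr : (gblk (toM g')).rank = k := by rw [hg', rank_conj_lev hA hBu, hrk]
    refine isUnit_det_of_rank ?_
    rw [← rank_fromBlocks_zero (r := r), ← hg]
    exact hr
  · ext (i | i) (j | j)
    · simp [toBlocks₁₁]
    · simpa [mulVec_single] using congrFun (haj j) (.inl i)
    · simp [toBlocks₂₁]
    · simpa [mulVec_single, Matrix.one_apply, Pi.single_apply] using congrFun (haj j) (.inr i)
  · ext u (j | j)
    · simp [toCols₁]
    · simpa [mulVec_single] using congrFun (hdj j) u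

section Emb

variable {α ρ : Type} [Fintype α] [DecidableEq α] [Fintype ρ] [DecidableEq ρ]

theorem parts_emb (M₀ : Mat F α β) (R R' : Matrix ρ ρ F) :
    gblk (emb M₀ R R') = fromBlocks (gblk M₀) 0 0 0 ∧ corner (emb M₀ R R') = fromBlocks (corner M₀) 0 0 R ∧
      dblk (emb M₀ R R') = fromCols (dblk M₀) 0 := by
  obtain ⟨a, b, c, d, e, f, g, h, i, rfl⟩ := exists_blk M₀
  simp [emb_blk]

theorem isom_of_emb {M₀ : Mat F α β} {R R' : Matrix ρ ρ F} (h : Isom A (emb M₀ R R')) : Isom A M₀ := fun v => by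
  have key : ∀ u : Idx α β → F, qG A (α ⊕ ρ) (Sum.elim u 0 ∘ (embIdx α β ρ).symm) = qG A α u := fun u => by
    conv_lhs => rw [← elim_parts (Sum.elim u 0 ∘ (embIdx α β ρ).symm), qG_elim]
    conv_rhs => rw [← elim_parts u, qG_elim]
    simp only [dotProduct, Fintype.sum_sum_type, Function.comp_apply, embIdx]
    simp [mulVec, dotProduct]
  have h' := h (Sum.elim v 0 ∘ (embIdx α β ρ).symm)
  rw [emb, submatrix_mulVec_equiv, Equiv.symm_symm, Function.comp_assoc, Equiv.symm_comp_self, Function.comp_id,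
    fromBlocks_mulVec] at h'
  simp only [Sum.elim_comp_inl, Sum.elim_comp_inr, Matrix.zero_mulVec, mulVec_zero, add_zero, zero_add] at h'
  rw [key, key] at h'
  exact h'

end Emb

theorem smul_single_mulVec {α' : Type} [DecidableEq α'] [Fintype α'] {M : Matrix α' α' F} {l : F} {j : α'}
    (h : M *ᵥ Pi.single j 1 = l • Pi.single j 1) (i : α') : M i j = l * (1 : Matrix α' α' F) i j := by
  have := congrFun h i
  simpa [mulVec_single, Matrix.one_apply, Pi.single_apply] using this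

/-- The orthogonal splitting. -/
theorem exists_emb (hA : IsUnit (gB A).det) (han : Aniso A) {g : Grp A (Fin k ⊕ Fin r)} (hmax : IsMax g)
    (hr : 2 ≤ r) {l : F} (had : Adapted g l) :
    ∃ (U : Grp A (Fin k ⊕ Fin r)) (g₀ : Grp A (Fin k)), l * l = 1 ∧
      toM (U * g * U⁻¹) = emb (toM g₀) (l • (1 : Matrix (Fin r) (Fin r) F)) (l • 1) ∧
      IsUnit (gblk (toM g₀)).det := by
  classical
  obtain ⟨G, a₁, a₂, d₁, hG, hg, ha, hd⟩ := had
  have hrk : (gblk (toM g)).rank = k := by
    rw [hg, rank_fromBlocks_zero, Matrix.rank_of_isUnit _ ((Matrix.isUnit_iff_isUnit_det G).2 hG), Fintype.card_fin]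
  -- the kernel of the lower block consists of eigenvectors
  have heig : ∀ c : Fin r → F, toM g *ᵥ Sum.elim (Sum.elim 0 c) 0 =
      l • Sum.elim (Sum.elim (0 : Fin k → F) c) 0 := by
    intro c
    rw [mulVec_corner, ha, hd, hg, fromBlocks_mulVec, fromCols_mulVec, fromBlocks_mulVec]
    funext i
    rcases i with (i | i) | i | (i | i) <;> simp [smul_mulVec]
  have hone : ∀ x : Fin r, ∃ (p : Fin k → F) (q : Fin r → F),
      toM g *ᵥ Sum.elim (Sum.elim p q) (Sum.elim (0 : β → F) (Pi.single (.inr x) 1)) =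
        l • Sum.elim (Sum.elim p q) (Sum.elim (0 : β → F) (Pi.single (.inr x) 1)) := by
    intro x
    obtain ⟨P, hP⟩ : ∃ P : Grp A (Fin k ⊕ Fin r), P = nbG hA (Sum.inr x) (0 : β → F) := ⟨_, rfl⟩
    obtain ⟨N, hN⟩ : ∃ N, N = P⁻¹ * g * P := ⟨_, rfl⟩
    have hπg : proj F (Sum.inr x) * gblk (toM g) * proj F (Sum.inr x) = gblk (toM g) := by
      ext i j
      rw [proj_mul_mul]
      split_ifs with h
      · rcases h with rfl | rfl
        · rw [hg]; rcases j with j | j <;> simp
        · rw [hg]; rcases i with i | i <;> simp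
      · rfl
    have hπN : proj F (Sum.inr x) * gblk (toM N) * proj F (Sum.inr x) = gblk (toM g) := by
      rw [← hπg]
      ext i j
      rw [proj_mul_mul, proj_mul_mul]
      split_ifs with h
      · rfl
      · push Not at h
        rw [hN, hP]
        exact gblk_nb_of_ne hA g _ 0 h.1 h.2
    have hle : (gblk (toM N)).rank ≤ (gblk (toM g)).rank := by
      have := hmax P⁻¹
      rwa [inv_inv, ← hN] at this
    have hge : (gblk (toM g)).rank ≤ (gblk (toM N)).rank := by
      rw [← hπN]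
      exact (Matrix.rank_mul_le_left _ _).trans (Matrix.rank_mul_le_right _ _)
    have hNr : (gblk (toM N)).rank = k := by omega
    have hNmax : IsMax N := by
      have := hmax.of_conj P⁻¹ (by rw [inv_inv, ← hN, hNr, hrk])
      rwa [inv_inv, ← hN] at this
    obtain ⟨l', hl'⟩ := max_scalar hA han hNmax (by rw [hNr, Fintype.card_sum, Fintype.card_fin, Fintype.card_fin]; omega)
    -- eigenvectors of `g` from the kernel
    have hev : ∀ y, gblk (toM N) *ᵥ y = 0 →
        toM g *ᵥ (toM P *ᵥ Sum.elim y 0) = l' • (toM P *ᵥ Sum.elim y 0) := by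
      intro y hy
      have e : toM N *ᵥ Sum.elim y 0 = l' • Sum.elim y 0 := by
        rw [mulVec_corner, hl' y hy, dblk_mulVec_ker han N hy, hy]
        funext i
        rcases i with i | i | i <;> simp
      rw [← mulVec_smul, ← e, hN, toM_mul, toM_mul, mulVec_mulVec, mulVec_mulVec, ← Matrix.mul_assoc,
        ← Matrix.mul_assoc, toM_mul_inv, Matrix.one_mul]
    have hPm : toM P = nbM A (Sum.inr x) 0 := by rw [hP, nbG, toM_mkG hA (isom_nbM _ _)]
    have hnbv : ∀ y : Fin k ⊕ Fin r → F, toM P *ᵥ Sum.elim y 0 =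
        Sum.elim (fun i => if i = .inr x then 0 else y i)
          (Sum.elim (0 : β → F) (Pi.single (.inr x) (y (.inr x)))) := by
      intro y
      have hy : Sum.elim y 0 = ∑ i, y i • (Pi.single (Sum.inl i) 1 : Idx (Fin k ⊕ Fin r) β → F) := by
        funext i
        rw [Finset.sum_apply]
        rcases i with i | i | i <;> simp [Pi.single_apply]
      rw [hy, Matrix.mulVec_sum, hPm]
      simp only [mulVec_smul, nbM_col]
      funext i
      rw [Finset.sum_apply]
      rcases i with i | i | i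
      · rw [Finset.sum_eq_single i]
        · by_cases h : i = .inr x <;> simp [h, nbVec]
        · intro j _ hj
          by_cases h : j = .inr x <;> simp [h, nbVec, Pi.single_apply, Ne.symm hj]
        · simp
      · refine Finset.sum_eq_zero fun j _ => ?_
        by_cases h : j = .inr x <;> simp [h, nbVec]
      · rw [Finset.sum_eq_single (Sum.inr x)]
        · simp [nbVec, Pi.single_apply]
        · intro j _ hj; simp [hj]
        · simp
    obtain ⟨x', hx'⟩ : ∃ x' : Fin r, x' ≠ x := by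
      haveI : Nontrivial (Fin r) := Fin.nontrivial_iff_two_le.2 hr
      exact exists_ne x
    have hx'k : gblk (toM N) *ᵥ Pi.single (Sum.inr x') 1 = 0 := by
      funext i
      rw [mulVec_single_one]
      show gblk (toM N) i (Sum.inr x') = 0
      rcases eq_or_ne i (Sum.inr x) with rfl | hi
      · rw [hN, hP, gblk_nb_row hA g _ 0 (by simpa using hx'), ha]
        simp [Ne.symm hx']
      · rw [hN, hP, gblk_nb_of_ne hA g _ 0 hi (by simpa using hx'), hg]
        rcases i with i | i <;> simp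
    have hll : l' = l := by
      have e1 := hev _ hx'k
      have e2 := heig (Pi.single x' 1)
      rw [hnbv] at e1
      have ev : Sum.elim (fun i => if i = Sum.inr x then 0 else (Pi.single (Sum.inr x') 1 : Fin k ⊕ Fin r → F) i)
          (Sum.elim (0 : β → F) (Pi.single (Sum.inr x : Fin k ⊕ Fin r) ((Pi.single (Sum.inr x') 1 : Fin k ⊕ Fin r → F) (Sum.inr x)))) =
          Sum.elim (Sum.elim (0 : Fin k → F) (Pi.single x' 1)) 0 := by
        funext i
        rcases i with (i | i) | i | i <;> simp [Pi.single_apply, Ne.symm hx']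
        rcases eq_or_ne i x with rfl | hi <;> simp [*, Ne.symm hx']
      rw [ev, e2] at e1
      simpa using (congrFun e1 (.inl (.inr x'))).symm
    obtain ⟨y, hy, hyx⟩ : ∃ y, gblk (toM N) *ᵥ y = 0 ∧ y (Sum.inr x) = 1 := by
      by_contra hcon
      push Not at hcon
      have hyx : ∀ y, gblk (toM N) *ᵥ y = 0 → y (Sum.inr x) = 0 := fun y hy => by
        by_contra h
        exact hcon ((y (Sum.inr x))⁻¹ • y) (by rw [mulVec_smul, hy, smul_zero]) (by simp [h])
      let φ : LinearMap.ker (gblk (toM N)).mulVecLin →ₗ[F] ({z : Fin r // z ≠ x} → F) :=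
        LinearMap.pi fun z => (LinearMap.proj (Sum.inr z.1)).comp (Submodule.subtype _)
      have hφ : Function.Injective φ := (injective_iff_map_eq_zero φ).2 fun ⟨y, hy⟩ h => by
        have hy' : gblk (toM N) *ᵥ y = 0 := LinearMap.mem_ker.1 hy
        have h1 : gblk (toM g) *ᵥ y = 0 := by
          have hpy : proj F (Sum.inr x) *ᵥ y = y := by
            funext i
            rcases eq_or_ne i (Sum.inr x) with rfl | hi
            · simp [proj, mulVec_diagonal, hyx y hy']
            · simp [proj, mulVec_diagonal, hi]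
          rw [← hπN, ← mulVec_mulVec, hpy, ← mulVec_mulVec, hy', mulVec_zero]
        refine Subtype.ext (funext fun i => ?_)
        rcases i with i | i
        · have h2' : G *ᵥ (y ∘ Sum.inl) = 0 := by
            rw [hg, fromBlocks_mulVec] at h1
            funext j
            simpa using congrFun h1 (.inl j)
          have h3 : y ∘ Sum.inl = 0 := by
            have := congrArg (fun v => G⁻¹ *ᵥ v) h2'
            simpa [mulVec_mulVec, nonsing_inv_mul _ hG] using this
          exact congrFun h3 i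
        · rcases eq_or_ne i x with rfl | hi
          · exact hyx y hy'
          · exact congrFun h ⟨i, hi⟩
      have h1 := LinearMap.finrank_le_finrank_of_injective hφ
      have h2' := (gblk (toM N)).mulVecLin.finrank_range_add_finrank_ker
      rw [Module.finrank_pi, Fintype.card_sum, Fintype.card_fin, Fintype.card_fin] at h2'
      change (gblk (toM N)).rank + _ = _ at h2'
      rw [Module.finrank_pi, Fintype.card_subtype_compl, Fintype.card_fin] at h1
      simp at h1
      omega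
    refine ⟨fun i => y (.inl i), fun z => if z = x then 0 else y (.inr z), ?_⟩
    have e := hev y hy
    rw [hll, hnbv, hyx] at e
    have hv : (fun i => if i = (Sum.inr x : Fin k ⊕ Fin r) then (0 : F) else y i) =
        Sum.elim (fun i => y (.inl i)) fun z => if z = x then 0 else y (.inr z) := by
      funext i
      rcases i with i | i <;> simp
    rw [← hv]
    exact e
  choose p q heq using hone
  have hll : l * l = 1 := by
    have x : Fin r := ⟨0, by omega⟩
    have e1 := dot_eq (isom_toM g) (Sum.elim (Sum.elim (p x) (q x)) (Sum.elim (0 : β → F) (Pi.single (.inr x) 1)))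
      (Sum.elim (Sum.elim (0 : Fin k → F) (Pi.single x 1)) 0)
    rw [heq x, heig, smul_dotProduct, mulVec_smul, dotProduct_smul, smul_smul] at e1
    have e2 : Sum.elim (Sum.elim (p x) (q x)) (Sum.elim (0 : β → F) (Pi.single (.inr x) 1)) ⬝ᵥ
        polM A (Fin k ⊕ Fin r) *ᵥ Sum.elim (Sum.elim (0 : Fin k → F) (Pi.single x 1)) 0 = 1 := by
      rw [dot_polM]
      simp [Fintype.sum_sum_type, Pi.single_apply, Function.comp_def]
    rw [e2, smul_eq_mul, mul_one] at e1
    exact e1
  obtain ⟨Pm, hPm⟩ : ∃ Pm : Matrix (Fin k) (Fin r) F, Pm = Matrix.of fun i x => p x i := ⟨_, rfl⟩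
  obtain ⟨K, hK⟩ : ∃ K : Matrix (Fin k ⊕ Fin r) (Fin k ⊕ Fin r) F, K = fromBlocks 0 Pm (-Pmᵀ) 0 := ⟨_, rfl⟩
  have hKt : Alt (K + (0 : Matrix β (Fin k ⊕ Fin r) F)ᵀ * A * (0 : Matrix β (Fin k ⊕ Fin r) F)) := by
    rw [Matrix.mul_zero, add_zero]
    refine alt_iff.2 ⟨?_, fun i => ?_⟩
    · rw [hK, fromBlocks_transpose, fromBlocks_neg]; simp
    · rw [hK]; rcases i with i | i <;> simp
  obtain ⟨U₀, hU₀⟩ : ∃ U₀ : Grp A (Fin k ⊕ Fin r), U₀ = mkG hA (upp A 0 K) := ⟨_, rfl⟩
  have hU₀m : toM U₀ = upp A 0 K := hU₀ ▸ toM_mkG hA (isom_upp hKt)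
  obtain ⟨g₂, hg₂⟩ : ∃ g₂, g₂ = U₀⁻¹ * g * U₀ := ⟨_, rfl⟩
  obtain ⟨M₂, hM₂⟩ : ∃ M₂, M₂ = toM g₂ := ⟨_, rfl⟩
  have hback : ∀ {w : Idx (Fin k ⊕ Fin r) β → F}, toM g *ᵥ (toM U₀ *ᵥ w) = l • (toM U₀ *ᵥ w) → M₂ *ᵥ w = l • w :=
    fun {w} h => by
    rw [hM₂, hg₂, toM_mul, toM_mul, ← mulVec_mulVec, ← mulVec_mulVec, h, mulVec_smul, mulVec_mulVec,
      toM_inv_mul, one_mulVec]
  have hU₁ : ∀ x : Fin r, toM U₀ *ᵥ Pi.single (Sum.inl (Sum.inr x)) 1 =
      Sum.elim (Sum.elim (0 : Fin k → F) (Pi.single x 1)) 0 := by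
    intro x
    funext i
    rcases i with (i | i) | i | i <;> simp [hU₀m, upp, blk, Pi.single_apply, Matrix.one_apply, eq_comm]
  have hU₂ : ∀ x : Fin r, toM U₀ *ᵥ Pi.single (Sum.inr (Sum.inr (Sum.inr x))) 1 =
      Sum.elim (Sum.elim (p x) (q x)) (Sum.elim (0 : β → F) (Pi.single (.inr x) 1)) +
        Sum.elim (Sum.elim (0 : Fin k → F) (-q x)) 0 := by
    intro x
    funext i
    rcases i with (i | i) | i | i <;>
      simp [hU₀m, upp, blk, hK, hPm, Pi.single_apply, Matrix.one_apply, eq_comm]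
  have hc1 : ∀ x : Fin r, M₂ *ᵥ Pi.single (Sum.inl (Sum.inr x)) 1 = l • Pi.single (Sum.inl (Sum.inr x)) 1 :=
    fun x => hback (by rw [hU₁, heig])
  have hc2 : ∀ x : Fin r, M₂ *ᵥ Pi.single (Sum.inr (Sum.inr (Sum.inr x))) 1 =
      l • Pi.single (Sum.inr (Sum.inr (Sum.inr x))) 1 :=
    fun x => hback (by rw [hU₂, mulVec_add, heq, heig, smul_add])
  have hrow : ∀ j, M₂ *ᵥ Pi.single j 1 = l • Pi.single j 1 →
      (Pi.single j 1 ᵥ* polM A (Fin k ⊕ Fin r)) ᵥ* M₂ = l • (Pi.single j 1 ᵥ* polM A (Fin k ⊕ Fin r)) := fun j hj => by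
    have h : (M₂ *ᵥ Pi.single j 1) ᵥ* (polM A (Fin k ⊕ Fin r) * M₂) = Pi.single j 1 ᵥ* polM A (Fin k ⊕ Fin r) := by
      rw [← vecMul_transpose, vecMul_vecMul, ← Matrix.mul_assoc, hM₂, isom_polM (isom_toM g₂)]
    rw [hj, smul_vecMul, ← vecMul_vecMul] at h
    conv_rhs => rw [← h]
    rw [smul_smul, hll, one_smul]
  have hj1 : ∀ x : Fin r, (Pi.single (Sum.inl (Sum.inr x)) 1 : Idx (Fin k ⊕ Fin r) β → F) ᵥ* polM A (Fin k ⊕ Fin r) =
      Pi.single (Sum.inr (Sum.inr (Sum.inr x))) 1 := fun x => by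
    funext i
    rcases i with i | i | i <;> simp [polM, blk, Pi.single_apply, Matrix.one_apply, eq_comm]
  have hj2 : ∀ x : Fin r, (Pi.single (Sum.inr (Sum.inr (Sum.inr x))) 1 : Idx (Fin k ⊕ Fin r) β → F) ᵥ*
      polM A (Fin k ⊕ Fin r) = Pi.single (Sum.inl (Sum.inr x)) 1 := fun x => by
    funext i
    rcases i with i | i | i <;> simp [polM, blk, Pi.single_apply, Matrix.one_apply, eq_comm]
  have r1 : ∀ (x : Fin r) i, M₂ (Sum.inr (Sum.inr (Sum.inr x))) i =
      l * (1 : Mat F (Fin k ⊕ Fin r) β) (Sum.inr (Sum.inr (Sum.inr x))) i := fun x i => by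
    have := congrFun (hrow _ (hc1 x)) i
    rw [hj1] at this
    simpa [Matrix.one_apply, Pi.single_apply, eq_comm] using this
  have r2 : ∀ (x : Fin r) i, M₂ (Sum.inl (Sum.inr x)) i =
      l * (1 : Mat F (Fin k ⊕ Fin r) β) (Sum.inl (Sum.inr x)) i := fun x i => by
    have := congrFun (hrow _ (hc2 x)) i
    rw [hj2] at this
    simpa [Matrix.one_apply, Pi.single_apply, eq_comm] using this
  have c1 := fun x : Fin r => smul_single_mulVec (hc1 x)
  have c2 := fun x : Fin r => smul_single_mulVec (hc2 x)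
  obtain ⟨M₀, hM₀⟩ : ∃ M₀ : Mat F (Fin k) β,
      M₀ = (M₂.submatrix (embIdx (Fin k) β (Fin r)) (embIdx (Fin k) β (Fin r))).toBlocks₁₁ := ⟨_, rfl⟩
  have hM₂e : M₂ = emb M₀ (l • (1 : Matrix (Fin r) (Fin r) F)) (l • 1) := by
    ext ((i | i) | i | (i | i)) ((j | j) | j | (j | j))
    all_goals first
      | (simp [hM₀, emb, embIdx, toBlocks₁₁]; done)
      | (rw [r1]; simp [emb, embIdx, Matrix.one_apply]; done)
      | (rw [r2]; simp [emb, embIdx, Matrix.one_apply]; done)
      | (rw [c1]; simp [emb, embIdx, Matrix.one_apply]; done)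
      | (rw [c2]; simp [emb, embIdx, Matrix.one_apply]; done)
  have hI₀ : Isom A M₀ := isom_of_emb (ρ := Fin r) (hM₂e ▸ hM₂ ▸ isom_toM g₂)
  refine ⟨U₀⁻¹, mkG hA M₀, hll, by rw [inv_inv, ← hg₂, ← hM₂, hM₂e, toM_mkG hA hI₀], ?_⟩
  rw [toM_mkG hA hI₀]
  obtain ⟨a, b, c, d, e, f, g₀, h, i, hblk⟩ := exists_blk (toM g)
  have hrad := isom_upp hKt
  have e' : toM g₂ = upp A (0 : Matrix β (Fin k ⊕ Fin r) F) (-K) * blk a b c d e f g₀ h i * upp A 0 K := by
    rw [hg₂, toM_mul, toM_mul, hU₀, toM_inv_upp hA hKt, toM_mkG hA hrad, hblk]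
    simp
  have hg₂' : gblk (toM g₂) = gblk (toM g) := by
    rw [e', hblk]
    simp [upp, blk_mul]
  rw [← hM₂, hM₂e, (parts_emb M₀ _ _).1, hg, fromBlocks_inj] at hg₂'
  rw [hg₂'.1]; exact hG

/-- Rank zero: a scalar. -/
theorem eq_smul_of_zero (hA : IsUnit (gB A).det) (han : Aniso A) (hr : 0 < r) {g : Grp A (Fin 0 ⊕ Fin r)}
    (hmax : IsMax g) {g₀ : Grp A (Fin 0)} {l : F}
    (e : toM g = emb (toM g₀) (l • (1 : Matrix (Fin r) (Fin r) F)) (l • 1)) (hl : l * l = 1) :
    toM g = l • 1 := by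
  have h0 : gblk (toM g) = 0 := by
    rw [e, (parts_emb _ _ _).1, Subsingleton.elim (gblk (toM g₀)) 0, fromBlocks_zero]
  obtain ⟨E, hE⟩ : ∃ E : Matrix β β F, E = Matrix.of fun u v => toM g₀ (.inr (.inl u)) (.inr (.inl v)) := ⟨_, rfl⟩
  have hmid : ∀ v, (E *ᵥ v) ⬝ᵥ A *ᵥ (E *ᵥ v) = v ⬝ᵥ A *ᵥ v := fun v => by
    have h := isom_toM g₀ (Sum.elim (0 : Fin 0 → F) (Sum.elim v 0))
    have e' : toM g₀ *ᵥ Sum.elim (0 : Fin 0 → F) (Sum.elim v 0) =
        Sum.elim (0 : Fin 0 → F) (Sum.elim (E *ᵥ v) (0 : Fin 0 → F)) := by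
      funext i
      rcases i with i | i | i
      · exact i.elim0
      · simp [hE, mulVec, dotProduct, Fintype.sum_sum_type]
      · exact i.elim0
    rw [e', qG_elim, qG_elim] at h
    simpa using h
  let x : Fin 0 ⊕ Fin r := .inr ⟨0, hr⟩
  have hEw : ∀ w, E *ᵥ w = l • w := fun w => by
    have h1 := hmax (nbG hA x w)⁻¹
    rw [inv_inv, h0, Matrix.rank_zero, Nat.le_zero, Matrix.rank, Submodule.finrank_eq_zero] at h1
    have hz : gblk (toM ((nbG hA x w)⁻¹ * g * nbG hA x w)) x x = 0 := by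
      have h2 : gblk (toM ((nbG hA x w)⁻¹ * g * nbG hA x w)) *ᵥ Pi.single x 1 = 0 := by
        rw [← Submodule.mem_bot F, ← h1]
        exact ⟨_, rfl⟩
      simpa using congrFun h2 x
    rw [gblk_nb, if_pos rfl] at hz
    have ev : toM g *ᵥ nbVec A x w =
        Sum.elim (Pi.single x (l * -(w ⬝ᵥ A *ᵥ w))) (Sum.elim (E *ᵥ w) (Pi.single x l)) := by
      funext i
      rw [e]
      rcases i with (i | i) | i | (i | i)
      · exact i.elim0
      · simp [emb, embIdx, mulVec, dotProduct, Fintype.sum_sum_type, nbVec, x, Pi.single_apply, Matrix.one_apply]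
        split_ifs <;> simp
      · simp [emb, embIdx, mulVec, dotProduct, Fintype.sum_sum_type, nbVec, x, hE]
      · exact i.elim0
      · simp [emb, embIdx, mulVec, dotProduct, Fintype.sum_sum_type, nbVec, x, Pi.single_apply, Matrix.one_apply]
    rw [ev, dot_polM] at hz
    simp [nbVec, Pi.single_apply, Function.comp_def] at hz
    refine sub_eq_zero.1 (han _ ?_)
    rw [sub_dotProduct, mulVec_sub, dotProduct_sub, dotProduct_sub, hmid, mulVec_smul, smul_dotProduct,
      dotProduct_smul, smul_dotProduct, dotProduct_smul, smul_eq_mul, smul_eq_mul, smul_eq_mul]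
    rw [← mulVec_mulVec, show (fun x => w x) = w from rfl, dot_gB] at hz
    linear_combination (-l) * hz + (-(w ⬝ᵥ A *ᵥ w)) * hl
  rw [e]
  ext ((i | i) | u | (i | i)) ((j | j) | v | (j | j))
  all_goals try exact i.elim0
  all_goals try exact j.elim0
  all_goals try simp [emb, embIdx, Matrix.one_apply]
  have := congrFun (hEw (Pi.single v 1)) u
  simpa [hE, mulVec_single, Pi.single_apply] using this

end CfsgLib.OmegaEvenComm
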