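import Cfsg.Agent.Lib.Classical.OmegaEvenComm.Split
import Cfsg.Agent.Lib.Classical.OmegaComm.Main

/-!
# A hyperbolic tail carrying `±1` fixes the spinor norms
-/

set_option autoImplicit false
set_option linter.unusedSectionVars false
set_option linter.unusedSimpArgs false

namespace CfsgLib.OmegaEvenComm

open Matrix CfsgLib.SUComm CfsgLib.Classical CfsgLib.Classical.Spin
open CfsgLib.OmegaComm (Cyc cyc_of_hess Hess Tail tail_one tail_neg)

variable {F : Type*} [Field F] [Fintype F] {α β ρ : Type} [Fintype α] [DecidableEq α] [Fintype β] [DecidableEq β]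
  [Fintype ρ] [DecidableEq ρ] {A : Matrix β β F}

/-- A nonzero element of prescribed quadratic character. -/
theorem exists_sqSign {z : ℤˣ} (hz : (2 : F) = 0 → z = 1) : ∃ c : F, c ≠ 0 ∧ sqSign c = z := by
  rcases Int.units_eq_one_or z with rfl | rfl
  · exact ⟨1, one_ne_zero, sqSign_one⟩
  · obtain ⟨c, hc⟩ := FiniteField.exists_nonsquare (F := F) (fun h => by
      have h2 : (2 : F) = 0 := by
        have := ringChar.Nat.cast_ringChar (R := F)
        rw [h] at this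
        exact_mod_cast this
      exact absurd (hz h2) (by decide))
    exact ⟨c, fun h => hc (h ▸ IsSquare.zero), sqSign_of_not hc⟩

theorem sqSign_eq_of_square {c d : F} (hc : c ≠ 0) (hd : d ≠ 0) (h : IsSquare (c * d)) : sqSign d = sqSign c := by
  have e : sqSign c * sqSign d = 1 := by rw [← sqSign_mul hc hd]; exact sqSign_eq_one.2 h
  calc sqSign d = sqSign c * sqSign c * sqSign d := by rw [Int.units_mul_self, one_mul]
    _ = sqSign c := by rw [mul_assoc, e, mul_one]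

theorem prod_comm {G : Type*} [Group G] {P Q U V : G} (pu : U * P = P * U) (pv : V * P = P * V)
    (qu : U * Q = Q * U) (qv : V * Q = Q * V) :
    P * U * (Q * V) * (P * U)⁻¹ * (Q * V)⁻¹ = P * Q * P⁻¹ * Q⁻¹ * (U * V * U⁻¹ * V⁻¹) := by
  have pu' : Commute U P := pu
  have pv' : Commute V P := pv
  have qu' : Commute U Q := qu
  have qv' : Commute V Q := qv
  calc P * U * (Q * V) * (P * U)⁻¹ * (Q * V)⁻¹
      = (P * U * (Q * V)) * ((U * P)⁻¹ * (V * Q)⁻¹) := by rw [pu, qv, mul_assoc]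
    _ = (P * Q * (U * V)) * (P⁻¹ * U⁻¹ * (Q⁻¹ * V⁻¹)) := by
        rw [qu'.mul_mul_mul_comm, _root_.mul_inv_rev, _root_.mul_inv_rev]
    _ = (P * Q * (U * V)) * (P⁻¹ * Q⁻¹ * (U⁻¹ * V⁻¹)) := by rw [(qu'.inv_inv).mul_mul_mul_comm]
    _ = _ := by
        rw [((pu'.mul_left pv').inv_right.mul_right (qu'.mul_left qv').inv_right).mul_mul_mul_comm]
        group

/-- The block diagonal element on the tail. -/
noncomputable def tailG (hA : IsUnit (gB A).det) (R : Matrix ρ ρ F) : Grp A (α ⊕ ρ) :=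
  mkG hA (lev (fromBlocks (1 : Matrix α α F) 0 0 R) 1)

theorem isUnit_det_tailBlock {R : Matrix ρ ρ F} (hR : IsUnit R.det) :
    IsUnit (fromBlocks (1 : Matrix α α F) 0 0 R).det := by
  rw [det_fromBlocks_zero₂₁, det_one, one_mul]; exact hR

theorem toM_tailG (hA : IsUnit (gB A).det) {R : Matrix ρ ρ F} (hR : IsUnit R.det) :
    toM (tailG (α := α) hA R) = emb (1 : Mat F α β) R (R⁻¹)ᵀ := by
  rw [tailG, toM_mkG hA (isom_lev (isUnit_det_tailBlock hR) (midIso_one A)), ← emb_lev (by simp) hR, lev_one]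

theorem tailG_comm (hA : IsUnit (gB A).det) {R : Matrix ρ ρ F} (hR : IsUnit R.det) (x : Grp A α) :
    tailG hA R * embG hA ρ x = embG hA ρ x * tailG hA R := by
  refine toM_injective ?_
  rw [toM_mul, toM_mul, toM_embG, toM_tailG hA hR, emb_mul, emb_mul]
  simp

theorem tailG_commutator (hA : IsUnit (gB A).det) {R R' : Matrix ρ ρ F} (hR : IsUnit R.det) (hR' : IsUnit R'.det)
    {l : F} (hl : l * l = 1) (e : l • (R' * R) = R * R') :
    tailG (α := α) hA R * tailG hA R' * (tailG hA R)⁻¹ * (tailG hA R')⁻¹ = tailG hA (l • 1) := by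
  rw [mul_inv_eq_iff_eq_mul, mul_inv_eq_iff_eq_mul]
  refine toM_injective ?_
  have hu : IsUnit (l • (1 : Matrix ρ ρ F)).det := by
    rw [det_smul, det_one, mul_one]
    exact isUnit_iff_ne_zero.2 (pow_ne_zero _ (left_ne_zero_of_mul_eq_one hl))
  have hi : (l • (1 : Matrix ρ ρ F))⁻¹ = l • 1 := inv_eq_right_inv (by simp [smul_smul, hl])
  simp only [toM_mul, toM_tailG hA hR, toM_tailG hA hR', toM_tailG hA hu, emb_mul, Matrix.one_mul, hi]
  have e2 : (R⁻¹)ᵀ * (R'⁻¹)ᵀ = (l • 1 : Matrix ρ ρ F)ᵀ * (R'⁻¹)ᵀ * (R⁻¹)ᵀ := by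
    rw [← transpose_mul, ← transpose_mul, ← transpose_mul, Matrix.mul_smul, Matrix.mul_one, Matrix.mul_smul]
    refine congrArg transpose ?_
    have hu2 : IsUnit (R * R').det := by rw [det_mul]; exact hR.mul hR'
    calc R'⁻¹ * R⁻¹ = (R * R')⁻¹ := (Matrix.mul_inv_rev _ _).symm
      _ = l • (R⁻¹ * R'⁻¹) := inv_eq_right_inv (by
          rw [← e, Matrix.mul_smul, Matrix.smul_mul, smul_smul, hl, one_smul, Matrix.mul_assoc,
            ← Matrix.mul_assoc R, mul_nonsing_inv _ hR, Matrix.one_mul, mul_nonsing_inv _ hR'])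
  rw [show R * R' = l • 1 * R' * R by rw [Matrix.smul_mul, Matrix.one_mul, Matrix.smul_mul, e], e2]

/-- An element that is a sum of a small cell and a scalar tail. -/
theorem isC_tail {k e s : ℕ} (hA : IsUnit (gB A).det) (hc2 : Cls2 A) (hT : Two A) (hO : Odd2 A) (hk : 0 < k)
    (hev : (∃ w : β → F, w ⬝ᵥ A *ᵥ w ≠ 0) ∨ Even k) (he : e ≤ 1) (hs : 0 < s) (hN : 3 ≤ k + e + s)
    (hsize : k + e = 2 → (2 : F) ≠ 0) {l : F} (hl : l * l = 1) (htail : l = 1 ∨ Even s)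
    (hbad : (∀ w : β → F, w ⬝ᵥ A *ᵥ w = 0) → IsSquare (l ^ e) → l = 1 ∨ e = 0)
    {g : Grp A ((Fin k ⊕ Fin e) ⊕ Fin s)} {g₀ : Grp A (Fin k)}
    (eg : toM g = emb (emb (toM g₀) (l • (1 : Matrix (Fin e) (Fin e) F)) (l • 1)) (l • 1) (l • 1))
    (hG : IsUnit (gblk (toM g₀)).det) (hΩ : g ∈ commutator (Grp A ((Fin k ⊕ Fin e) ⊕ Fin s))) : IsC g := by
  classical
  have hl0 : l ≠ 0 := left_ne_zero_of_mul_eq_one hl
  have hli : ∀ {γ : Type} [Fintype γ] [DecidableEq γ], IsUnit (l • (1 : Matrix γ γ F)).det ∧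
      ((l • (1 : Matrix γ γ F))⁻¹)ᵀ = l • 1 := fun {γ} _ _ => by
    refine ⟨?_, ?_⟩
    · rw [det_smul, det_one, mul_one]
      exact isUnit_iff_ne_zero.2 (pow_ne_zero _ hl0)
    · rw [inv_eq_right_inv (B := l • (1 : Matrix γ γ F)) (by simp [smul_smul, hl]), transpose_smul, transpose_one]
  obtain ⟨g₁, hg₁⟩ : ∃ g₁ : Grp A (Fin k ⊕ Fin e),
      toM g₁ = emb (toM g₀) (l • (1 : Matrix (Fin e) (Fin e) F)) (l • 1) := by
    have := isom_emb (isom_toM g₀) (hli (γ := Fin e)).1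
    rw [(hli (γ := Fin e)).2] at this
    exact ⟨mkG hA _, toM_mkG hA this⟩
  rw [← hg₁] at eg
  have hsplit : g = embG hA (Fin s) g₁ * tailG hA (l • 1) := toM_injective (by
    rw [eg, toM_mul, toM_embG, toM_tailG hA hli.1, emb_mul, hli.2]
    simp)
  obtain ⟨D, θ, hΩ', hlev, hmid, -, hθ2⟩ := exists_cls (α := (Fin k ⊕ Fin e) ⊕ Fin s) hA (by simp; omega)
  obtain ⟨χ₁, hχ₁⟩ : ∃ χ₁, χ₁ = D.comp (embG (α := Fin k ⊕ Fin e) hA (Fin s)) := ⟨_, rfl⟩
  obtain ⟨θ₁, hθ₁⟩ : ∃ θ₁, θ₁ = θ.comp (embG (α := Fin k ⊕ Fin e) hA (Fin s)) := ⟨_, rfl⟩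
  have hDg := (hΩ' g).1 hΩ
  have hlev₁ : ∀ T : Matrix (Fin k ⊕ Fin e) (Fin k ⊕ Fin e) F, IsUnit T.det →
      χ₁ (mkG hA (lev T 1)) = 1 ∧ θ₁ (mkG hA (lev T 1)) = sqSign T.det := fun T hT' => by
    have hu : IsUnit (fromBlocks T 0 0 (1 : Matrix (Fin s) (Fin s) F)).det := by
      rw [det_fromBlocks_zero₂₁, det_one, mul_one]; exact hT'
    rw [hχ₁, hθ₁, MonoidHom.comp_apply, MonoidHom.comp_apply, embG_lev hA hT' (midIso_one A), (hlev _ hu).1,
      (hlev _ hu).2, det_fromBlocks_zero₂₁, det_one, mul_one]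
    exact ⟨rfl, rfl⟩
  have hodd₁ : ∀ w : β → F, w ⬝ᵥ A *ᵥ w ≠ 0 →
      χ₁ (mkG hA (lev (1 : Matrix (Fin k ⊕ Fin e) (Fin k ⊕ Fin e) F) (midRefl A w))) =
        Multiplicative.ofAdd 1 := fun w hw => by
    rw [hχ₁, MonoidHom.comp_apply, embG_lev hA (by simp) (midIso_midRefl A hw), fromBlocks_one, (hmid w hw).1]
  have htl : D (tailG hA (l • (1 : Matrix (Fin s) (Fin s) F))) = 1 ∧
      θ (tailG (α := Fin k ⊕ Fin e) hA (l • (1 : Matrix (Fin s) (Fin s) F))) = 1 := by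
    obtain ⟨h1, h2⟩ := hlev (fromBlocks (1 : Matrix (Fin k ⊕ Fin e) (Fin k ⊕ Fin e) F) 0 0
      (l • (1 : Matrix (Fin s) (Fin s) F))) (isUnit_det_tailBlock hli.1)
    refine ⟨h1, h2.trans (sqSign_eq_one.2 ?_)⟩
    rw [det_fromBlocks_zero₂₁, det_one, one_mul, det_smul, det_one, mul_one, Fintype.card_fin]
    rcases htail with rfl | ⟨p, rfl⟩
    · simp
    · exact ⟨l ^ p, by rw [pow_add]⟩
  have hχg : χ₁ g₁ = 1 := by
    have := hDg.1
    rw [hsplit, map_mul, htl.1, mul_one] at this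
    rw [hχ₁]; exact this
  have hθg : θ₁ g₁ = 1 := by
    have := hDg.2
    rw [hsplit, map_mul, htl.2, mul_one] at this
    rw [hθ₁]; exact this
  have hcell1 : Cell A (1 : Matrix (Fin k ⊕ Fin e) (Fin k ⊕ Fin e) F) := by
    have := (cell_of hA hT hO (k := k + e) (by omega) hsize (Or.inl rfl)).submatrix finSumFinEquiv
    rwa [submatrix_one_equiv] at this
  have hV : ∃ (T : Matrix (Fin k ⊕ Fin e) (Fin k ⊕ Fin e) F) (τ : Matrix β β F), Valid A T τ := by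
    obtain ⟨T, τ, P, R, h, -⟩ := hcell1
    exact ⟨T, τ, h⟩
  have hsg : SGood g₁ := sgood_of_chars hA hV χ₁ θ₁ hlev₁ hodd₁ hχg hθg
  obtain ⟨hb1, hb2, hb3⟩ := parts_emb (toM g₀) (l • (1 : Matrix (Fin e) (Fin e) F)) (l • 1)
  rw [← hg₁] at hb1 hb2 hb3
  obtain ⟨a, ha, hR⟩ := exists_good_corner hA hc2 hk hev hG hb1 hb2 hb3 (Or.inr hl0) hsg
  obtain ⟨x, hcell, hsch⟩ : ∃ x : Grp A (Fin k ⊕ Fin e),
      Cell A (corner (toM (x * g₁ * x⁻¹))) ∧ schur (toM (x * g₁ * x⁻¹)) = 1 := by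
    rcases ha with ⟨hH, hd⟩ | ⟨ha1, hw⟩
    · obtain ⟨R, hRdef⟩ : ∃ R : Matrix (Fin e) (Fin k) F,
          R = Matrix.of fun _ (j : Fin k) => if (j : ℕ) + 1 = k then 1 else 0 := ⟨_, rfl⟩
      obtain ⟨x, hx, hxs⟩ := hR R
      refine ⟨x, ?_, hxs⟩
      obtain ⟨C, hC⟩ : ∃ C, C = fromBlocks a 0 R (l • (1 : Matrix (Fin e) (Fin e) F)) := ⟨_, rfl⟩
      rw [← hC] at hx
      rw [hx]
      have hCH : Hess (C.submatrix finSumFinEquiv.symm finSumFinEquiv.symm) := fun i j => by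
        obtain ⟨i, rfl⟩ := finSumFinEquiv.surjective i
        obtain ⟨j, rfl⟩ := finSumFinEquiv.surjective j
        rcases i with i | i <;> rcases j with j | j <;>
          simp only [hC, submatrix_apply, Equiv.symm_apply_apply, fromBlocks_apply₁₁, fromBlocks_apply₁₂,
            fromBlocks_apply₂₁, fromBlocks_apply₂₂, finSumFinEquiv_apply_left, finSumFinEquiv_apply_right,
            Fin.val_castAdd, Fin.val_natAdd, finSumFinEquiv_symm_apply_castAdd, finSumFinEquiv_symm_apply_natAdd]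
        · exact hH i j
        · exact ⟨fun _ => rfl, fun h => by omega⟩
        · refine ⟨fun h => ?_, fun h => ?_⟩
          · rw [hRdef, of_apply, if_neg (by omega)]
          · rw [hRdef, of_apply, if_pos (by omega)]; exact one_ne_zero
        · exact ⟨fun h => by omega, fun h => by omega⟩
      have hCd : (C.submatrix finSumFinEquiv.symm finSumFinEquiv.symm).det = 1 := by
        rw [det_submatrix_equiv_self, hC, det_fromBlocks_zero₁₂, det_smul, det_one, mul_one, hd]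
      have := (cell_of hA hT hO (by omega) hsize (Or.inr ⟨cyc_of_hess hCH, hCd⟩)).submatrix finSumFinEquiv
      rwa [submatrix_submatrix, Equiv.symm_comp_self, submatrix_id_id] at this
    · obtain ⟨x, hx, hxs⟩ := hR 0
      refine ⟨x, ?_, hxs⟩
      have hdet : (corner (toM (x * g₁ * x⁻¹))).det = l ^ e := by
        rw [hx, ha1, det_fromBlocks_zero₁₂, det_one, det_smul, det_one, one_mul, mul_one, Fintype.card_fin]
      have hsq : IsSquare (l ^ e) :=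
        hdet ▸ (hsg x (by rw [hdet]; exact isUnit_iff_ne_zero.2 (pow_ne_zero _ hl0))).2.2 hxs
      have : fromBlocks a 0 0 (l • (1 : Matrix (Fin e) (Fin e) F)) = 1 := by
        rw [ha1, ← fromBlocks_one]
        rcases hbad hw hsq with rfl | rfl
        · rw [one_smul]
        · exact congrArg _ (Subsingleton.elim _ _)
      rw [hx, this]
      exact hcell1
  have hrot₁ : ∀ w u : β → F, w ⬝ᵥ A *ᵥ w ≠ 0 → u ⬝ᵥ A *ᵥ u ≠ 0 →
      χ₁ (mkG hA (lev (1 : Matrix (Fin k ⊕ Fin e) (Fin k ⊕ Fin e) F) (midRefl A w * midRefl A u))) = 1 := by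
    intro w u hw hu
    have h1u : IsUnit (1 : Matrix (Fin k ⊕ Fin e) (Fin k ⊕ Fin e) F).det := by simp
    rw [show (lev 1 (midRefl A w * midRefl A u) : Mat F (Fin k ⊕ Fin e) β) = lev 1 (midRefl A w) * lev 1 (midRefl A u)
      by rw [lev_mul, Matrix.one_mul], ← mkG_mul hA (isom_lev h1u (midIso_midRefl A hw))
      (isom_lev h1u (midIso_midRefl A hu)), map_mul, hodd₁ w hw, hodd₁ u hu]
    rfl
  obtain ⟨h, X, Y, hX, hY, he'⟩ := semi_of_cell hA χ₁ (fun T hT' => (hlev₁ T hT').1) hrot₁ hcell hsch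
  have hg1 : g₁ = (x⁻¹ * h) * (X * Y * X⁻¹ * Y⁻¹) * (x⁻¹ * h)⁻¹ := by
    calc g₁ = x⁻¹ * (x * g₁ * x⁻¹) * x := by group
      _ = _ := by rw [he']; group
  have hTail : Tail F (Fin s) l := by
    rcases mul_self_eq_one_iff.1 hl with rfl | rfl
    · haveI : Nonempty (Fin s) := ⟨⟨0, hs⟩⟩
      exact tail_one
    · rcases eq_or_ne (2 : F) 0 with h2 | h2
      · haveI : Nonempty (Fin s) := ⟨⟨0, hs⟩⟩
        rw [show (-1 : F) = 1 by linear_combination -h2]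
        exact tail_one
      · exact tail_neg h2 (htail.resolve_left fun h => h2 (by linear_combination -h)) hs
  obtain ⟨c, hc, hcX⟩ := exists_sqSign (F := F) (z := θ₁ X) (fun h2 => by rw [hθ₁]; exact hθ2 h2 _)
  obtain ⟨c', hc', hcY⟩ := exists_sqSign (F := F) (z := θ₁ Y) (fun h2 => by rw [hθ₁]; exact hθ2 h2 _)
  obtain ⟨R, R', hRu, hR'u, hsq, hsq', hRR⟩ := hTail.2 c c' hc hc'
  have hmem : ∀ (Z : Grp A (Fin k ⊕ Fin e)) (M : Matrix (Fin s) (Fin s) F), IsUnit M.det → χ₁ Z = 1 →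
      sqSign M.det = θ₁ Z → embG hA (Fin s) Z * tailG hA M ∈ commutator (Grp A ((Fin k ⊕ Fin e) ⊕ Fin s)) := by
    intro Z M hM h1 h2
    obtain ⟨l1, l2⟩ := hlev (fromBlocks (1 : Matrix (Fin k ⊕ Fin e) (Fin k ⊕ Fin e) F) 0 0 M)
      (isUnit_det_tailBlock hM)
    rw [det_fromBlocks_zero₂₁, det_one, one_mul] at l2
    refine (hΩ' _).2 ⟨?_, ?_⟩
    · rw [map_mul, show D (embG hA (Fin s) Z) = χ₁ Z by rw [hχ₁]; rfl, h1, one_mul]
      exact l1
    · rw [map_mul, show θ (embG hA (Fin s) Z) = θ₁ Z by rw [hθ₁]; rfl, show θ (tailG hA M) = sqSign M.det from l2, h2]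
      exact Int.units_mul_self _
  have hXm := hmem X R hRu hX ((sqSign_eq_of_square hc hRu.ne_zero hsq).trans hcX)
  have hYm := hmem Y R' hR'u hY ((sqSign_eq_of_square hc' hR'u.ne_zero hsq').trans hcY)
  refine IsC.of_conj (z := (embG hA (Fin s) (x⁻¹ * h))⁻¹) ⟨_, hXm, _, hYm, ?_⟩
  rw [hsplit, hg1]
  simp only [map_mul, map_inv]
  have c1 := tailG_comm hA hRu Y
  have c3 := tailG_comm hA hR'u X
  have c4 := tailG_comm hA (hli (γ := Fin s)).1 (x⁻¹ * h)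
  rw [map_mul, map_inv] at c4
  have key := tailG_commutator (α := Fin k ⊕ Fin e) hA hRu hR'u hl hRR
  obtain ⟨H, hH⟩ : ∃ H, H = (embG hA (Fin s) x)⁻¹ * embG hA (Fin s) h := ⟨_, rfl⟩
  obtain ⟨P, hP⟩ : ∃ P, P = embG hA (Fin s) X := ⟨_, rfl⟩
  obtain ⟨Q, hQ⟩ : ∃ Q, Q = embG hA (Fin s) Y := ⟨_, rfl⟩
  obtain ⟨U, hU⟩ : ∃ U, U = tailG (α := Fin k ⊕ Fin e) hA R := ⟨_, rfl⟩
  obtain ⟨V, hV'⟩ : ∃ V, V = tailG (α := Fin k ⊕ Fin e) hA R' := ⟨_, rfl⟩
  obtain ⟨L, hL⟩ : ∃ L, L = tailG (α := Fin k ⊕ Fin e) hA (l • (1 : Matrix (Fin s) (Fin s) F)) := ⟨_, rfl⟩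
  rw [← hU, ← hV', ← hL] at key
  rw [← hU, ← hQ] at c1
  rw [← hV', ← hP] at c3
  rw [← hL, ← hH] at c4
  rw [← hH, ← hP, ← hQ, ← hU, ← hV', ← hL]
  calc H⁻¹ * (H * (P * Q * P⁻¹ * Q⁻¹) * H⁻¹ * L) * H⁻¹⁻¹
      = (P * Q * P⁻¹ * Q⁻¹) * (H⁻¹ * (L * H)) := by group
    _ = (P * Q * P⁻¹ * Q⁻¹) * L := by rw [c4]; group
    _ = (P * Q * P⁻¹ * Q⁻¹) * (U * V * U⁻¹ * V⁻¹) := by rw [key]
    _ = _ := (prod_comm (by rw [hU, hP]; exact tailG_comm hA hRu X) c3 c1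
      (by rw [hV', hQ]; exact tailG_comm hA hR'u Y)).symm

end CfsgLib.OmegaEvenComm
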